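import Groth.Agent.Lib.SchDesc12.Glue
import Groth.Agent.Lib.AlgSpace.AffineDescent

/-!
# Effective descent of affine schemes along faithfully flat maps of affine schemes
-/

universe u

open CategoryTheory CategoryTheory.Limits AlgebraicGeometry Opposite TopologicalSpace
open scoped TensorProduct

set_option backward.isDefEq.respectTransparency.types false

namespace Groth.Agent.SchDesc12

section

variable {B C O : Type u} [CommRing B] [CommRing C] [CommRing O] [Algebra B C] [Algebra B O]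

/-- The map of spectra of a map of algebras. -/
noncomputable abbrev sMap {R R' : Type u} [CommRing R] [CommRing R'] [Algebra B R] [Algebra B R']
    (φ : R →ₐ[B] R') : Spec (CommRingCat.of R') ⟶ Spec (CommRingCat.of R) :=
  Spec.map (CommRingCat.ofHom φ.toRingHom)

theorem sMap_comp {R R' R'' : Type u} [CommRing R] [CommRing R'] [CommRing R''] [Algebra B R]
    [Algebra B R'] [Algebra B R''] (φ : R →ₐ[B] R') (ψ : R' →ₐ[B] R'') :
    sMap (ψ.comp φ) = sMap ψ ≫ sMap φ := by
  rw [sMap, sMap, sMap, ← Spec.map_comp, ← CommRingCat.ofHom_comp]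
  rfl

theorem sMap_id {R : Type u} [CommRing R] [Algebra B R] : sMap (AlgHom.id B R) = 𝟙 _ :=
  Spec.map_id _

theorem sMap_injective {R R' : Type u} [CommRing R] [CommRing R'] [Algebra B R] [Algebra B R'] :
    Function.Injective (sMap : (R →ₐ[B] R') → _) := fun φ ψ h => by
  have := Spec.map_injective h
  exact AlgHom.ext fun x => congrArg (fun f : CommRingCat.of R ⟶ CommRingCat.of R' => f x) this

theorem sMap_base {R R' : Type u} [CommRing R] [CommRing R'] [Algebra B R] [Algebra B R']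
    (φ : R →ₐ[B] R') : sMap φ ≫ Spec.map (CommRingCat.ofHom (algebraMap B R)) =
      Spec.map (CommRingCat.ofHom (algebraMap B R')) := by
  rw [sMap, ← Spec.map_comp, ← CommRingCat.ofHom_comp]
  exact congrArg (fun f => Spec.map (CommRingCat.ofHom f)) φ.comp_algebraMap

theorem exists_sMap {R R' : Type u} [CommRing R] [CommRing R'] [Algebra B R] [Algebra B R']
    {g : Spec (CommRingCat.of R') ⟶ Spec (CommRingCat.of R)}
    (h : g ≫ Spec.map (CommRingCat.ofHom (algebraMap B R)) =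
      Spec.map (CommRingCat.ofHom (algebraMap B R'))) : ∃ φ : R →ₐ[B] R', sMap φ = g := by
  obtain ⟨f, hf⟩ := Spec.map_surjective g
  have e : Spec.map (CommRingCat.ofHom (algebraMap B R) ≫ f) =
      Spec.map (CommRingCat.ofHom (algebraMap B R')) := by rw [Spec.map_comp, hf, h]
  exact ⟨{ toRingHom := f.hom,
           commutes' := RingHom.congr_fun (congrArg CommRingCat.Hom.hom (Spec.map_injective e)) },
    hf⟩

theorem isPullback_sMap (R R' : Type u) [CommRing R] [CommRing R'] [Algebra B R] [Algebra B R'] :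
    IsPullback (sMap (Algebra.TensorProduct.includeLeft : R →ₐ[B] R ⊗[B] R'))
      (sMap (Algebra.TensorProduct.includeRight : R' →ₐ[B] R ⊗[B] R'))
      (Spec.map (CommRingCat.ofHom (algebraMap B R)))
      (Spec.map (CommRingCat.ofHom (algebraMap B R'))) :=
  isPullback_SpecMap_of_isPushout _ _ _ _ (CommRingCat.isPushout_tensorProduct B R R')

/-- Effective descent of a spectrum along a flat map of affine schemes. -/
theorem isEffective_spec [Module.Flat B C] (γ : C →ₐ[B] O)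
    (D : Desc.SchDDFam (fun _ : PUnit.{u + 1} => Spec.map (CommRingCat.ofHom (algebraMap B C))))
    (hf : Presieve.ofArrows (fun _ : PUnit.{u + 1} => Spec (CommRingCat.of C))
      (fun _ => Spec.map (CommRingCat.ofHom (algebraMap B C))) ∈
        Scheme.fpqcPrecoverage (Spec (CommRingCat.of B)))
    (e : (D.obj ⟨⟩).left ≅ Spec (CommRingCat.of O)) (he : e.hom ≫ sMap γ = (D.obj ⟨⟩).hom) :
    D.IsEffective := by
  let p := Spec.map (CommRingCat.ofHom (algebraMap B C))
  let prC : Spec (CommRingCat.of (C ⊗[B] O)) ⟶ Spec (CommRingCat.of C) :=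
    sMap (Algebra.TensorProduct.includeLeft : C →ₐ[B] C ⊗[B] O)
  let prO : Spec (CommRingCat.of (C ⊗[B] O)) ⟶ Spec (CommRingCat.of O) :=
    sMap (Algebra.TensorProduct.includeRight : O →ₐ[B] C ⊗[B] O)
  have he' : e.inv ≫ (D.obj ⟨⟩).hom = sMap γ := by rw [Iso.inv_comp_eq, he]
  have hpr : (prO ≫ sMap γ) ≫ p = prC ≫ p := by
    rw [Category.assoc, sMap_base, sMap_base, sMap_base]
  let v : Desc.Lifts (D.obj ⟨⟩) (prO ≫ sMap γ) :=
    ⟨prO ≫ e.inv, by rw [Category.assoc, he']⟩
  let v' : Desc.Lifts (D.obj ⟨⟩) prC := D.φ (prO ≫ sMap γ) prC hpr v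
  obtain ⟨g, hg⟩ : ∃ g : Spec (CommRingCat.of (C ⊗[B] O)) ⟶ Spec (CommRingCat.of O),
      g = v'.1 ≫ e.hom := ⟨_, rfl⟩
  have hg1 : g ≫ sMap γ = prC := by
    rw [hg, Category.assoc, he]; exact v'.2
  obtain ⟨α, hα⟩ := exists_sMap (g := g) (by
    rw [← sMap_base γ, reassoc_of% hg1, sMap_base])
  have hv' : v'.1 = g ≫ e.inv := by simp [hg]
  -- the translation on an arbitrary point
  have key : ∀ {T : Scheme.{u}} (c : T ⟶ Spec (CommRingCat.of (C ⊗[B] O)))
      (x₀ x₁ : T ⟶ Spec (CommRingCat.of C)) (h : x₀ ≫ p = x₁ ≫ p)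
      (w : Desc.Lifts (D.obj ⟨⟩) x₀), c ≫ prO ≫ sMap γ = x₀ → c ≫ prC = x₁ →
      w.1 = c ≫ prO ≫ e.inv → (D.φ x₀ x₁ h w).1 = c ≫ g ≫ e.inv := by
    intro T c x₀ x₁ h w h₀ h₁ hw
    rw [← hv']
    exact D.φ_natural c (prO ≫ sMap γ) prC hpr x₀ x₁ h₀ h₁ h v w hw
  have h1 : α.comp γ = Algebra.TensorProduct.includeLeft :=
    sMap_injective (by rw [sMap_comp, hα]; exact hg1)
  have hmuC : sMap (AlgSpace.AffineDescent.mu γ) ≫ prC = sMap γ := by
    rw [← sMap_comp]; exact congrArg _ (AlgHom.ext fun c => by simp [AlgSpace.AffineDescent.mu])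
  have hmuO : sMap (AlgSpace.AffineDescent.mu γ) ≫ prO = 𝟙 _ := by
    rw [← sMap_comp, ← sMap_id (B := B)]
    exact congrArg _ (AlgHom.ext fun c => by simp [AlgSpace.AffineDescent.mu])
  have h2 : (AlgSpace.AffineDescent.mu γ).comp α = AlgHom.id B O := sMap_injective (by
    rw [sMap_comp, hα, sMap_id, ← cancel_mono e.inv, Category.assoc, Category.id_comp]
    rw [← key (sMap (AlgSpace.AffineDescent.mu γ)) (sMap γ) (sMap γ) rfl ⟨e.inv, he'⟩
      (by rw [← Category.assoc, hmuO, Category.id_comp]) hmuC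
      (by rw [← Category.assoc, hmuO, Category.id_comp]), D.φ_self])
  have h3 : (Algebra.TensorProduct.map (AlgHom.id B C) α).comp α =
      (Algebra.TensorProduct.map (AlgHom.id B C) Algebra.TensorProduct.includeRight).comp α := by
    refine sMap_injective ?_
    rw [sMap_comp, sMap_comp, hα]
    set a := sMap (Algebra.TensorProduct.map (AlgHom.id B C) α) with ha
    set b := sMap (Algebra.TensorProduct.map (AlgHom.id B C)
      (Algebra.TensorProduct.includeRight : O →ₐ[B] C ⊗[B] O)) with hb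
    let q : Spec (CommRingCat.of (C ⊗[B] (C ⊗[B] O))) ⟶ Spec (CommRingCat.of (C ⊗[B] O)) :=
      sMap (Algebra.TensorProduct.includeRight : C ⊗[B] O →ₐ[B] C ⊗[B] (C ⊗[B] O))
    have haC : a ≫ prC = b ≫ prC := by
      rw [ha, hb, ← sMap_comp, ← sMap_comp]
      exact congrArg _ (AlgHom.ext fun c => by simp)
    have haO : a ≫ prO = q ≫ g := by
      rw [ha, ← hα, ← sMap_comp, ← sMap_comp]
      exact congrArg _ (AlgHom.ext fun c => by simp)
    have hbO : b ≫ prO = q ≫ prO := by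
      rw [hb, ← sMap_comp, ← sMap_comp]
      exact congrArg _ (AlgHom.ext fun c => by simp)
    rw [← cancel_mono e.inv, Category.assoc, Category.assoc]
    have e₁ : (q ≫ prO ≫ sMap γ) ≫ p = (q ≫ prC) ≫ p := by
      rw [Category.assoc, hpr, Category.assoc]
    have e₂ : (q ≫ prC) ≫ p = (b ≫ prC) ≫ p := by
      simp only [Category.assoc, prC, q, hb, p, sMap_base]
    let w : Desc.Lifts (D.obj ⟨⟩) (q ≫ prO ≫ sMap γ) :=
      ⟨q ≫ prO ≫ e.inv, by simp only [Category.assoc, he']⟩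
    let w' : Desc.Lifts (D.obj ⟨⟩) (q ≫ prC) :=
      ⟨q ≫ g ≫ e.inv, by simp only [Category.assoc, he', hg1]⟩
    have k₁ : D.φ (q ≫ prO ≫ sMap γ) (q ≫ prC) e₁ w = w' :=
      Subtype.ext (key q _ _ e₁ w rfl rfl rfl)
    rw [← key a (q ≫ prC) (b ≫ prC) e₂ w' (by
        rw [← Category.assoc, haO, Category.assoc, hg1]) haC
        (show q ≫ g ≫ e.inv = _ by rw [← Category.assoc a, haO, Category.assoc]),
      ← key b (q ≫ prO ≫ sMap γ) (b ≫ prC) (e₁.trans e₂) w (by
        rw [← Category.assoc, hbO, Category.assoc]) rfl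
        (show q ≫ prO ≫ e.inv = _ by rw [← Category.assoc b, hbO, Category.assoc]),
      ← k₁, D.φ_comp]
  let Asub := AlgHom.equalizer α (Algebra.TensorProduct.includeRight : O →ₐ[B] C ⊗[B] O)
  let ψ : C ⊗[B] Asub →ₐ[B] O :=
    (AlgSpace.AffineDescent.mu γ).comp (Algebra.TensorProduct.map (AlgHom.id B C) Asub.val)
  let ψe : C ⊗[B] Asub ≃ₐ[B] O :=
    AlgEquiv.ofBijective ψ (AlgSpace.AffineDescent.bijective_mu_comp γ α h1 h2 h3)
  let E : Spec (CommRingCat.of O) ≅ Spec (CommRingCat.of (C ⊗[B] Asub)) :=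
    ⟨sMap ψe.toAlgHom, sMap ψe.symm.toAlgHom,
      by rw [← sMap_comp, ← sMap_id (B := B)]; exact congrArg _ (AlgHom.ext fun c => by simp),
      by rw [← sMap_comp, ← sMap_id (B := B)]; exact congrArg _ (AlgHom.ext fun c => by simp)⟩
  have hE1 : E.hom ≫ sMap (Algebra.TensorProduct.includeLeft : C →ₐ[B] C ⊗[B] Asub) = sMap γ := by
    show sMap ψe.toAlgHom ≫ _ = _
    rw [← sMap_comp]
    exact congrArg _ (AlgHom.ext fun c => by simp [ψe, ψ, AlgSpace.AffineDescent.mu])
  have hE2 : E.hom ≫ sMap (Algebra.TensorProduct.includeRight : Asub →ₐ[B] C ⊗[B] Asub) =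
      sMap Asub.val := by
    show sMap ψe.toAlgHom ≫ _ = _
    rw [← sMap_comp]
    exact congrArg _ (AlgHom.ext fun c => by simp [ψe, ψ, AlgSpace.AffineDescent.mu])
  let W : (D.obj ⟨⟩).left.Opens := ⊤
  have : IsIso W.ι := inferInstanceAs (IsIso (Scheme.topIso _).hom)
  have sq' : IsPullback (e.hom ≫ sMap Asub.val) (D.obj ⟨⟩).hom
      (Spec.map (CommRingCat.ofHom (algebraMap B Asub))) p :=
    IsPullback.of_iso (isPullback_sMap C Asub).flip (E.symm ≪≫ e.symm) (Iso.refl _) (Iso.refl _)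
      (Iso.refl _) (by simp [← hE2]) (by simp [← he, ← hE1]) (by simp) (by simp [p])
  refine isEffective_of_charts D hf (κ := PUnit.{u + 1}) (fun _ =>
    { W := fun _ => W
      U := Spec (CommRingCat.of Asub)
      π := Spec.map (CommRingCat.ofHom (algebraMap B Asub))
      q := fun _ => W.ι ≫ e.hom ≫ sMap Asub.val
      sq := fun _ => IsPullback.of_iso sq' (asIso W.ι).symm (Iso.refl _) (Iso.refl _) (Iso.refl _)
        (by simp) (by simp [p]) (by simp) (by simp [p])
      stable := fun T _ _ x₀ x₁ h w w₀ hw => ?_ }) fun i v => ⟨⟨⟩, trivial⟩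
  refine ⟨(D.φ x₀ x₁ h w).1 ≫ inv W.ι, by rw [Category.assoc, IsIso.inv_hom_id, Category.comp_id],
    ?_⟩
  have hw' : (w.1 ≫ e.hom) ≫ sMap γ = x₀ := by
    rw [Category.assoc, he]; exact w.2
  have hwp : x₁ ≫ p = (w.1 ≫ e.hom) ≫ Spec.map (CommRingCat.ofHom (algebraMap B O)) := by
    rw [← sMap_base γ, ← Category.assoc (w.1 ≫ e.hom), hw']
    exact h.symm
  let c := (isPullback_sMap C O).lift x₁ (w.1 ≫ e.hom) hwp
  have hc₁ : c ≫ prC = x₁ := (isPullback_sMap C O).lift_fst _ _ _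
  have hc₂ : c ≫ prO = w.1 ≫ e.hom := (isPullback_sMap C O).lift_snd _ _ _
  have k := key c x₀ x₁ h w (by rw [← Category.assoc, hc₂, Category.assoc, he, w.2]) hc₁
    (by rw [← Category.assoc, hc₂, Category.assoc, Iso.hom_inv_id, Category.comp_id])
  have hA : g ≫ sMap Asub.val = prO ≫ sMap Asub.val := by
    rw [← hα, ← sMap_comp, ← sMap_comp]
    exact congrArg _ (AlgHom.ext fun a => a.2)
  show ((D.φ x₀ x₁ h w).1 ≫ inv W.ι) ≫ W.ι ≫ e.hom ≫ sMap Asub.val =
    w₀ ≫ W.ι ≫ e.hom ≫ sMap Asub.val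
  rw [← Category.assoc w₀, hw, Category.assoc, IsIso.inv_hom_id_assoc, k]
  simp only [Category.assoc, Iso.inv_hom_id_assoc, hA]
  rw [← Category.assoc c, hc₂, Category.assoc]

end

/-- Descent data with affine total space along faithfully flat maps of affine schemes are
effective. -/
theorem isEffective_affine {B C : CommRingCat.{u}} (a : B ⟶ C) [Flat (Spec.map a)]
    [Surjective (Spec.map a)] (D : Desc.SchDDFam (fun _ : PUnit.{u + 1} => Spec.map a))
    [IsAffine (D.obj ⟨⟩).left] : D.IsEffective := by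
  letI algC : Algebra B C := a.hom.toAlgebra
  let e : (D.obj ⟨⟩).left ≅ Spec Γ((D.obj ⟨⟩).left, ⊤) := (D.obj ⟨⟩).left.isoSpec
  obtain ⟨γ', hγ'⟩ := Spec.map_surjective (e.inv ≫ (D.obj ⟨⟩).hom)
  letI algO : Algebra B Γ((D.obj ⟨⟩).left, ⊤) := (a ≫ γ').hom.toAlgebra
  let γ : C →ₐ[B] Γ((D.obj ⟨⟩).left, ⊤) :=
    { toRingHom := γ'.hom, commutes' := fun _ => rfl }
  have : Module.Flat B C := HasRingHomProperty.Spec_iff.1 ‹Flat (Spec.map a)›
  have hf : Presieve.ofArrows (fun _ : PUnit.{u + 1} => Spec C) (fun _ => Spec.map a) ∈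
      Scheme.fpqcPrecoverage (Spec B) := by
    rw [Presieve.ofArrows_pUnit]
    exact Scheme.Hom.singleton_mem_fpqcPrecoverage _
  exact isEffective_spec γ D hf e (by
    show e.hom ≫ Spec.map γ' = _
    rw [hγ', Iso.hom_inv_id_assoc])

end Groth.Agent.SchDesc12
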