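import Groth.Agent.Lib.SchDesc12.Descend
import Groth.Agent.Lib.SchDesc12.Affine

/-!
# Effectivity criteria for fpqc descent data of schemes
-/

universe u

open CategoryTheory CategoryTheory.Limits AlgebraicGeometry Opposite TopologicalSpace

set_option backward.isDefEq.respectTransparency.types false

namespace Groth.Agent.SchDesc12

variable {S : Scheme.{u}} {ι : Type u} {X : ι → Scheme.{u}} {f : ∀ i, X i ⟶ S}
  {D : Desc.SchDDFam f}

/-- The one-member family of a flat quasi-compact surjection is a covering. -/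
theorem single_mem_fpqc {X S : Scheme.{u}} (p : X ⟶ S) [Flat p] [Surjective p] [QuasiCompact p] :
    Presieve.ofArrows (fun _ : PUnit.{u + 1} => X) (fun _ => p) ∈ Scheme.fpqcPrecoverage S := by
  rw [Presieve.ofArrows_pUnit]
  exact Scheme.Hom.singleton_mem_fpqcPrecoverage _

/-- Effectivity for single morphisms. -/
theorem exists_iso_of_isEffective {X S : Scheme.{u}} {p : X ⟶ S} (D : Desc.SchDD p)
    (h : ((Desc.SchDDFam.ofSchDD.{u} p).obj D).IsEffective) :
    ∃ U : Over S, Nonempty ((Desc.toDD p).obj U ≅ D) := by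
  obtain ⟨U, ⟨e⟩⟩ := h
  exact ⟨U, ⟨(Desc.SchDDFam.toSchDD.{u} p).mapIso e⟩⟩

/-- A variant of `GrpQuot.SubDesc.exists_affine_cover` with open affine pieces of the family. -/
theorem exists_affine_cover_open (hqc : GrpQuot.SubDesc.IsQCCovering f)
    (V : S.affineOpens) :
    ∃ (n : ℕ) (a : Fin n → ι) (W : ∀ k, (X (a k)).Opens) (e : ∀ k, W k ≤ f (a k) ⁻¹ᵁ V.1),
      (∀ k, IsAffineOpen (W k)) ∧
      ∀ v : V.1.toScheme, ∃ k y, ((f (a k)).resLE V.1 (W k) (e k)) y = v := by
  obtain ⟨n, a, W, hW, hc⟩ := hqc V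
  have hle : ∀ k, W k ≤ f (a k) ⁻¹ᵁ V.1 := fun k z hz ↦ by
    have : f (a k) z ∈ (V.1 : Set S) := hc ▸ Set.mem_iUnion.2 ⟨k, ⟨z, hz, rfl⟩⟩
    exact this
  refine ⟨n, a, W, hle, hW, fun v => ?_⟩
  have hv : v.1 ∈ (V.1 : Set S) := v.2
  rw [← hc, Set.mem_iUnion] at hv
  obtain ⟨k, z, hz, hzv⟩ := hv
  refine ⟨k, ⟨z, hz⟩, ?_⟩
  apply V.1.ι.isOpenEmbedding.injective
  rw [← Scheme.Hom.comp_apply, Scheme.Hom.resLE_comp_ι]
  exact hzv

/-- Effectivity reduces to flat surjections of affine schemes sharing the local properties of the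
covering. -/
theorem isEffective_of_affine_case' (Q : MorphismProperty Scheme.{u}) [IsZariskiLocalAtSource Q]
    [IsZariskiLocalAtTarget Q] (hQ : ∀ i, Q (f i)) (hf : Presieve.ofArrows X f ∈ Scheme.fpqcPrecoverage S)
    (P : MorphismProperty Scheme.{u}) [P.IsStableUnderBaseChange]
    (h2 : ∀ (κ : Type u) [Finite κ] (Y V : κ → Scheme.{u}) (q : ∀ j, Y j ⟶ V j),
      (∀ j, P (q j)) → P (Limits.Sigma.map q))
    (h3 : ∀ (X S : Scheme.{u}) (p : X ⟶ S), IsAffine X → IsAffine S → Flat p → Surjective p → Q p →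
      ∀ D : Desc.SchDDFam (fun _ : PUnit.{u + 1} => p), P (D.obj ⟨⟩).hom → D.IsEffective)
    (hD : ∀ i, P (D.obj i).hom) : D.IsEffective := by
  obtain ⟨hflat, hqc⟩ := GrpQuot.SubDesc.flat_and_isQCCovering f hf
  have key : ∀ V : S.affineOpens, Nonempty (Rep D V.1.ι) := by
    intro V
    obtain ⟨n, a, W, hW, hWa, hsurj⟩ := exists_affine_cover_open hqc V
    let U : Fin n → Scheme.{u} := fun k => (W k).toScheme
    let x : ∀ k, U k ⟶ X (a k) := fun k => (W k).ι
    let g : ∀ k, U k ⟶ V.1.toScheme := fun k => (f (a k)).resLE V.1 (W k) (hW k)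
    have hxg : ∀ k, g k ≫ V.1.ι = x k ≫ f (a k) := fun k => Scheme.Hom.resLE_comp_ι _ _
    let Y : ULift.{u} (Fin n) → Scheme.{u} := fun k => U k.down
    have : ∀ k, IsAffine (Y k) := fun k => hWa k.down
    let g' : ∀ k, Y k ⟶ V.1.toScheme := fun k => g k.down
    let π := Limits.Sigma.desc g'
    have hflat' : ∀ k, Flat (g k) := fun k =>
      IsZariskiLocalAtSource.resLE (hW k) (hflat (a k))
    have : Flat π := IsZariskiLocalAtSource.sigmaDesc fun k => hflat' k.down
    have hQπ : Q π := IsZariskiLocalAtSource.sigmaDesc fun k =>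
      IsZariskiLocalAtSource.resLE (hW k.down) (hQ (a k.down))
    have : Surjective π := ⟨fun v => by
      obtain ⟨k, y, hy⟩ := hsurj v
      exact ⟨Sigma.ι Y ⟨k⟩ y, by rw [← Scheme.Hom.comp_apply, Sigma.ι_desc]; exact hy⟩⟩
    have hVa : IsAffine V.1.toScheme := V.2
    have hYa : IsAffine (∐ Y) := inferInstance
    let R : ∀ k, Rep D (Sigma.ι Y k ≫ π ≫ V.1.ι) := fun k =>
      Rep.ofMember D (a k.down) (x k.down) (by rw [Sigma.ι_desc_assoc]; exact (hxg k.down).symm)
    obtain ⟨R', e, he⟩ := exists_rep_sigma R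
    refine nonempty_rep_descend π R' (single_mem_fpqc π)
      (h3 _ _ π inferInstance inferInstance inferInstance inferInstance hQπ _ ?_)
    show P R'.π
    rw [he]
    exact (P.cancel_left_of_respectsIso e.hom _).2 (h2 _ _ _ _ fun k =>
      MorphismProperty.pullback_snd _ _ (hD (a k.down)))
  exact isEffective_of_rep_cover hf (fun V : S.affineOpens => V.1)
    (fun s => (exists_isAffineOpen_mem_and_subset (X := S) (x := s) (U := ⊤) trivial).elim
      fun V h => ⟨⟨V, h.1⟩, h.2.1⟩) fun V => (key V).some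

/-- Effectivity reduces to flat surjections of affine schemes. -/
theorem isEffective_of_affine_case (hf : Presieve.ofArrows X f ∈ Scheme.fpqcPrecoverage S)
    (P : MorphismProperty Scheme.{u}) [P.IsStableUnderBaseChange]
    (h2 : ∀ (κ : Type u) [Finite κ] (Y V : κ → Scheme.{u}) (q : ∀ j, Y j ⟶ V j),
      (∀ j, P (q j)) → P (Limits.Sigma.map q))
    (h3 : ∀ (X S : Scheme.{u}) (p : X ⟶ S), IsAffine X → IsAffine S → Flat p → Surjective p →
      ∀ D : Desc.SchDDFam (fun _ : PUnit.{u + 1} => p), P (D.obj ⟨⟩).hom → D.IsEffective)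
    (hD : ∀ i, P (D.obj i).hom) : D.IsEffective :=
  isEffective_of_affine_case' @Flat (GrpQuot.SubDesc.flat_and_isQCCovering f hf).1 hf P h2
    (fun X' S' p hX hS hflat hsurj _ => h3 X' S' p hX hS hflat hsurj) hD

theorem isAffineHom_sigmaMap {κ : Type u} {Y V : κ → Scheme.{u}} (q : ∀ j, Y j ⟶ V j)
    (h : ∀ j, IsAffineHom (q j)) : IsAffineHom (Limits.Sigma.map q) := by
  refine (IsZariskiLocalAtTarget.iff_of_openCover (P := @IsAffineHom) (sigmaOpenCover V)).2
    fun (j : κ) => ?_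
  show IsAffineHom (pullback.snd (Limits.Sigma.map q) (Sigma.ι V j))
  rw [← (isPullback_sigmaMap q j).isoPullback_inv_snd]
  have := h j
  infer_instance

/-- Descent data with affine structure morphisms along flat surjections of affine schemes are
effective. -/
theorem isEffective_affine_single {X S : Scheme.{u}} [IsAffine X] [IsAffine S] (p : X ⟶ S) [Flat p]
    [Surjective p] (D : Desc.SchDDFam (fun _ : PUnit.{u + 1} => p)) [IsAffineHom (D.obj ⟨⟩).hom] :
    D.IsEffective := by
  let a : Γ(S, ⊤) ⟶ Γ(X, ⊤) := p.appTop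
  have ha : X.isoSpec.hom ≫ Spec.map a = p ≫ S.isoSpec.hom := Scheme.isoSpec_hom_naturality _
  have ha' : Spec.map a = X.isoSpec.inv ≫ p ≫ S.isoSpec.hom := by rw [Iso.eq_inv_comp, ha]
  have : Flat (Spec.map a) := by rw [ha']; infer_instance
  have : Surjective (Spec.map a) := by rw [ha']; infer_instance
  let R : Rep D (Spec.map a ≫ S.isoSpec.inv) :=
    Rep.ofMember D ⟨⟩ X.isoSpec.inv (by simp [ha'])
  have : IsAffine ((repDatum (Spec.map a) R).obj ⟨⟩).left :=
    inferInstanceAs (IsAffine (pullback (D.obj ⟨⟩).hom X.isoSpec.inv))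
  obtain ⟨R'⟩ := nonempty_rep_descend (Spec.map a) R (single_mem_fpqc _)
    (isEffective_affine a _)
  exact isEffective_of_rep (R'.baseChange S.isoSpec.hom (by simp))

/-- fpqc descent data with affine structure morphisms are effective. -/
theorem isEffective_of_isAffineHom (hf : Presieve.ofArrows X f ∈ Scheme.fpqcPrecoverage S)
    (hD : ∀ i, IsAffineHom (D.obj i).hom) : D.IsEffective :=
  isEffective_of_affine_case hf @IsAffineHom (fun _ _ _ _ q h => isAffineHom_sigmaMap q h)
    (fun _ _ p _ _ _ _ E (_ : IsAffineHom (E.obj ⟨⟩).hom) => isEffective_affine_single p E) hD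

end Groth.Agent.SchDesc12
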