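import Groth.Agent.Lib.SchDesc12.Hull

/-!
# fpqc descent of ind-quasi-affine schemes

Quasi-compact opens of a descent datum with ind-quasi-affine total space along a faithfully flat map
of affine schemes are contained in quasi-compact stable opens, which are quasi-affine.
-/

universe u

open CategoryTheory CategoryTheory.Limits AlgebraicGeometry Opposite TopologicalSpace

set_option backward.isDefEq.respectTransparency.types false

namespace Groth.Agent.SchDesc12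

section

variable {X S : Scheme.{u}} {p : X ⟶ S} (D : Desc.SchDDFam (fun _ : PUnit.{u + 1} => p))

/-- A point and its translate are in the same orbit. -/
theorem rel_of_φ {T : Scheme.{u}} (x₀ x₁ : T ⟶ X) (h : x₀ ≫ p = x₁ ≫ p)
    (v : Desc.Lifts (D.obj ⟨⟩) x₀) (z : T) :
    Rel D (v.1 z) ((D.φ (i := ⟨⟩) (j := ⟨⟩) x₀ x₁ h v).1 z) := by
  obtain ⟨c, hc₀, hc₁⟩ : ∃ c : T ⟶ pullback ((D.obj ⟨⟩).hom ≫ p) p,
      c ≫ pullback.fst _ _ = v.1 ∧ c ≫ pullback.snd _ _ = x₁ :=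
    ⟨pullback.lift v.1 x₁ (by
        rw [← Category.assoc, show v.1 ≫ (D.obj ⟨⟩).hom = x₀ from v.2]; exact h),
      pullback.lift_fst _ _ _, pullback.lift_snd _ _ _⟩
  exact ⟨c z, by rw [← Scheme.Hom.comp_apply, hc₀],
    by rw [φ_eq_transMap D x₀ x₁ h v c hc₀ hc₁, Scheme.Hom.comp_apply]⟩

/-- Translates of points in one open lie in another. -/
theorem exists_lift_of_rel {μ U : (D.obj ⟨⟩).left.Opens}
    (hs : ∀ v v', Rel D v v' → v ∈ μ → v' ∈ U) {T : Scheme.{u}} (x₀ x₁ : T ⟶ X)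
    (h : x₀ ≫ p = x₁ ≫ p) (v : Desc.Lifts (D.obj ⟨⟩) x₀) (y : T ⟶ μ.toScheme) (hy : y ≫ μ.ι = v.1) :
    ∃ y' : T ⟶ U.toScheme, y' ≫ U.ι = (D.φ (i := ⟨⟩) (j := ⟨⟩) x₀ x₁ h v).1 := by
  refine ⟨_, IsOpenImmersion.lift_fac U.ι _ ?_⟩
  rw [U.range_ι]
  rintro _ ⟨z, rfl⟩
  exact hs _ _ (rel_of_φ D x₀ x₁ h v z) (by rw [← hy]; exact (y z).2)

end

variable {X S : Scheme.{u}} [IsAffine X] [IsAffine S] {p : X ⟶ S} [Flat p] [Surjective p]
  (D : Desc.SchDDFam (fun _ : PUnit.{u + 1} => p))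

set_option maxHeartbeats 1600000 in
/-- Every point lies in a quasi-compact stable open. -/
theorem exists_isCompact_stable_open (hV : MoreMor.IsIndQuasiAffine (D.obj ⟨⟩).left)
    (v : (D.obj ⟨⟩).left) :
    ∃ G : (D.obj ⟨⟩).left.Opens, v ∈ G ∧ IsCompact (G : Set (D.obj ⟨⟩).left) ∧
      IsStable D fun _ => G := by
  obtain ⟨A₀, hA₀, hvA₀, -⟩ :=
    exists_isAffineOpen_mem_and_subset (X := (D.obj ⟨⟩).left) (x := v) (U := ⊤) trivial
  obtain ⟨U₁, hAU₁, -, hU₁⟩ := IndQA12.exists_isCompact_open_superset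
    (isCompact_sat D hA₀.isCompact A₀.2) ⊤ fun _ _ => trivial
  obtain ⟨U₂, hEU₂, -, hU₂⟩ := IndQA12.exists_isCompact_open_superset
    (isCompact_sat D hU₁ U₁.2) ⊤ fun _ _ => trivial
  obtain ⟨Ω, hAΩ, hΩU₁, hΩ⟩ := exists_stable_open_between D A₀ U₁ hAU₁
  have hΩE : (Ω : Set (D.obj ⟨⟩).left) ⊆ sat D U₁ := fun x hx => subset_sat D _ (hΩU₁ hx)
  -- the quasi-compact opens containing the saturation
  let I := {U : (D.obj ⟨⟩).left.Opens //
    IsCompact (U : Set (D.obj ⟨⟩).left) ∧ sat D U₁ ⊆ (U : Set (D.obj ⟨⟩).left)}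
  have hcs : ∀ U : I, CompactSpace U.1.toScheme := fun U => isCompact_iff_compactSpace.mp U.2.1
  have hqa : ∀ U : I, U.1.toScheme.IsQuasiAffine := fun U => hV U.1 U.2.1
  have hqs : ∀ U : I, QuasiSeparatedSpace U.1.toScheme := fun U => by
    have := hqa U
    infer_instance
  have hoi : ∀ U : I, IsOpenImmersion U.1.toSpecΓ := fun U => by
    have := hqa U
    delta Scheme.Opens.toSpecΓ
    infer_instance
  have hinf : ∀ U U' : I, ∃ W : I, W.1 ≤ U.1 ∧ W.1 ≤ U'.1 := fun U U' => by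
    have hc : IsCompact ((U.1 ⊔ U'.1 : (D.obj ⟨⟩).left.Opens) : Set (D.obj ⟨⟩).left) := by
      rw [Opens.coe_sup]; exact U.2.1.union U'.2.1
    have := hV _ hc
    have hq : IsQuasiSeparated ((U.1 ⊔ U'.1 : (D.obj ⟨⟩).left.Opens) : Set (D.obj ⟨⟩).left) :=
      (isQuasiSeparated_iff_quasiSeparatedSpace _ (U.1 ⊔ U'.1).2).mpr
        (inferInstance : QuasiSeparatedSpace (U.1 ⊔ U'.1).toScheme)
    exact ⟨⟨U.1 ⊓ U'.1, hq U.1 U'.1 (fun x hx => Or.inl hx) U.1.2 U.2.1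
      (fun x hx => Or.inr hx) U'.1.2 U'.2.1, fun x hx => ⟨U.2.2 hx, U'.2.2 hx⟩⟩,
      inf_le_left, inf_le_right⟩
  have hμ : ∀ U : I, ∃ μ : I, μ.1 ≤ U.1 ∧ ∀ x x', Rel D x x' → x ∈ μ.1 → x' ∈ U.1 := fun U => by
    obtain ⟨W, hW₁, hWU, hW⟩ := exists_stable_open_between D U₁ U.1 U.2.2
    obtain ⟨μ, hμE, hμW, hμc⟩ := IndQA12.exists_isCompact_open_superset (isCompact_sat D hU₁ U₁.2)
      W fun x hx => by
        obtain ⟨x', hx', hr⟩ := (mem_sat D).1 hx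
        exact hW _ _ hr (hW₁ hx')
    exact ⟨⟨μ, hμc, hμE⟩, hμW.trans hWU, fun x x' hr hx => hWU (hW _ _ hr (hμW hx))⟩
  choose μ hμle hμrel using hμ
  -- the hull
  let ιI : I → (D.obj ⟨⟩).left.Opens := fun U => U.1
  have hιI : Monotone ιI := fun _ _ h => h
  let F : Iᵒᵖ ⥤ CommRingCat.{u} := hιI.functor.op ⋙ (D.obj ⟨⟩).left.presheaf
  let Vb : Scheme.{u} := Spec (colimit F)
  let P : ∀ U : I, Vb ⟶ Spec Γ((D.obj ⟨⟩).left, U.1) := fun U => Spec.map (colimit.ι F (op U))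
  have hP : ∀ (U U' : I) (h : U.1 ≤ U'.1), P U ≫ hullRes h = P U' := fun U U' h => by
    have hh : F.map (homOfLE (show U ≤ U' from h)).op =
        (D.obj ⟨⟩).left.presheaf.map (homOfLE h).op := rfl
    show Spec.map _ ≫ Spec.map _ = Spec.map _
    rw [← Spec.map_comp, ← hh]
    exact congrArg Spec.map (colimit.w F (homOfLE (show U ≤ U' from h)).op)
  obtain ⟨γb, hγb⟩ : ∃ γb : Vb ⟶ X, γb = P ⟨U₂, hU₂, hEU₂⟩ ≫ hullHom D U₂ := ⟨_, rfl⟩
  have hγ : ∀ U : I, P U ≫ hullHom D U.1 = γb := fun U => by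
    obtain ⟨W, hWU, hW₂⟩ := hinf U ⟨U₂, hU₂, hEU₂⟩
    rw [hγb, ← hP W U hWU, ← hP W ⟨U₂, hU₂, hEU₂⟩ hW₂, Category.assoc, hullRes_hullHom,
      Category.assoc, hullRes_hullHom]
  let π₀ := pullback.fst (γb ≫ p) p
  let π₁ := pullback.snd (γb ≫ p) p
  have hπ : π₀ ≫ γb ≫ p = π₁ ≫ p := pullback.condition
  have hℓ : ∀ U : I, ∃ ℓ : pullback (γb ≫ p) p ⟶ pullback (hullHom D U.1 ≫ p) p,
      ℓ ≫ pullback.fst _ _ = π₀ ≫ P U ∧ ℓ ≫ pullback.snd _ _ = π₁ := fun U =>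
    ⟨pullback.lift (π₀ ≫ P U) π₁ (by rw [Category.assoc, reassoc_of% (hγ U), hπ]),
      pullback.lift_fst _ _ _, pullback.lift_snd _ _ _⟩
  choose ℓ hℓ₀ hℓ₁ using hℓ
  choose s hs using fun U : I =>
    have := hcs (μ U); have := hqs (μ U)
    exists_isTrans (D := D) (μ := (μ U).1) (U := U.1) (hμrel U)
  have hindep : ∀ (U ν : I), (∀ x x', Rel D x x' → x ∈ ν.1 → x' ∈ U.1) →
      ∀ s' : pullback (hullHom D ν.1 ≫ p) p ⟶ Spec Γ((D.obj ⟨⟩).left, U.1), IsTrans D ν.1 U.1 s' →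
        ℓ ν ≫ s' = ℓ (μ U) ≫ s U := by
    intro U ν hν s' hs'
    obtain ⟨W, hWν, hWμ⟩ := hinf ν (μ U)
    have hres : ∀ (ν : I) (h : W.1 ≤ ν.1),
        ∃ r : pullback (hullHom D W.1 ≫ p) p ⟶ pullback (hullHom D ν.1 ≫ p) p,
          r ≫ pullback.fst _ _ = pullback.fst _ _ ≫ hullRes h ∧
            r ≫ pullback.snd _ _ = pullback.snd _ _ ∧ ℓ W ≫ r = ℓ ν := fun ν h => by
      obtain ⟨r, hr₀, hr₁⟩ : ∃ r : pullback (hullHom D W.1 ≫ p) p ⟶
          pullback (hullHom D ν.1 ≫ p) p, r ≫ pullback.fst _ _ = pullback.fst _ _ ≫ hullRes h ∧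
            r ≫ pullback.snd _ _ = pullback.snd _ _ :=
        ⟨pullback.lift (pullback.fst _ _ ≫ hullRes h) (pullback.snd _ _) (by
            rw [Category.assoc, reassoc_of% (hullRes_hullHom D h), pullback.condition]),
          pullback.lift_fst _ _ _, pullback.lift_snd _ _ _⟩
      refine ⟨r, hr₀, hr₁, pullback.hom_ext ?_ ?_⟩
      · rw [Category.assoc, hr₀, reassoc_of% (hℓ₀ W), hP W ν h, hℓ₀]
      · rw [Category.assoc, hr₁, hℓ₁, hℓ₁]
    obtain ⟨r, hr₀, hr₁, hr⟩ := hres ν hWν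
    obtain ⟨r', hr'₀, hr'₁, hr'⟩ := hres (μ U) hWμ
    have := hcs W
    have := hqs W
    rw [← hr, ← hr', Category.assoc, Category.assoc,
      (hs'.restrict hWν r hr₀ hr₁).unique (fun x x' h hx => hν x x' h (hWν hx))
        ((hs U).restrict hWμ r' hr'₀ hr'₁)]
  obtain ⟨σ, hσ⟩ := exists_hom_spec_colimit F (fun U => ℓ (μ U.unop) ≫ s U.unop) (by
    intro U' U f
    have hle : U.unop.1 ≤ U'.unop.1 := leOfHom f.unop
    show (ℓ (μ U.unop) ≫ s U.unop) ≫ hullRes hle = ℓ (μ U'.unop) ≫ s U'.unop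
    rw [Category.assoc]
    exact hindep U'.unop (μ U.unop) (fun x x' h hx => hle (hμrel U.unop x x' h hx)) _
      ((hs U.unop).extend hle (hμrel U.unop)))
  have hσP : ∀ U : I, σ ≫ P U = ℓ (μ U) ≫ s U := fun U => hσ (op U)
  have hσγ : σ ≫ γb = π₁ := by
    let U : I := ⟨U₂, hU₂, hEU₂⟩
    have := hcs (μ U)
    have := hqs (μ U)
    refine (congrArg (σ ≫ ·) (hγ U).symm).trans ?_
    show σ ≫ P U ≫ hullHom D U.1 = π₁
    rw [reassoc_of% (hσP U), (hs U).comp_hullHom (hμrel U), hℓ₁]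
  have hunit : ∀ δ : Vb ⟶ pullback (γb ≫ p) p, δ ≫ π₀ = 𝟙 _ → δ ≫ π₁ = γb → δ ≫ σ = 𝟙 _ := by
    intro δ hδ₀ hδ₁
    refine hom_ext_spec_colimit F fun U' => ?_
    obtain ⟨U, rfl⟩ : ∃ U : I, op U = U' := ⟨U'.unop, rfl⟩
    show (δ ≫ σ) ≫ P U = 𝟙 Vb ≫ P U
    rw [Category.assoc, hσP, Category.id_comp]
    let N := (μ U).1
    obtain ⟨d, hd₀, hd₁⟩ : ∃ d : Spec Γ((D.obj ⟨⟩).left, N) ⟶ pullback (hullHom D N ≫ p) p,
        d ≫ pullback.fst _ _ = 𝟙 _ ∧ d ≫ pullback.snd _ _ = hullHom D N :=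
      ⟨pullback.lift (𝟙 _) (hullHom D N) (Category.id_comp _), pullback.lift_fst _ _ _,
        pullback.lift_snd _ _ _⟩
    have hδd : δ ≫ ℓ (μ U) = P (μ U) ≫ d := pullback.hom_ext
      (by rw [Category.assoc, hℓ₀, reassoc_of% hδ₀, Category.assoc, hd₀, Category.comp_id])
      (by rw [Category.assoc, hℓ₁, hδ₁, Category.assoc, hd₁, hγ])
    have := isIso_toSpecΓ_appTop N
    have hds : d ≫ s U = hullRes (hμle U) := ext_of_isIso_appTop N.toSpecΓ (by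
      let v₀ : Desc.Lifts (D.obj ⟨⟩) (N.ι ≫ (D.obj ⟨⟩).hom) := ⟨N.ι, rfl⟩
      rw [← Category.assoc, hs U (T := N.toScheme) (N.ι ≫ (D.obj ⟨⟩).hom) (N.ι ≫ (D.obj ⟨⟩).hom) rfl v₀
        (𝟙 _) ((D.obj ⟨⟩).left.homOfLE (hμle U)) (N.toSpecΓ ≫ d) (Category.id_comp _)
        (by rw [D.φ_self, Scheme.homOfLE_ι]) (by rw [Category.assoc, hd₀, Category.comp_id,
          Category.id_comp]) (by rw [Category.assoc, hd₁, toSpecΓ_hullHom]),
        Scheme.Opens.toSpecΓ_SpecMap_presheaf_map])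
    rw [reassoc_of% hδd, hds, hP]
  have hassoc : ∀ ε ε' : pullback (π₁ ≫ p) p ⟶ pullback (γb ≫ p) p,
      ε ≫ π₀ = pullback.fst _ _ ≫ σ → ε ≫ π₁ = pullback.snd _ _ →
      ε' ≫ π₀ = pullback.fst _ _ ≫ π₀ →
      ε' ≫ π₁ = pullback.snd _ _ → ε ≫ σ = ε' ≫ σ := by
    intro ε ε' hε₀ hε₁ hε'₀ hε'₁
    refine hom_ext_spec_colimit F fun U' => ?_
    obtain ⟨U, rfl⟩ : ∃ U : I, op U = U' := ⟨U'.unop, rfl⟩
    show (ε ≫ σ) ≫ P U = (ε' ≫ σ) ≫ P U
    rw [Category.assoc, Category.assoc, hσP]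
    let M : I := μ U
    let N : I := μ M
    have := hcs N
    have := hqs N
    let ρN := pullback.fst (pullback.snd (hullHom D N.1 ≫ p) p ≫ p) p
    let π₂N := pullback.snd (pullback.snd (hullHom D N.1 ≫ p) p ≫ p) p
    have hρN : ρN ≫ pullback.snd (hullHom D N.1 ≫ p) p ≫ p = π₂N ≫ p := pullback.condition
    obtain ⟨L, hL₀, hL₁⟩ : ∃ L : pullback (π₁ ≫ p) p ⟶
        pullback (pullback.snd (hullHom D N.1 ≫ p) p ≫ p) p,
        L ≫ ρN = pullback.fst _ _ ≫ ℓ N ∧ L ≫ π₂N = pullback.snd _ _ :=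
      ⟨pullback.lift (pullback.fst _ _ ≫ ℓ N) (pullback.snd _ _) (by
          rw [Category.assoc, reassoc_of% (hℓ₁ N)]; exact pullback.condition),
        pullback.lift_fst _ _ _, pullback.lift_snd _ _ _⟩
    obtain ⟨η, hη₀, hη₁⟩ : ∃ η : pullback (pullback.snd (hullHom D N.1 ≫ p) p ≫ p) p ⟶
        pullback (hullHom D M.1 ≫ p) p,
        η ≫ pullback.fst _ _ = ρN ≫ s M ∧ η ≫ pullback.snd _ _ = π₂N :=
      ⟨pullback.lift (ρN ≫ s M) π₂N (by
          rw [Category.assoc, reassoc_of% ((hs M).comp_hullHom (hμrel M)), hρN]),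
        pullback.lift_fst _ _ _, pullback.lift_snd _ _ _⟩
    obtain ⟨η', hη'₀, hη'₁⟩ : ∃ η : pullback (pullback.snd (hullHom D N.1 ≫ p) p ≫ p) p ⟶
        pullback (hullHom D M.1 ≫ p) p,
        η ≫ pullback.fst _ _ = ρN ≫ pullback.fst _ _ ≫ hullRes (hμle M) ∧
          η ≫ pullback.snd _ _ = π₂N :=
      ⟨pullback.lift (ρN ≫ pullback.fst _ _ ≫ hullRes (hμle M)) π₂N (by
          simp only [Category.assoc]
          rw [reassoc_of% (hullRes_hullHom D (hμle M)), pullback.condition, hρN]),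
        pullback.lift_fst _ _ _, pullback.lift_snd _ _ _⟩
    have h₁ : ε ≫ ℓ M = L ≫ η := pullback.hom_ext
      (by rw [Category.assoc, hℓ₀, reassoc_of% hε₀, hσP M, Category.assoc, hη₀, reassoc_of% hL₀])
      (by rw [Category.assoc, hℓ₁, hε₁, Category.assoc, hη₁, hL₁])
    have h₂ : ε' ≫ ℓ M = L ≫ η' := pullback.hom_ext
      (by rw [Category.assoc, hℓ₀, reassoc_of% hε'₀, Category.assoc, hη'₀, reassoc_of% hL₀,
        reassoc_of% (hℓ₀ N), hP N M (hμle M)])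
      (by rw [Category.assoc, hℓ₁, hε'₁, Category.assoc, hη'₁, hL₁])
    have hη : η ≫ s U = η' ≫ s U := by
      let e := pullback.fst N.1.toSpecΓ (pullback.fst (hullHom D N.1 ≫ p) p)
      let j₁ := pullback.snd N.1.toSpecΓ (pullback.fst (hullHom D N.1 ≫ p) p)
      have := hqa N
      have := isIso_toSpecΓ_appTop N.1
      have : IsIso j₁.appTop := isIso_appTop_snd _ _
      have : IsAffineHom (pullback.fst (hullHom D N.1 ≫ p) p) := inferInstance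
      have : IsAffineHom e := MorphismProperty.pullback_fst _ _ ‹_›
      have := Scheme.IsQuasiAffine.of_isAffineHom e
      let e₂ := pullback.fst j₁ ρN
      let j₂ := pullback.snd j₁ ρN
      have : IsIso j₂.appTop := isIso_appTop_snd _ _
      have he₂ : e₂ ≫ j₁ = j₂ ≫ ρN := pullback.condition
      obtain ⟨v₁, hx, t', hv₁, ht'⟩ := exists_universal (D := D) (p := p) (hμrel M)
      have he : e ≫ N.1.toSpecΓ = j₁ ≫ pullback.fst _ _ := pullback.condition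
      have hsM : j₁ ≫ s M = t' ≫ M.1.toSpecΓ := hs M _ _ hx v₁ e t' j₁ hv₁.symm ht' he.symm rfl
      have h01 : (e₂ ≫ e ≫ N.1.ι ≫ (D.obj ⟨⟩).hom) ≫ p =
          (e₂ ≫ j₁ ≫ pullback.snd (hullHom D N.1 ≫ p) p) ≫ p := by
        simp only [Category.assoc] at hx ⊢
        rw [hx]
      have h12 : (e₂ ≫ j₁ ≫ pullback.snd (hullHom D N.1 ≫ p) p) ≫ p = (j₂ ≫ π₂N) ≫ p := by
        simp only [Category.assoc]
        rw [reassoc_of% he₂, hρN]
      let v : Desc.Lifts (D.obj ⟨⟩) (e₂ ≫ e ≫ N.1.ι ≫ (D.obj ⟨⟩).hom) :=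
        ⟨e₂ ≫ e ≫ N.1.ι, by simp only [Category.assoc]⟩
      have hv01 : (D.φ (i := ⟨⟩) (j := ⟨⟩) _ _ h01 v).1 = (e₂ ≫ t') ≫ M.1.ι := by
        rw [Category.assoc, ht']
        exact D.φ_natural e₂ _ _ hx _ _ rfl rfl h01 v₁ v (by rw [hv₁])
      obtain ⟨y', hy'⟩ := exists_lift_of_rel D (hμrel U) _ _ h12
        (D.φ (i := ⟨⟩) (j := ⟨⟩) _ _ h01 v) (e₂ ≫ t') hv01.symm
      have hy'' : y' ≫ U.1.ι = (D.φ (i := ⟨⟩) (j := ⟨⟩) _ _ (h01.trans h12) v).1 := by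
        rw [hy', D.φ_comp]
      apply ext_of_isIso_appTop j₂
      rw [← Category.assoc, ← Category.assoc,
        hs U _ _ h12 _ (e₂ ≫ t') y' (j₂ ≫ η) hv01.symm hy'
          (by rw [Category.assoc, hη₀, ← reassoc_of% he₂, hsM, Category.assoc])
          (by rw [Category.assoc, hη₁]),
        hs U _ _ (h01.trans h12) v (e₂ ≫ e ≫ (D.obj ⟨⟩).left.homOfLE (hμle M)) y' (j₂ ≫ η')
          (by simp only [Category.assoc, Scheme.homOfLE_ι]; rfl) hy''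
          (by
            rw [Category.assoc, hη'₀, ← reassoc_of% he₂, ← reassoc_of% he,
              Scheme.Opens.toSpecΓ_SpecMap_presheaf_map]
            simp only [Category.assoc]
            rfl)
          (by rw [Category.assoc, hη'₁])]
    rw [reassoc_of% h₁, reassoc_of% h₂, hη]
  obtain ⟨Uq, πq, q, sqq, hqσ⟩ := exists_quotient_of_hull γb σ hσγ hunit hassoc
  have : Flat q := MorphismProperty.of_isPullback (P := @Flat) sqq.flip ‹Flat p›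
  have : QuasiCompact q :=
    MorphismProperty.of_isPullback (P := @QuasiCompact) sqq.flip inferInstance
  -- the stable open and the saturation in the hull
  have hΩle : ∀ U : I, Ω ≤ U.1 := fun U x hx => U.2.2 (hΩE hx)
  obtain ⟨i, hi⟩ := exists_hom_spec_colimit F
    (fun U => (D.obj ⟨⟩).left.homOfLE (hΩle U.unop) ≫ U.unop.1.toSpecΓ) (by
      intro U' U f
      show (_ ≫ _) ≫ hullRes (leOfHom f.unop) = _
      rw [Category.assoc, Scheme.Opens.toSpecΓ_SpecMap_presheaf_map, Scheme.homOfLE_homOfLE_assoc]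
      rfl)
  have hiP : ∀ U : I, i ≫ P U = (D.obj ⟨⟩).left.homOfLE (hΩle U) ≫ U.1.toSpecΓ := fun U => hi (op U)
  let Q : (pullback ((D.obj ⟨⟩).hom ≫ p) p).Opens :=
    pullback.fst ((D.obj ⟨⟩).hom ≫ p) p ⁻¹ᵁ U₁
  have hQle : ∀ U : I, Set.range (Q.ι ≫ transMap D) ⊆ Set.range U.1.ι := fun U => by
    rw [U.1.range_ι]
    rintro _ ⟨z, rfl⟩
    exact U.2.2 ⟨z.1, z.2, rfl⟩
  choose tQ htQ using fun U : I =>
    (⟨_, IsOpenImmersion.lift_fac _ _ (hQle U)⟩ :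
      ∃ tQ : Q.toScheme ⟶ U.1.toScheme, tQ ≫ U.1.ι = Q.ι ≫ transMap D)
  obtain ⟨m, hm⟩ := exists_hom_spec_colimit F (fun U => tQ U.unop ≫ U.unop.1.toSpecΓ) (by
      intro U' U f
      show (_ ≫ _) ≫ hullRes (leOfHom f.unop) = _
      rw [Category.assoc, Scheme.Opens.toSpecΓ_SpecMap_presheaf_map, ← Category.assoc]
      congr 1
      rw [← cancel_mono U'.unop.1.ι, Category.assoc, Scheme.homOfLE_ι, htQ, htQ])
  have hmP : ∀ U : I, m ≫ P U = tQ U ≫ U.1.toSpecΓ := fun U => hm (op U)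
  have : CompactSpace Q.toScheme := isCompact_iff_compactSpace.mp
    ((pullback.fst ((D.obj ⟨⟩).hom ≫ p) p).isCompact_preimage hU₁)
  have : QuasiCompact m := (quasiCompact_iff_compactSpace m).2 ‹_›
  -- `q` is constant on orbits
  have hqi : ∀ x x' : Ω.toScheme, Rel D x.1 x'.1 → q (i x) = q (i x') := by
    rintro x x' ⟨w, hw, hw'⟩
    let R : (pullback ((D.obj ⟨⟩).hom ≫ p) p).Opens := pullback.fst ((D.obj ⟨⟩).hom ≫ p) p ⁻¹ᵁ Ω
    have hwR : w ∈ R := by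
      show pullback.fst ((D.obj ⟨⟩).hom ≫ p) p w ∈ Ω
      rw [hw]; exact x.2
    have hRle : Set.range (R.ι ≫ transMap D) ⊆ Set.range Ω.ι := by
      rw [Ω.range_ι]
      rintro _ ⟨z, rfl⟩
      exact hΩ _ _ ⟨z.1, rfl, rfl⟩ z.2
    obtain ⟨y', hy'⟩ : ∃ y' : R.toScheme ⟶ Ω.toScheme, y' ≫ Ω.ι = R.ι ≫ transMap D :=
      ⟨_, IsOpenImmersion.lift_fac _ _ hRle⟩
    obtain ⟨y, hy⟩ : ∃ y : R.toScheme ⟶ Ω.toScheme,
        y ≫ Ω.ι = R.ι ≫ pullback.fst ((D.obj ⟨⟩).hom ≫ p) p :=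
      ⟨_, Scheme.Hom.resLE_comp_ι (pullback.fst ((D.obj ⟨⟩).hom ≫ p) p) (U := Ω) (V := R) le_rfl⟩
    have hyγ : y ≫ i ≫ γb = R.ι ≫ pullback.fst _ _ ≫ (D.obj ⟨⟩).hom := by
      rw [← hγ ⟨U₂, hU₂, hEU₂⟩, reassoc_of% (hiP ⟨U₂, hU₂, hEU₂⟩), toSpecΓ_hullHom,
        Scheme.homOfLE_ι_assoc, reassoc_of% hy]
    obtain ⟨c, hc₀, hc₁⟩ : ∃ c : R.toScheme ⟶ pullback (γb ≫ p) p,
        c ≫ π₀ = y ≫ i ∧ c ≫ π₁ = R.ι ≫ pullback.snd _ _ :=
      ⟨pullback.lift (y ≫ i) (R.ι ≫ pullback.snd _ _) (by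
          rw [Category.assoc, reassoc_of% hyγ, pullback.condition, Category.assoc]),
        pullback.lift_fst _ _ _, pullback.lift_snd _ _ _⟩
    have hh : (R.ι ≫ pullback.fst _ _ ≫ (D.obj ⟨⟩).hom) ≫ p =
        (R.ι ≫ pullback.snd ((D.obj ⟨⟩).hom ≫ p) p) ≫ p := by
      simp only [Category.assoc, pullback.condition]
    let v₀ : Desc.Lifts (D.obj ⟨⟩) (R.ι ≫ pullback.fst _ _ ≫ (D.obj ⟨⟩).hom) :=
      ⟨R.ι ≫ pullback.fst ((D.obj ⟨⟩).hom ≫ p) p, Category.assoc _ _ _⟩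
    have hcσ : c ≫ σ = y' ≫ i := by
      refine hom_ext_spec_colimit F fun U' => ?_
      obtain ⟨U, rfl⟩ : ∃ U : I, op U = U' := ⟨U'.unop, rfl⟩
      show (c ≫ σ) ≫ P U = (y' ≫ i) ≫ P U
      rw [Category.assoc, hσP, Category.assoc, hiP, ← Category.assoc, ← Category.assoc y']
      exact hs U _ _ hh v₀ (y ≫ (D.obj ⟨⟩).left.homOfLE (hΩle (μ U)))
        (y' ≫ (D.obj ⟨⟩).left.homOfLE (hΩle U)) (c ≫ ℓ (μ U))
        (by rw [Category.assoc, Scheme.homOfLE_ι, hy])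
        (by rw [Category.assoc, Scheme.homOfLE_ι, hy', φ_eq_transMap D _ _ hh v₀ R.ι rfl rfl])
        (by rw [Category.assoc, hℓ₀, reassoc_of% hc₀, hiP, Category.assoc])
        (by rw [Category.assoc, hℓ₁, hc₁])
    have hyx : y ⟨w, hwR⟩ = x := Ω.ι.isOpenEmbedding.injective (by
      rw [← Scheme.Hom.comp_apply, hy]; exact hw)
    have hyx' : y' ⟨w, hwR⟩ = x' := Ω.ι.isOpenEmbedding.injective (by
      rw [← Scheme.Hom.comp_apply, hy']; exact hw')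
    calc q (i x) = (c ≫ π₀ ≫ q) ⟨w, hwR⟩ := by
          rw [reassoc_of% hc₀, Scheme.Hom.comp_apply, Scheme.Hom.comp_apply, hyx]
      _ = (c ≫ σ ≫ q) ⟨w, hwR⟩ := by rw [hqσ]
      _ = q (i x') := by
          rw [reassoc_of% hcσ, Scheme.Hom.comp_apply, Scheme.Hom.comp_apply, hyx']
  -- `m` agrees with `i` on `Ω`
  have hmi : ∀ (z : Q.toScheme) (hz : (Q.ι ≫ transMap D) z ∈ Ω),
      m z = i ⟨(Q.ι ≫ transMap D) z, hz⟩ := by
    intro z hz
    let Q' : Q.toScheme.Opens := (Q.ι ≫ transMap D) ⁻¹ᵁ Ω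
    obtain ⟨y, hy⟩ : ∃ y : Q'.toScheme ⟶ Ω.toScheme, y ≫ Ω.ι = Q'.ι ≫ Q.ι ≫ transMap D :=
      ⟨_, Scheme.Hom.resLE_comp_ι (Q.ι ≫ transMap D) (U := Ω) (V := Q') le_rfl⟩
    have e : Q'.ι ≫ m = y ≫ i := by
      refine hom_ext_spec_colimit F fun U' => ?_
      obtain ⟨U, rfl⟩ : ∃ U : I, op U = U' := ⟨U'.unop, rfl⟩
      show (Q'.ι ≫ m) ≫ P U = (y ≫ i) ≫ P U
      rw [Category.assoc, hmP, Category.assoc, hiP, ← Category.assoc, ← Category.assoc y]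
      congr 1
      rw [← cancel_mono U.1.ι, Category.assoc, htQ, Category.assoc, Scheme.homOfLE_ι, hy]
    have hzQ : z ∈ Q' := hz
    have := congrArg (fun a => a ⟨z, hzQ⟩) e
    refine this.trans (congrArg i (Ω.ι.isOpenEmbedding.injective ?_))
    show (y ≫ Ω.ι) ⟨z, hzQ⟩ = _
    rw [hy]
    rfl
  -- the chosen affine open of the quotient
  let Qc : Set Q.toScheme := (Q.ι ≫ transMap D) ⁻¹' (Ω : Set (D.obj ⟨⟩).left)ᶜ
  have hQc : IsClosed Qc := Ω.2.isClosed_compl.preimage (Q.ι ≫ transMap D).continuous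
  let x₀ : Ω.toScheme := ⟨v, hAΩ hvA₀⟩
  have hnot : q (i x₀) ∉ closure ((m ≫ q) '' Qc) := fun hmem => by
    obtain ⟨z, hz, hzx⟩ := exists_specializes_of_mem_closure (m ≫ q) hQc hmem
    obtain ⟨yb, hyb, hqyb⟩ := Flat.generalizingMap q (show q (m z) ⤳ q (i x₀) from hzx)
    obtain ⟨u, hu₁, hu₂⟩ :=
      Scheme.Pullback.exists_preimage_pullback (f := q) (g := q) yb (m z) hqyb
    obtain ⟨c, hc₀, hc₁⟩ : ∃ c : pullback q q ⟶ pullback (γb ≫ p) p,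
        c ≫ π₀ = pullback.fst q q ∧ c ≫ π₁ = pullback.snd q q ≫ γb :=
      ⟨pullback.lift (pullback.fst q q) (pullback.snd q q ≫ γb) (by
          rw [Category.assoc, ← sqq.w, ← Category.assoc, pullback.condition, Category.assoc]),
        pullback.lift_fst _ _ _, pullback.lift_snd _ _ _⟩
    have hcσ : c ≫ σ = pullback.snd q q := sqq.hom_ext
      (by rw [Category.assoc, ← hqσ, reassoc_of% hc₀, pullback.condition])
      (by rw [Category.assoc, hσγ, hc₁])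
    let U : I := ⟨U₂, hU₂, hEU₂⟩
    let N : I := μ U
    have := hoi N
    have := hoi U
    have h1 : P N yb ⤳ N.1.toSpecΓ ((D.obj ⟨⟩).left.homOfLE (hΩle N) x₀) := by
      rw [← Scheme.Hom.comp_apply, ← hiP N, Scheme.Hom.comp_apply]
      exact hyb.map (P N).continuous
    obtain ⟨yN, hyN⟩ := h1.mem_open N.1.toSpecΓ.isOpenEmbedding.isOpen_range ⟨_, rfl⟩
    rw [← hyN, N.1.toSpecΓ.isOpenEmbedding.isInducing.specializes_iff] at h1
    have hyΩ : N.1.ι yN ∈ Ω := by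
      refine (h1.map N.1.ι.continuous).mem_open Ω.2 ?_
      rw [← Scheme.Hom.comp_apply, Scheme.homOfLE_ι]
      exact x₀.2
    have h2 : pullback.fst (hullHom D N.1 ≫ p) p (ℓ N (c u)) = N.1.toSpecΓ yN := by
      rw [← Scheme.Hom.comp_apply, hℓ₀, Scheme.Hom.comp_apply, ← Scheme.Hom.comp_apply c, hc₀,
        hu₁, hyN]
    obtain ⟨p', hp'₁, hp'₂⟩ := Scheme.Pullback.exists_preimage_pullback (f := N.1.toSpecΓ)
      (g := pullback.fst (hullHom D N.1 ≫ p) p) yN (ℓ N (c u)) h2.symm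
    obtain ⟨v₁, hx, t', hv₁, ht'⟩ := exists_universal (D := D) (p := p) (hμrel U)
    have h3 := hs U _ _ hx v₁ _ t' _ hv₁.symm ht' pullback.condition.symm rfl
    have h4 : U.1.toSpecΓ (t' p') = U.1.toSpecΓ (tQ U z) := by
      rw [← Scheme.Hom.comp_apply, ← h3, Scheme.Hom.comp_apply, hp'₂, ← Scheme.Hom.comp_apply,
        ← hσP, Scheme.Hom.comp_apply, ← Scheme.Hom.comp_apply c, hcσ, hu₂, ← Scheme.Hom.comp_apply,
        hmP, Scheme.Hom.comp_apply]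
    have h5 := congrArg U.1.ι (U.1.toSpecΓ.isOpenEmbedding.injective h4)
    rw [← Scheme.Hom.comp_apply, ← Scheme.Hom.comp_apply, htQ, ht'] at h5
    refine hz ?_
    show (Q.ι ≫ transMap D) z ∈ Ω
    rw [← h5]
    refine hΩ _ _ (rel_of_φ D _ _ hx v₁ p') ?_
    rw [hv₁, Scheme.Hom.comp_apply, hp'₁]
    exact hyΩ
  obtain ⟨O, hO, hxO, hOC⟩ := exists_isAffineOpen_mem_and_subset (X := Uq) (x := q (i x₀))
    (U := ⟨(closure ((m ≫ q) '' Qc))ᶜ, isClosed_closure.isOpen_compl⟩) hnot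
  let G : (D.obj ⟨⟩).left.Opens := Ω.ι ''ᵁ ((i ≫ q) ⁻¹ᵁ O)
  refine ⟨G, ⟨x₀, hxO, rfl⟩, ?_, isStable_of_rel D G ?_⟩
  · have hG : (G : Set (D.obj ⟨⟩).left) = (Q.ι ≫ transMap D) '' ((m ≫ q) ⁻¹ᵁ O) := by
      refine Set.Subset.antisymm ?_ ?_
      · rintro _ ⟨x, hx, rfl⟩
        obtain ⟨w, hw, hw'⟩ := Rel.refl D x.1
        have hwQ : w ∈ Q := by
          show pullback.fst ((D.obj ⟨⟩).hom ≫ p) p w ∈ U₁
          rw [hw]; exact hΩU₁ x.2
        have hwΩ : (Q.ι ≫ transMap D) ⟨w, hwQ⟩ ∈ Ω := by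
          show transMap D w ∈ Ω
          rw [hw']; exact x.2
        refine ⟨⟨w, hwQ⟩, ?_, hw'⟩
        show q (m ⟨w, hwQ⟩) ∈ O
        rw [hmi _ hwΩ, show (⟨(Q.ι ≫ transMap D) ⟨w, hwQ⟩, hwΩ⟩ : Ω.toScheme) = x from
          Subtype.ext hw']
        exact hx
      · rintro _ ⟨z, hz, rfl⟩
        have hzΩ : (Q.ι ≫ transMap D) z ∈ Ω := by
          by_contra hc
          exact hOC hz (subset_closure ⟨z, hc, rfl⟩)
        refine ⟨⟨_, hzΩ⟩, ?_, rfl⟩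
        show q (i ⟨(Q.ι ≫ transMap D) z, hzΩ⟩) ∈ O
        rw [← hmi z hzΩ]
        exact hz
    rw [hG]
    exact ((m ≫ q).isCompact_preimage hO.isCompact).image (Q.ι ≫ transMap D).continuous
  · rintro x x' hr ⟨x₁, hx₁, rfl⟩
    refine ⟨⟨x', hΩ _ _ hr x₁.2⟩, ?_, rfl⟩
    show q (i ⟨x', hΩ _ _ hr x₁.2⟩) ∈ O
    rw [← hqi x₁ ⟨x', hΩ _ _ hr x₁.2⟩ hr]
    exact hx₁

/-- Descent data with ind-quasi-affine total space along faithfully flat maps of affine schemes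
are effective. -/
theorem isEffective_indQuasiAffine_single (hV : MoreMor.IsIndQuasiAffine (D.obj ⟨⟩).left) :
    D.IsEffective := by
  have key : ∀ v : (D.obj ⟨⟩).left, ∃ C : Chart D, v ∈ C.W ⟨⟩ := by
    intro v
    obtain ⟨W, hvW, hWc, hWs⟩ := exists_isCompact_stable_open D hV v
    obtain ⟨D', j, hj⟩ := exists_openSub D (fun _ => W) hWs
    obtain ⟨e, he₁, he₂⟩ := hj ⟨⟩
    have := hV W hWc
    have : (D'.obj ⟨⟩).left.IsQuasiAffine := QA11.isQuasiAffine_of_iso e.hom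
    have hjo : ∀ i, IsOpenImmersion (j.hom i).left := fun _ => by
      rw [← he₁]; infer_instance
    obtain ⟨C, hC⟩ := exists_chart_of_hom D' j hjo (isEffective_quasiAffine_single p D')
    refine ⟨C, ?_⟩
    rw [hC]
    refine ⟨e.inv ⟨v, hvW⟩, ?_⟩
    rw [← he₁, ← Scheme.Hom.comp_apply, Iso.inv_hom_id_assoc]
    rfl
  choose C hC using key
  exact isEffective_of_charts D (single_mem_fpqc p) C fun _ v => ⟨v, hC v⟩

/-- Coproducts of ind-quasi-affine morphisms are ind-quasi-affine. -/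
theorem isIndQuasiAffineHom_sigmaMap {κ : Type u} {Y V : κ → Scheme.{u}} (q : ∀ j, Y j ⟶ V j)
    (h : ∀ j, MoreMor.IsIndQuasiAffineHom (q j)) :
    MoreMor.IsIndQuasiAffineHom (Limits.Sigma.map q) := by
  refine IndQA12.of_cover _ fun y => ?_
  obtain ⟨(j : κ), y, rfl⟩ := Scheme.Cover.exists_eq (sigmaOpenCover V) y
  obtain ⟨O, hO, hy, -⟩ :=
    exists_isAffineOpen_mem_and_subset (X := V j) (x := y) (U := ⊤) trivial
  refine ⟨Sigma.ι V j ''ᵁ O, ⟨y, hy, rfl⟩, fun U hU hUc => ?_⟩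
  have e := IsOpenImmersion.image_preimage_eq_preimage_image_of_isPullback
    (isPullback_sigmaMap q j).flip O
  let U' : (Y j).Opens := Sigma.ι Y j ⁻¹ᵁ U
  have hU' : Sigma.ι Y j ''ᵁ U' = U := by
    rw [Scheme.Hom.image_preimage_eq_opensRange_inf, inf_eq_right]
    exact hU.trans (e ▸ Scheme.Hom.image_le_opensRange _ _)
  have hle : U' ≤ q j ⁻¹ᵁ O := fun z hz => by
    have := hU (show Sigma.ι Y j z ∈ U from hz)
    rw [← e] at this
    obtain ⟨z', hz', hzz⟩ := this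
    rwa [← (Sigma.ι Y j).isOpenEmbedding.injective hzz]
  have hU'c : IsCompact (U' : Set (Y j)) := by
    rw [(Sigma.ι Y j).isEmbedding.isCompact_iff]
    show IsCompact ((Sigma.ι Y j ''ᵁ U' : (∐ Y).Opens) : Set ↥(∐ Y))
    rw [hU']
    exact hUc
  have := IndQA12.isQuasiAffine_of_le (h j) hO hle hU'c
  rw [← hU']
  exact QA11.isQuasiAffine_of_iso ((Sigma.ι Y j).isoImage U').inv

/-- fpqc descent data with ind-quasi-affine structure morphisms are effective. -/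
theorem isEffective_of_isIndQuasiAffineHom {S : Scheme.{u}} {ι : Type u} {X : ι → Scheme.{u}}
    {f : ∀ i, X i ⟶ S} {D : Desc.SchDDFam f}
    (hf : Presieve.ofArrows X f ∈ Scheme.fpqcPrecoverage S)
    (hD : ∀ i, MoreMor.IsIndQuasiAffineHom (D.obj i).hom) : D.IsEffective := by
  let P : MorphismProperty Scheme.{u} := fun _ _ q => MoreMor.IsIndQuasiAffineHom q
  have : P.IsStableUnderBaseChange := ⟨fun sq h => IndQA12.baseChange sq h⟩
  refine isEffective_of_affine_case hf P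
    (fun _ _ _ _ q h => isIndQuasiAffineHom_sigmaMap q h) ?_ hD
  intro X' S' p _ _ _ _ E hE
  refine isEffective_indQuasiAffine_single E fun U hU => ?_
  exact IndQA12.isQuasiAffine_of_le hE (isAffineOpen_top X') (fun z _ => trivial) hU

end Groth.Agent.SchDesc12
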