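import Groth.Agent.Lib.SchDesc12.QAffine
import Mathlib.AlgebraicGeometry.ZariskisMainTheorem
import Mathlib.RingTheory.Unramified.Finite
import Mathlib.AlgebraicGeometry.Morphisms.Etale
import Mathlib.AlgebraicGeometry.Morphisms.LocalFlatDescent
import Mathlib.AlgebraicGeometry.Morphisms.UniversallyOpen

/-!
# Descent of separated locally quasi-finite schemes

Stable opens of descent data, saturation along universally open quasi-compact maps, and effective
descent of separated locally quasi-finite schemes along fppf coverings.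
-/

universe u

open scoped TensorProduct
open CategoryTheory CategoryTheory.Limits AlgebraicGeometry Opposite TopologicalSpace

set_option backward.isDefEq.respectTransparency.types false

namespace Groth.Agent.SchDesc12

variable {S : Scheme.{u}} {ι : Type u} {X : ι → Scheme.{u}} {f : ∀ i, X i ⟶ S}

/-- A family of opens of a descent datum is stable if the translations preserve it. -/
def IsStable (D : Desc.SchDDFam f) (W : ∀ i, (D.obj i).left.Opens) : Prop :=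
  ∀ ⦃T : Scheme.{u}⦄ ⦃i k : ι⦄ (x₀ : T ⟶ X i) (x₁ : T ⟶ X k) (h : x₀ ≫ f i = x₁ ≫ f k)
    (v : Desc.Lifts (D.obj i) x₀) (z : T), v.1 z ∈ W i → (D.φ x₀ x₁ h v).1 z ∈ W k

/-- A stable family of opens underlies an open subdatum. -/
theorem exists_openSub (D : Desc.SchDDFam f) (W : ∀ i, (D.obj i).left.Opens) (hW : IsStable D W) :
    ∃ (D' : Desc.SchDDFam f) (j : D' ⟶ D), ∀ i,
      ∃ e : (D'.obj i).left ≅ (W i).toScheme, e.hom ≫ (W i).ι = (j.hom i).left ∧
        e.hom ≫ (W i).ι ≫ (D.obj i).hom = (D'.obj i).hom := by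
  let O : ∀ i, Over (X i) := fun i => Over.mk ((W i).ι ≫ (D.obj i).hom)
  have mem : ∀ {T : Scheme.{u}} {i : ι} {x : T ⟶ X i} (v : Desc.Lifts (O i) x) (z : T),
      (v.1 ≫ (W i).ι) z ∈ W i := fun v z => (v.1 z).2
  let up : ∀ {T : Scheme.{u}} {i : ι} {x : T ⟶ X i}, Desc.Lifts (O i) x →
      Desc.Lifts (D.obj i) x := fun {T i x} v =>
    ⟨v.1 ≫ (W i).ι, (Category.assoc _ _ _).trans v.2⟩
  have hsub : ∀ {T : Scheme.{u}} {i k : ι} (x₀ : T ⟶ X i) (x₁ : T ⟶ X k)
      (h : x₀ ≫ f i = x₁ ≫ f k) (v : Desc.Lifts (O i) x₀),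
      ∃ w : Desc.Lifts (O k) x₁, w.1 ≫ (W k).ι = (D.φ x₀ x₁ h (up v)).1 := by
    intro T i k x₀ x₁ h v
    have hr : Set.range (D.φ x₀ x₁ h (up v)).1 ⊆ Set.range (W k).ι := by
      rw [(W k).range_ι]
      rintro _ ⟨z, rfl⟩
      exact hW x₀ x₁ h (up v) z (mem v z)
    refine ⟨⟨IsOpenImmersion.lift (W k).ι _ hr, ?_⟩, IsOpenImmersion.lift_fac _ _ _⟩
    show IsOpenImmersion.lift (W k).ι _ hr ≫ (W k).ι ≫ (D.obj k).hom = x₁
    rw [← Category.assoc, IsOpenImmersion.lift_fac]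
    exact (D.φ x₀ x₁ h (up v)).2
  choose tr htr using @hsub
  have ext : ∀ {T : Scheme.{u}} {i : ι} {x : T ⟶ X i} {v w : Desc.Lifts (O i) x},
      (up v).1 = (up w).1 → v = w := fun {T i x v w} h => Subtype.ext ((cancel_mono (W i).ι).1 h)
  have hup : ∀ {T : Scheme.{u}} {i k : ι} (x₀ : T ⟶ X i) (x₁ : T ⟶ X k)
      (h : x₀ ≫ f i = x₁ ≫ f k) (v : Desc.Lifts (O i) x₀), up (tr x₀ x₁ h v) = D.φ x₀ x₁ h (up v) :=
    fun x₀ x₁ h v => Subtype.ext (htr x₀ x₁ h v)
  let D' : Desc.SchDDFam f :=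
    { obj := O
      φ := fun T i k x₀ x₁ h =>
        { toFun := tr x₀ x₁ h
          invFun := tr x₁ x₀ h.symm
          left_inv := fun v => ext (by rw [hup, hup, D.φ_comp, D.φ_self])
          right_inv := fun v => ext (by rw [hup, hup, D.φ_comp, D.φ_self]) }
      φ_natural := fun T T' g i k x₀ x₁ h y₀ y₁ hy₀ hy₁ h' v v' hv => by
        show (tr y₀ y₁ h' v').1 = g ≫ (tr x₀ x₁ h v).1
        rw [← cancel_mono (W k).ι, Category.assoc, htr, htr]
        exact D.φ_natural g x₀ x₁ h y₀ y₁ hy₀ hy₁ h' (up v) (up v') (by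
          show v'.1 ≫ (W i).ι = g ≫ v.1 ≫ (W i).ι
          rw [hv, Category.assoc])
      φ_self := fun T i x v => ext (by
        show (up (tr x x rfl v)).1 = (up v).1
        rw [hup, D.φ_self])
      φ_comp := fun T i k l x₀ x₁ x₂ h₀₁ h₁₂ v => ext (by
        show (up (tr x₁ x₂ h₁₂ (tr x₀ x₁ h₀₁ v))).1 = (up (tr x₀ x₂ (h₀₁.trans h₁₂) v)).1
        rw [hup, hup, hup, D.φ_comp]) }
  let j : D' ⟶ D :=
    { hom := fun i => Over.homMk (W i).ι rfl
      comm := fun T i k x₀ x₁ h v w hw => by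
        show _ = (tr x₀ x₁ h v).1 ≫ (W k).ι
        rw [htr, show w = up v from Subtype.ext hw] }
  exact ⟨D', j, fun i => ⟨Iso.refl _, Category.id_comp _, Category.id_comp _⟩⟩

section single

variable {X S : Scheme.{u}} {p : X ⟶ S}

/-- Quasi-compact opens lie in quasi-compact stable opens when the map is universally open and
quasi-compact. -/
theorem exists_stable_of_universallyOpen [UniversallyOpen p] [QuasiCompact p]
    (D : Desc.SchDDFam (fun _ : PUnit.{u + 1} => p)) (U : (D.obj ⟨⟩).left.Opens)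
    (hU : IsCompact (U : Set (D.obj ⟨⟩).left)) :
    ∃ W : (D.obj ⟨⟩).left.Opens, U ≤ W ∧ IsCompact (W : Set (D.obj ⟨⟩).left) ∧
      IsStable D fun _ => W := by
  let γ := (D.obj ⟨⟩).hom
  let a := pullback.fst (γ ≫ p) p
  let b := pullback.snd (γ ≫ p) p
  have hab : (a ≫ γ) ≫ p = b ≫ p := by rw [Category.assoc]; exact pullback.condition
  obtain ⟨v₀, hv₀⟩ : ∃ v : Desc.Lifts (D.obj ⟨⟩) (a ≫ γ), v.1 = a := ⟨⟨a, rfl⟩, rfl⟩
  obtain ⟨t, ht⟩ : ∃ t, t = (D.φ (a ≫ γ) b hab v₀).1 := ⟨_, rfl⟩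
  have htγ : t ≫ γ = b := by rw [ht]; exact (D.φ (a ≫ γ) b hab v₀).2
  have key : ∀ {T : Scheme.{u}} (x₀ x₁ : T ⟶ X) (h : x₀ ≫ p = x₁ ≫ p)
      (v : Desc.Lifts (D.obj ⟨⟩) x₀) (c : T ⟶ pullback (γ ≫ p) p),
      c ≫ a = v.1 → c ≫ b = x₁ → (D.φ x₀ x₁ h v).1 = c ≫ t := by
    intro T x₀ x₁ h v c hc₀ hc₁
    rw [ht]
    exact D.φ_natural c (a ≫ γ) b hab x₀ x₁ (by rw [← Category.assoc, hc₀]; exact v.2) hc₁ h v₀ v
      (by rw [hv₀, hc₀])
  -- `t` is conjugate to the projection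
  obtain ⟨σ, hσ₀, hσ₁⟩ : ∃ σ : pullback (γ ≫ p) p ⟶ pullback (γ ≫ p) p,
      σ ≫ a = t ∧ σ ≫ b = a ≫ γ :=
    ⟨pullback.lift t (a ≫ γ) (by rw [← Category.assoc, htγ]; exact hab.symm),
      pullback.lift_fst _ _ _, pullback.lift_snd _ _ _⟩
  have hσt : σ ≫ t = a := by
    rw [← key b (a ≫ γ) hab.symm (D.φ (a ≫ γ) b hab v₀) σ (by rw [hσ₀, ht]) hσ₁, D.φ_comp,
      D.φ_self, hv₀]
  have hσσ : σ ≫ σ = 𝟙 _ := pullback.hom_ext
    (show (σ ≫ σ) ≫ a = 𝟙 _ ≫ a by rw [Category.assoc, hσ₀, hσt, Category.id_comp])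
    (show (σ ≫ σ) ≫ b = 𝟙 _ ≫ b by
      rw [Category.assoc, hσ₁, ← Category.assoc, hσ₀, htγ, Category.id_comp])
  have : IsIso σ := ⟨σ, hσσ, hσσ⟩
  have ha : UniversallyOpen a := MorphismProperty.pullback_fst _ _ ‹_›
  have : UniversallyOpen t := by
    rw [← hσ₀]
    exact MorphismProperty.comp_mem _ σ a inferInstance ha
  have : QuasiCompact a := MorphismProperty.pullback_fst _ _ ‹_›
  refine ⟨⟨t '' (a ⁻¹ᵁ U), t.isOpenMap _ (a ⁻¹ᵁ U).2⟩, fun z hz => ?_,
    (a.isCompact_preimage hU).image t.continuous, fun T ⟨⟩ ⟨⟩ x₀ x₁ h v z hz => ?_⟩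
  · obtain ⟨δ, hδ₀, hδ₁⟩ : ∃ δ : (D.obj ⟨⟩).left ⟶ pullback (γ ≫ p) p, δ ≫ a = 𝟙 _ ∧ δ ≫ b = γ :=
      ⟨pullback.lift (𝟙 _) γ (Category.id_comp _), pullback.lift_fst _ _ _,
        pullback.lift_snd _ _ _⟩
    refine ⟨δ z, ?_, ?_⟩
    · show a (δ z) ∈ U
      rw [← Scheme.Hom.comp_apply, hδ₀]
      exact hz
    · rw [← Scheme.Hom.comp_apply,
        ← key γ γ rfl ⟨𝟙 _, Category.id_comp γ⟩ δ hδ₀ hδ₁, D.φ_self]
      rfl
  · obtain ⟨w, hw, hwz⟩ := hz
    obtain ⟨u, hu₁, hu₂⟩ := Scheme.Pullback.exists_preimage_pullback (f := t) (g := v.1) w z hwz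
    let e := pullback.fst t v.1
    let c := pullback.snd t v.1
    have hec : e ≫ t = c ≫ v.1 := pullback.condition
    have h01 : (e ≫ a ≫ γ) ≫ p = (e ≫ b) ≫ p := by
      simp only [Category.assoc] at hab ⊢
      rw [hab]
    have h12 : (e ≫ b) ≫ p = (c ≫ x₁) ≫ p := by
      rw [← htγ, ← Category.assoc e, hec]
      simp only [Category.assoc]
      rw [← h, ← reassoc_of% v.2]
    let v' : Desc.Lifts (D.obj ⟨⟩) (e ≫ a ≫ γ) := ⟨e ≫ a, Category.assoc _ _ _⟩
    have e01 : (D.φ (i := ⟨⟩) (j := ⟨⟩) _ _ h01 v').1 = c ≫ v.1 := by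
      rw [key _ _ h01 v' e rfl rfl, hec]
    obtain ⟨l, hl₀, hl₁⟩ : ∃ l : pullback t v.1 ⟶ pullback (γ ≫ p) p,
        l ≫ a = e ≫ a ∧ l ≫ b = c ≫ x₁ :=
      ⟨pullback.lift (e ≫ a) (c ≫ x₁) (by
          rw [← h12, ← h01]; simp only [Category.assoc]),
        pullback.lift_fst _ _ _, pullback.lift_snd _ _ _⟩
    have k₁ : (D.φ (i := ⟨⟩) (j := ⟨⟩) _ _ (h01.trans h12) v').1 = c ≫ (D.φ (i := ⟨⟩) (j := ⟨⟩) x₀ x₁ h v).1 := by
      rw [← D.φ_comp _ _ _ h01 h12 v']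
      exact D.φ_natural c x₀ x₁ h (e ≫ b) (c ≫ x₁) (by
        refine (congrArg (c ≫ ·) v.2).symm.trans ?_
        show c ≫ v.1 ≫ γ = e ≫ b
        rw [← Category.assoc, ← hec, Category.assoc, htγ]) rfl h12 v _ e01
    rw [key _ _ (h01.trans h12) v' l hl₀ hl₁] at k₁
    refine ⟨l u, ?_, ?_⟩
    · show a (l u) ∈ U
      rw [← Scheme.Hom.comp_apply, hl₀, Scheme.Hom.comp_apply, hu₁]
      exact hw
    · rw [← Scheme.Hom.comp_apply, k₁, Scheme.Hom.comp_apply, hu₂]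

/-- A separated quasi-finite quasi-compact scheme over an affine scheme is quasi-affine. -/
theorem isQuasiAffine_of_lqf {X Y : Scheme.{u}} (f : X ⟶ Y) [LocallyQuasiFinite f]
    [LocallyOfFiniteType f] [IsSeparated f] [IsAffine Y] [CompactSpace ↥X] : X.IsQuasiAffine := by
  have : QuasiCompact f := (quasiCompact_iff_compactSpace f).2 ‹_›
  have : IsAffine f.normalization := isAffine_of_isAffineHom f.fromNormalization
  exact Scheme.IsQuasiAffine.of_isImmersion f.toNormalization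

/-- Separated locally quasi-finite data over flat universally open surjections of affine schemes are
effective. -/
theorem isEffective_lqf_single [IsAffine X] [IsAffine S] (p : X ⟶ S) [Flat p] [Surjective p]
    [UniversallyOpen p] (D : Desc.SchDDFam (fun _ : PUnit.{u + 1} => p))
    [IsSeparated (D.obj ⟨⟩).hom] [LocallyQuasiFinite (D.obj ⟨⟩).hom]
    [LocallyOfFiniteType (D.obj ⟨⟩).hom] : D.IsEffective := by
  have key : ∀ v : (D.obj ⟨⟩).left, ∃ C : Chart D, v ∈ C.W ⟨⟩ := by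
    intro v
    obtain ⟨U, hU, hvU, -⟩ :=
      exists_isAffineOpen_mem_and_subset (X := (D.obj ⟨⟩).left) (x := v) (U := ⊤) trivial
    obtain ⟨W, hUW, hWc, hWs⟩ := exists_stable_of_universallyOpen D U hU.isCompact
    obtain ⟨D', j, hj⟩ := exists_openSub D (fun _ => W) hWs
    obtain ⟨e, he₁, he₂⟩ := hj ⟨⟩
    have : CompactSpace W.toScheme := isCompact_iff_compactSpace.mp hWc
    have : W.toScheme.IsQuasiAffine := isQuasiAffine_of_lqf (W.ι ≫ (D.obj ⟨⟩).hom)
    have : (D'.obj ⟨⟩).left.IsQuasiAffine := QA11.isQuasiAffine_of_iso e.hom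
    have hjo : ∀ i, IsOpenImmersion (j.hom i).left := fun _ => by
      rw [← he₁]; infer_instance
    obtain ⟨C, hC⟩ := exists_chart_of_hom D' j hjo (isEffective_quasiAffine_single p D')
    refine ⟨C, ?_⟩
    rw [hC]
    refine ⟨e.inv ⟨v, hUW hvU⟩, ?_⟩
    rw [← he₁, ← Scheme.Hom.comp_apply, Iso.inv_hom_id_assoc]
    rfl
  choose C hC using key
  exact isEffective_of_charts D (single_mem_fpqc p) C fun _ v => ⟨v, hC v⟩

end single

/-- Separated locally quasi-finite descent data along flat locally finitely presented coverings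
are effective. -/
theorem isEffective_of_lqf {D : Desc.SchDDFam f}
    (hf : Presieve.ofArrows X f ∈ Scheme.fpqcPrecoverage S)
    (hfp : ∀ i, LocallyOfFinitePresentation (f i))
    (h₁ : ∀ i, IsSeparated (D.obj i).hom) (h₂ : ∀ i, LocallyQuasiFinite (D.obj i).hom)
    (h₃ : ∀ i, LocallyOfFiniteType (D.obj i).hom) : D.IsEffective := by
  let P : MorphismProperty Scheme.{u} := @IsSeparated ⊓ @LocallyQuasiFinite ⊓ @LocallyOfFiniteType
  have hσ : ∀ (P : MorphismProperty Scheme.{u}) [IsZariskiLocalAtTarget P] (κ : Type u)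
      (Y V : κ → Scheme.{u}) (q : ∀ j, Y j ⟶ V j), (∀ j, P (q j)) → P (Limits.Sigma.map q) := by
    intro P _ κ Y V q h
    refine (IsZariskiLocalAtTarget.iff_of_openCover (P := P) (sigmaOpenCover V)).2
      fun (j : κ) => ?_
    show P (pullback.snd (Limits.Sigma.map q) (Sigma.ι V j))
    rw [← (isPullback_sigmaMap q j).isoPullback_inv_snd]
    exact (P.cancel_left_of_respectsIso _ _).2 (h j)
  refine isEffective_of_affine_case' @LocallyOfFinitePresentation hfp hf P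
    (fun κ _ Y V q h => ⟨⟨hσ _ κ Y V q fun j => (h j).1.1, hσ _ κ Y V q fun j => (h j).1.2⟩,
      hσ _ κ Y V q fun j => (h j).2⟩) ?_ fun i => ⟨⟨h₁ i, h₂ i⟩, h₃ i⟩
  intro X' S' p _ _ _ _ _ E ⟨⟨_, _⟩, _⟩
  exact isEffective_lqf_single p E

/-- Quasi-compact separated quasi-finite morphisms are quasi-affine. -/
theorem mor2_isQuasiAffine_of_lqf {X Y : Scheme.{u}} (q : X ⟶ Y) [QuasiCompact q]
    [LocallyQuasiFinite q] [LocallyOfFiniteType q] [IsSeparated q] : Mor2.IsQuasiAffine q := by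
  refine ⟨inferInstance, fun V hV => ?_⟩
  have : IsAffine V.toScheme := hV
  have : IsSeparated (q ∣_ V) := IsZariskiLocalAtTarget.restrict ‹_› V
  have : LocallyQuasiFinite (q ∣_ V) := IsZariskiLocalAtTarget.restrict ‹_› V
  have : LocallyOfFiniteType (q ∣_ V) := IsZariskiLocalAtTarget.restrict ‹_› V
  have : CompactSpace (q ⁻¹ᵁ V).toScheme :=
    isCompact_iff_compactSpace.mp (q.isCompact_preimage hV.isCompact)
  exact isQuasiAffine_of_lqf (q ∣_ V)

/-- Etale morphisms are locally quasi-finite. -/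
theorem locallyQuasiFinite_of_etale {X Y : Scheme.{u}} (f : X ⟶ Y) [Etale f] :
    LocallyQuasiFinite f := by
  rw [HasRingHomProperty.iff_appLE (P := @LocallyQuasiFinite)]
  intro U V e
  have h := HasRingHomProperty.appLE (P := @Etale) f ‹_› U V e
  algebraize [(f.appLE U V e).hom]
  exact RingHom.quasiFinite_algebraMap.2
    ⟨fun p _ => Algebra.FormallyUnramified.finite_of_free p.ResidueField (p.ResidueField ⊗[_] _)⟩

end Groth.Agent.SchDesc12
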