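import Groth.Agent.Lib.SchDesc12.Charts

/-!
# Descended sections glue along fpqc coverings
-/

universe u

open CategoryTheory CategoryTheory.Limits AlgebraicGeometry Opposite TopologicalSpace

set_option backward.isDefEq.respectTransparency.types false

namespace Groth.Agent.SchDesc12

variable {S : Scheme.{u}} {ι : Type u} {X : ι → Scheme.{u}} {f : ∀ i, X i ⟶ S}
  {D : Desc.SchDDFam f}

/-- Morphisms agreeing on an fpqc covering are equal. -/
theorem hom_ext_fpqc {T W : Scheme.{u}} {κ : Type u} {Y : κ → Scheme.{u}} (u : ∀ k, Y k ⟶ T)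
    (hu : Presieve.ofArrows Y u ∈ Scheme.fpqcPrecoverage T) {g g' : T ⟶ W}
    (h : ∀ k, u k ≫ g = u k ≫ g') : g = g' := by
  have hs := (GrothendieckTopology.Subcanonical.isSheaf_of_isRepresentable (J := Scheme.fpqcTopology)
    (yoneda.obj W)).isSheafFor _ (Precoverage.generate_mem_toGrothendieck hu)
  exact ((Presieve.isSheafFor_arrows_iff _ _).1 hs (fun k => u k ≫ g) fun k l Z a b hab => by
    show a ≫ u k ≫ g = b ≫ u l ≫ g
    rw [← Category.assoc, hab, Category.assoc]).unique (fun k => rfl) fun k => (h k).symm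

/-- Compatible morphisms on an fpqc covering glue. -/
theorem exists_hom_fpqc {T W : Scheme.{u}} {κ : Type u} {Y : κ → Scheme.{u}} (u : ∀ k, Y k ⟶ T)
    (hu : Presieve.ofArrows Y u ∈ Scheme.fpqcPrecoverage T) (g : ∀ k, Y k ⟶ W)
    (h : ∀ k l (Z : Scheme.{u}) (a : Z ⟶ Y k) (b : Z ⟶ Y l), a ≫ u k = b ≫ u l →
      a ≫ g k = b ≫ g l) : ∃ G : T ⟶ W, ∀ k, u k ≫ G = g k := by
  have hs := (GrothendieckTopology.Subcanonical.isSheaf_of_isRepresentable (J := Scheme.fpqcTopology)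
    (yoneda.obj W)).isSheafFor _ (Precoverage.generate_mem_toGrothendieck hu)
  obtain ⟨G, hG, -⟩ := (Presieve.isSheafFor_arrows_iff _ _).1 hs g fun k l Z a b hab => h k l Z a b hab
  exact ⟨G, hG⟩

theorem pullback_fst_mem_fpqc {T W : Scheme.{u}} {κ : Type u} {Y : κ → Scheme.{u}}
    (u : ∀ k, Y k ⟶ T) (hu : Presieve.ofArrows Y u ∈ Scheme.fpqcPrecoverage T) (a : W ⟶ T) :
    Presieve.ofArrows (fun k => pullback a (u k)) (fun k => pullback.fst a (u k)) ∈
      Scheme.fpqcPrecoverage W :=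
  Precoverage.mem_coverings_of_isPullback u hu a _ (fun k => pullback.snd a (u k))
    fun k => IsPullback.of_hasPullback a (u k)

namespace Sec

variable {T : Scheme.{u}} {t : T ⟶ S}

theorem eval_congr (σ : Sec D t) {T' : Scheme.{u}} {i : ι} {a a' : T' ⟶ T} {x x' : T' ⟶ X i}
    (ha : a = a') (hx : x = x') (h : a ≫ t = x ≫ f i) (h' : a' ≫ t = x' ≫ f i) :
    (σ.eval a x h).1 = (σ.eval a' x' h').1 := by
  subst ha hx; rfl

/-- Sections agreeing on an fpqc covering are equal. -/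
theorem ext_fpqc {κ : Type u} {Y : κ → Scheme.{u}} (u : ∀ k, Y k ⟶ T)
    (hu : Presieve.ofArrows Y u ∈ Scheme.fpqcPrecoverage T) {σ σ' : Sec D t}
    (h : ∀ k ⦃T' : Scheme.{u}⦄ (i : ι) (b : T' ⟶ Y k) (x : T' ⟶ X i)
      (e : (b ≫ u k) ≫ t = x ≫ f i),
      (σ.eval (b ≫ u k) x e).1 = (σ'.eval (b ≫ u k) x e).1) : σ = σ' := by
  refine σ.ext_eval fun T' i a x e => hom_ext_fpqc _ (pullback_fst_mem_fpqc u hu a) fun k => ?_
  have e' : (pullback.snd a (u k) ≫ u k) ≫ t = (pullback.fst a (u k) ≫ x) ≫ f i := by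
    rw [← pullback.condition, Category.assoc, e, Category.assoc]
  rw [← σ.eval_natural (pullback.fst a (u k)) a x e _ _ pullback.condition rfl e',
    ← σ'.eval_natural (pullback.fst a (u k)) a x e _ _ pullback.condition rfl e']
  exact h k i _ _ e'

/-- Compatible sections on an fpqc covering glue. -/
theorem exists_glue {κ : Type u} {Y : κ → Scheme.{u}} (u : ∀ k, Y k ⟶ T)
    (hu : Presieve.ofArrows Y u ∈ Scheme.fpqcPrecoverage T) {s : ∀ k, Y k ⟶ S}
    (hs : ∀ k, u k ≫ t = s k) (σ : ∀ k, Sec D (s k))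
    (hσ : ∀ k l ⦃Z : Scheme.{u}⦄ (a : Z ⟶ Y k) (b : Z ⟶ Y l), a ≫ u k = b ≫ u l →
      ∀ (i : ι) (x : Z ⟶ X i) (e : a ≫ s k = x ≫ f i) (e' : b ≫ s l = x ≫ f i),
        ((σ k).eval a x e).1 = ((σ l).eval b x e').1) :
    ∃ τ : Sec D t, ∀ k ⦃T' : Scheme.{u}⦄ (i : ι) (b : T' ⟶ Y k) (x : T' ⟶ X i)
      (e : (b ≫ u k) ≫ t = x ≫ f i) (e' : b ≫ s k = x ≫ f i),
      (τ.eval (b ≫ u k) x e).1 = ((σ k).eval b x e').1 := by
  have hs' : ∀ i k, pullback.snd (pullback.fst t (f i)) (u k) ≫ s k =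
      (pullback.fst (pullback.fst t (f i)) (u k) ≫ pullback.snd t (f i)) ≫ f i := fun i k => by
    rw [← hs k, ← pullback.condition_assoc, Category.assoc, ← pullback.condition (f := t)]
  have hval : ∀ i, ∃ G : pullback t (f i) ⟶ (D.obj i).left,
      ∀ k, pullback.fst (pullback.fst t (f i)) (u k) ≫ G = ((σ k).eval _ _ (hs' i k)).1 := fun i => by
    refine exists_hom_fpqc _ (pullback_fst_mem_fpqc u hu _) _ fun k l Z a b hab => ?_
    have e₁ : (a ≫ pullback.snd _ (u k)) ≫ s k =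
        (a ≫ pullback.fst _ (u k) ≫ pullback.snd t (f i)) ≫ f i := by
      rw [Category.assoc, hs' i k, ← Category.assoc]
    have e₂ : (b ≫ pullback.snd _ (u l)) ≫ s l =
        (a ≫ pullback.fst _ (u k) ≫ pullback.snd t (f i)) ≫ f i := by
      rw [Category.assoc, hs' i l, ← Category.assoc a, hab, ← Category.assoc, ← Category.assoc]
    refine ((σ k).eval_natural a _ _ (hs' i k) _ _ rfl rfl e₁).symm.trans
      ((hσ k l _ _ ?_ i _ e₁ e₂).trans ((σ l).eval_natural b _ _ (hs' i l) _ _ rfl ?_ e₂))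
    · rw [Category.assoc, Category.assoc, ← pullback.condition, ← pullback.condition,
        ← Category.assoc, hab, Category.assoc]
    · rw [← Category.assoc, ← hab, Category.assoc]
  choose G hG using hval
  have hover : ∀ i, G i ≫ (D.obj i).hom = pullback.snd t (f i) := fun i =>
    hom_ext_fpqc _ (pullback_fst_mem_fpqc u hu _) fun k => by
      rw [← Category.assoc, hG]
      exact ((σ k).eval _ _ (hs' i k)).2
  have key : ∀ {T' : Scheme.{u}} (i : ι) (k : κ) (b : T' ⟶ Y k) (x : T' ⟶ X i) (a : T' ⟶ T)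
      (_ : b ≫ u k = a) (e : a ≫ t = x ≫ f i) (e' : b ≫ s k = x ≫ f i),
      pullback.lift a x e ≫ G i = ((σ k).eval b x e').1 := by
    intro T' i k b x a ha e e'
    have hz : pullback.lift (pullback.lift a x e) b ((pullback.lift_fst _ _ _).trans ha.symm) ≫
        pullback.fst (pullback.fst t (f i)) (u k) = pullback.lift a x e := pullback.lift_fst _ _ _
    rw [← hz, Category.assoc, hG]
    exact ((σ k).eval_natural _ _ _ (hs' i k) b x (pullback.lift_snd _ _ _)
      (by rw [← Category.assoc, pullback.lift_fst, pullback.lift_snd]) e').symm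
  refine ⟨⟨G, hover, fun T' i j a x₀ x₁ h₀ h₁ => ?_⟩, fun k T' i b x e e' =>
    key i k b x _ rfl e e'⟩
  refine hom_ext_fpqc _ (pullback_fst_mem_fpqc u hu a) fun k => ?_
  let c := pullback.fst a (u k)
  let b := pullback.snd a (u k)
  have hcb : b ≫ u k = c ≫ a := pullback.condition.symm
  have e₀ : b ≫ s k = (c ≫ x₀) ≫ f i := by
    rw [← hs k, ← Category.assoc, hcb, Category.assoc, Category.assoc, h₀]
  have e₁ : b ≫ s k = (c ≫ x₁) ≫ f j := by
    rw [← hs k, ← Category.assoc, hcb, Category.assoc, Category.assoc, h₁]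
  have hv : ∀ (l : ι) (x : T' ⟶ X l) (h : a ≫ t = x ≫ f l) (e : b ≫ s k = (c ≫ x) ≫ f l),
      c ≫ pullback.lift a x h ≫ G l = ((σ k).eval b (c ≫ x) e).1 := fun l x h e => by
    have h' : (c ≫ a) ≫ t = (c ≫ x) ≫ f l := by rw [Category.assoc, h, Category.assoc]
    have hc : c ≫ pullback.lift a x h = pullback.lift (c ≫ a) (c ≫ x) h' := by
      apply pullback.hom_ext
      · rw [Category.assoc, pullback.lift_fst, pullback.lift_fst]
      · rw [Category.assoc, pullback.lift_snd, pullback.lift_snd]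
    rw [← Category.assoc, hc, key l k b _ _ hcb _ e]
  show c ≫ _ = c ≫ _
  refine Eq.trans ?_ (hv j x₁ h₁ e₁).symm
  rw [← (σ k).eval_compat b (c ≫ x₀) (c ≫ x₁) e₀ e₁]
  exact (D.φ_natural c x₀ x₁ _ _ _ rfl rfl _ _ _ (hv i x₀ h₀ e₀).symm).symm

end Sec

/-- A scheme representing the descended sections over `g : Z ⟶ S`. -/
structure Rep (D : Desc.SchDDFam f) {Z : Scheme.{u}} (g : Z ⟶ S) where
  /-- the representing scheme -/
  U : Scheme.{u}
  /-- its structure morphism -/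
  π : U ⟶ Z
  /-- the universal section -/
  univ : Sec D (π ≫ g)
  exists_lift : ∀ ⦃T : Scheme.{u}⦄ (z : T ⟶ Z) (σ : Sec D (z ≫ g)), ∃ b : T ⟶ U, b ≫ π = z ∧
    ∀ ⦃T' : Scheme.{u}⦄ (i : ι) (a : T' ⟶ T) (x : T' ⟶ X i) (e : a ≫ z ≫ g = x ≫ f i)
      (e' : (a ≫ b) ≫ π ≫ g = x ≫ f i), (univ.eval (a ≫ b) x e').1 = (σ.eval a x e).1
  hom_ext : ∀ ⦃T : Scheme.{u}⦄ (b b' : T ⟶ U), b ≫ π = b' ≫ π →
    (∀ ⦃T' : Scheme.{u}⦄ (i : ι) (a : T' ⟶ T) (x : T' ⟶ X i) (e : (a ≫ b) ≫ π ≫ g = x ≫ f i)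
      (e' : (a ≫ b') ≫ π ≫ g = x ≫ f i),
      (univ.eval (a ≫ b) x e).1 = (univ.eval (a ≫ b') x e').1) → b = b'

/-- A datum whose sections are representable over the base is effective. -/
theorem isEffective_of_rep (R : Rep D (𝟙 S)) : D.IsEffective := by
  refine isEffective_of_representable D ⟨R.U, ⟨{ homEquiv := ?_, homEquiv_comp := ?_ }⟩⟩
  · intro T
    refine Equiv.ofBijective
      (fun b => (⟨b ≫ R.π ≫ 𝟙 S, R.univ.pull b (t' := b ≫ R.π ≫ 𝟙 S) rfl⟩ : Pt D T))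
      ⟨fun b b' h => ?_, fun P => ?_⟩
    · refine R.hom_ext b b' (by simpa using congrArg Sigma.fst h) fun T' i a x e e' => ?_
      have := Pt.eval_congr h a x (by rw [← Category.assoc]; exact e)
      exact ((congrArg Subtype.val (Sec.eval_pull _ _ rfl _ _ _)).symm.trans this).trans
        (congrArg Subtype.val (Sec.eval_pull _ _ rfl _ _ _))
    · obtain ⟨t, σ⟩ := (P : Pt D T)
      obtain ⟨b, hb, hb'⟩ := R.exists_lift t (σ.pull (𝟙 T) (t' := t ≫ 𝟙 S) (by simp))
      refine ⟨b, Pt.ext' (by simpa using hb) fun T' i a x e => ?_⟩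
      refine (congrArg Subtype.val (Sec.eval_pull _ _ rfl _ _ _)).trans ?_
      refine (hb' i a x (by rw [← e]; simp [← hb]) _).trans ?_
      refine (congrArg Subtype.val (Sec.eval_pull _ _ _ _ _ _)).trans ?_
      exact σ.eval_congr (Category.comp_id a) rfl _ _
  · intro T T' m b
    show (⟨_, _⟩ : Pt D T) = ⟨_, _⟩
    refine Pt.ext' (Category.assoc _ _ _) fun T₀ i a x e => ?_
    refine (congrArg Subtype.val (Sec.eval_pull _ _ rfl _ _ _)).trans ?_
    refine Eq.trans ?_ (congrArg Subtype.val (Sec.eval_pull _ _ rfl _ _ _)).symm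
    refine Eq.trans ?_ (congrArg Subtype.val (Sec.eval_pull _ _ rfl _ _ _)).symm
    exact R.univ.eval_congr (Category.assoc _ _ _).symm rfl _ _

/-- Base change of a representation. -/
noncomputable def Rep.baseChange {Z Z' : Scheme.{u}} {g : Z ⟶ S} (R : Rep D g) (h : Z' ⟶ Z)
    {g' : Z' ⟶ S} (hg : h ≫ g = g') : Rep D g' where
  U := pullback R.π h
  π := pullback.snd R.π h
  univ := R.univ.pull (pullback.fst R.π h) (by rw [← Category.assoc, pullback.condition,
    Category.assoc, hg])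
  exists_lift T z σ := by
    obtain ⟨b, hb, hb'⟩ := R.exists_lift (z ≫ h) (σ.pull (𝟙 T) (t' := (z ≫ h) ≫ g)
      (by rw [Category.id_comp, Category.assoc, hg]))
    refine ⟨pullback.lift b z hb, pullback.lift_snd _ _ _, fun T' i a x e e' => ?_⟩
    refine (congrArg Subtype.val (Sec.eval_pull _ _ _ _ _ _)).trans ?_
    have ha : (a ≫ pullback.lift b z hb) ≫ pullback.fst R.π h = a ≫ b := by
      rw [Category.assoc, pullback.lift_fst]
    have e₁ : (a ≫ b) ≫ R.π ≫ g = x ≫ f i := by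
      rw [← e, Category.assoc, reassoc_of% hb, hg]
    refine (R.univ.eval_congr ha rfl _ e₁).trans ?_
    refine (hb' i a x (by rw [← e, Category.assoc, hg]) e₁).trans ?_
    refine (congrArg Subtype.val (Sec.eval_pull _ _ _ _ _ _)).trans ?_
    exact σ.eval_congr (Category.comp_id a) rfl _ _
  hom_ext T b b' h₁ h₂ := by
    refine pullback.hom_ext (R.hom_ext _ _ ?_ fun T' i a x e e' => ?_) h₁
    · rw [Category.assoc, pullback.condition, reassoc_of% h₁, Category.assoc, pullback.condition]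
    · have e₁ : (a ≫ b) ≫ pullback.snd R.π h ≫ g' = x ≫ f i := by
        rw [← e, ← hg]; simp only [Category.assoc, pullback.condition_assoc]
      have e₁' : (a ≫ b') ≫ pullback.snd R.π h ≫ g' = x ≫ f i := by
        rw [← e', ← hg]; simp only [Category.assoc, pullback.condition_assoc]
      refine (R.univ.eval_congr (Category.assoc _ _ _).symm rfl _ ?_).trans ?_
      · rw [Category.assoc a b, ← e]
      refine (congrArg Subtype.val (Sec.eval_pull _ _ _ _ _ e₁)).symm.trans ((h₂ i a x e₁ e₁').trans ?_)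
      exact (congrArg Subtype.val (Sec.eval_pull _ _ _ _ _ e₁')).trans
        (R.univ.eval_congr (Category.assoc _ _ _) rfl _ _)

/-- Over a point of a member of the family the sections are representable. -/
noncomputable def Rep.ofMember (D : Desc.SchDDFam f) {Z : Scheme.{u}} {g : Z ⟶ S} (i : ι)
    (x : Z ⟶ X i) (hx : x ≫ f i = g) : Rep D g where
  U := pullback (D.obj i).hom x
  π := pullback.snd (D.obj i).hom x
  univ := (ofLift D (T := pullback (D.obj i).hom x) (x := pullback.snd (D.obj i).hom x ≫ x)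
    ⟨pullback.fst (D.obj i).hom x, pullback.condition⟩).pull (𝟙 _)
      (by rw [Category.id_comp, Category.assoc, hx])
  exists_lift T z σ := by
    have e₀ : 𝟙 T ≫ z ≫ g = (z ≫ x) ≫ f i := by rw [Category.id_comp, Category.assoc, hx]
    refine ⟨pullback.lift (σ.eval (𝟙 T) (z ≫ x) e₀).1 z (σ.eval (𝟙 T) (z ≫ x) e₀).2,
      pullback.lift_snd _ _ _, fun T' j a y e e' => ?_⟩
    refine (congrArg Subtype.val (Sec.eval_pull _ _ _ _ _ _)).trans ?_
    refine (congrArg Subtype.val (eval_ofLift D _ _ y _)).trans ?_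
    have hh : ∀ (x₀ : T' ⟶ X i) (e₁ : x₀ ≫ f i = y ≫ f j) (v : Desc.Lifts (D.obj i) x₀)
        (e₂ : a ≫ z ≫ g = x₀ ≫ f i), v.1 = (σ.eval a x₀ e₂).1 →
        (D.φ x₀ y e₁ v).1 = (σ.eval a y e).1 := fun x₀ e₁ v e₂ hv => by
      rw [show v = σ.eval a x₀ e₂ from Subtype.ext hv, σ.eval_compat a x₀ y e₂ e]
    refine hh _ _ _ ?_ ?_
    · simp only [Category.comp_id, Category.assoc, pullback.lift_snd_assoc, hx]
    · simp only [Category.comp_id, Category.assoc, pullback.lift_fst]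
      refine (σ.eval_natural a (𝟙 T) (z ≫ x) e₀ _ _ (Category.comp_id a) ?_ _).symm
      simp only [Category.comp_id, Category.assoc]
      rw [← Category.assoc (pullback.lift _ _ _), pullback.lift_snd]
  hom_ext T b b' h₁ h₂ := by
    refine pullback.hom_ext ?_ h₁
    have e : (𝟙 T ≫ b) ≫ pullback.snd (D.obj i).hom x ≫ g =
        (b ≫ pullback.snd (D.obj i).hom x ≫ x) ≫ f i := by
      simp only [Category.id_comp, Category.assoc, hx]
    have e' : (𝟙 T ≫ b') ≫ pullback.snd (D.obj i).hom x ≫ g =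
        (b ≫ pullback.snd (D.obj i).hom x ≫ x) ≫ f i := by
      simp only [Category.id_comp, Category.assoc, hx, reassoc_of% h₁]
    have := h₂ i (𝟙 T) _ e e'
    have hh : ∀ (c : T ⟶ pullback (D.obj i).hom x) (x₀ : T ⟶ X i)
        (e₁ : (𝟙 T ≫ c) ≫ pullback.snd (D.obj i).hom x ≫ g = x₀ ≫ f i),
        c ≫ pullback.snd (D.obj i).hom x ≫ x = x₀ →
        (((ofLift D (T := pullback (D.obj i).hom x) (x := pullback.snd (D.obj i).hom x ≫ x)
          ⟨pullback.fst (D.obj i).hom x, pullback.condition⟩).pull (𝟙 _)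
          (t' := pullback.snd (D.obj i).hom x ≫ g)
          (by rw [Category.id_comp, Category.assoc, hx])).eval (𝟙 T ≫ c) x₀ e₁).1 =
          c ≫ pullback.fst (D.obj i).hom x := by
      intro c x₀ e₁ hc
      refine (congrArg Subtype.val (Sec.eval_pull _ _ _ _ _ _)).trans ?_
      refine (congrArg Subtype.val (eval_ofLift D _ _ x₀ _)).trans ?_
      have h' : ∀ (y : T ⟶ X i) (e₂ : y ≫ f i = x₀ ≫ f i) (v : Desc.Lifts (D.obj i) y), y = x₀ →
          (D.φ y x₀ e₂ v).1 = v.1 := by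
        rintro y e₂ v rfl
        rw [D.φ_self]
      refine (h' _ _ _ ?_).trans ?_
      · simp only [Category.comp_id, Category.id_comp]; exact hc
      · show ((𝟙 T ≫ c) ≫ 𝟙 _) ≫ _ = _
        simp only [Category.comp_id, Category.id_comp]
    exact ((hh b _ e rfl).symm.trans this).trans
      (hh b' _ e' (by simp only [reassoc_of% h₁]))

/-- A representation over an open subscheme gives a chart. -/
theorem Rep.exists_chart {V : S.Opens} (R : Rep D V.ι) :
    ∃ C : Chart D, ∀ i, C.W i = (D.obj i).hom ⁻¹ᵁ (f i ⁻¹ᵁ V) := by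
  let W : ∀ i, (D.obj i).left.Opens := fun i => (D.obj i).hom ⁻¹ᵁ (f i ⁻¹ᵁ V)
  let z : ∀ i, (W i).toScheme ⟶ V.toScheme := fun i =>
    ((D.obj i).hom ≫ f i).resLE V (W i) le_rfl
  have hz : ∀ i, z i ≫ V.ι = ((W i).ι ≫ (D.obj i).hom) ≫ f i := fun i => by
    rw [Scheme.Hom.resLE_comp_ι, Category.assoc]
  let pt : ∀ i, Sec D (z i ≫ V.ι) := fun i =>
    (ofLift D (x := (W i).ι ≫ (D.obj i).hom) ⟨(W i).ι, rfl⟩).pull (𝟙 _)
      (by rw [Category.id_comp, hz])
  choose q hqπ hq using fun i => R.exists_lift (z i) (pt i)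
  -- the value of the universal section along `q i`
  have hval : ∀ {T : Scheme.{u}} (i j : ι) (c : T ⟶ (W i).toScheme) (x : T ⟶ X j)
      (e : (c ≫ q i) ≫ R.π ≫ V.ι = x ≫ f j) (e₀ : (c ≫ (W i).ι ≫ (D.obj i).hom) ≫ f i = x ≫ f j),
      (R.univ.eval (c ≫ q i) x e).1 =
        (D.φ (c ≫ (W i).ι ≫ (D.obj i).hom) x e₀ ⟨c ≫ (W i).ι, Category.assoc _ _ _⟩).1 := by
    intro T i j c x e e₀
    refine (hq i j c x (by rw [hz, ← e₀]; simp only [Category.assoc]) e).trans ?_
    refine (congrArg Subtype.val (Sec.eval_pull _ _ _ _ _ _)).trans ?_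
    refine (congrArg Subtype.val (eval_ofLift D _ _ x _)).trans ?_
    have hh : ∀ (y : T ⟶ X i) (e₁ : y ≫ f i = x ≫ f j) (v : Desc.Lifts (D.obj i) y),
        y = c ≫ (W i).ι ≫ (D.obj i).hom → v.1 = c ≫ (W i).ι →
        (D.φ y x e₁ v).1 = (D.φ (c ≫ (W i).ι ≫ (D.obj i).hom) x e₀
          ⟨c ≫ (W i).ι, Category.assoc _ _ _⟩).1 := by
      rintro y e₁ v rfl hv
      rw [show v = ⟨c ≫ (W i).ι, Category.assoc _ _ _⟩ from Subtype.ext hv]
    exact hh _ _ _ (by rw [Category.comp_id]) (by rw [Category.comp_id])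
  refine ⟨{ W := W, U := R.U, π := R.π ≫ V.ι, q := q, sq := fun i => ?_, stable := ?_ },
    fun i => rfl⟩
  · have w : q i ≫ R.π ≫ V.ι = ((W i).ι ≫ (D.obj i).hom) ≫ f i := by
      rw [← Category.assoc, hqπ, hz]
    have e₀ : ∀ s : PullbackCone (R.π ≫ V.ι) (f i), s.fst ≫ R.π ≫ V.ι = s.snd ≫ f i :=
      fun s => s.condition
    let l : ∀ s : PullbackCone (R.π ≫ V.ι) (f i), s.pt ⟶ (W i).toScheme := fun s =>
      IsOpenImmersion.lift (W i).ι (R.univ.eval s.fst s.snd (e₀ s)).1 (by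
        rintro _ ⟨p, rfl⟩
        rw [Scheme.Opens.range_ι]
        show f i ((D.obj i).hom ((R.univ.eval s.fst s.snd (e₀ s)).1 p)) ∈ V
        rw [← Scheme.Hom.comp_apply (R.univ.eval s.fst s.snd (e₀ s)).1 (D.obj i).hom,
          (R.univ.eval s.fst s.snd (e₀ s)).2, ← Scheme.Hom.comp_apply,
          ← e₀ s, ← Category.assoc, Scheme.Hom.comp_apply]
        exact ((s.fst ≫ R.π) p).2)
    have hl : ∀ s, l s ≫ (W i).ι = (R.univ.eval s.fst s.snd (e₀ s)).1 := fun s =>
      IsOpenImmersion.lift_fac _ _ _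
    have hl₂ : ∀ s, l s ≫ (W i).ι ≫ (D.obj i).hom = s.snd := fun s => by
      rw [← Category.assoc, hl]; exact (R.univ.eval s.fst s.snd (e₀ s)).2
    refine ⟨⟨w⟩, ⟨PullbackCone.IsLimit.mk w l (fun s => ?_) hl₂ fun s m h₁ h₂ => ?_⟩⟩
    · have hp : (l s ≫ q i) ≫ R.π ≫ V.ι = s.fst ≫ R.π ≫ V.ι := by
        rw [Category.assoc, w, ← Category.assoc, hl₂, ← e₀]
      refine R.hom_ext _ _ (by
        rw [← cancel_mono V.ι, Category.assoc, Category.assoc]
        exact (Category.assoc _ _ _).symm.trans (hp.trans (Category.assoc _ _ _).symm) |>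
          fun h => by simpa only [Category.assoc] using h) fun T j a y e e' => ?_
      have e₂ : (a ≫ s.fst) ≫ R.π ≫ V.ι = (a ≫ s.snd) ≫ f i := by
        rw [Category.assoc, e₀, Category.assoc]
      have e₃ : ((a ≫ l s) ≫ (W i).ι ≫ (D.obj i).hom) ≫ f i = y ≫ f j := by
        rw [Category.assoc a, hl₂, ← e₂]; exact e'
      refine (R.univ.eval_congr (Category.assoc _ _ _).symm rfl e (by rw [← e]; simp)).trans ?_
      refine (hval i j (a ≫ l s) y _ e₃).trans ?_
      rw [← R.univ.eval_compat (a ≫ s.fst) (a ≫ s.snd) y e₂ e']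
      have hh : ∀ (x₀ : T ⟶ X i) (e₁ : x₀ ≫ f i = y ≫ f j) (v : Desc.Lifts (D.obj i) x₀),
          x₀ = a ≫ s.snd → v.1 = a ≫ (R.univ.eval s.fst s.snd (e₀ s)).1 →
          (D.φ x₀ y e₁ v).1 = (D.φ (a ≫ s.snd) y (e₂.symm.trans e')
            (R.univ.eval (a ≫ s.fst) (a ≫ s.snd) e₂)).1 := by
        rintro x₀ e₁ v rfl hv
        rw [show v = R.univ.eval (a ≫ s.fst) (a ≫ s.snd) e₂ from Subtype.ext
          (hv.trans (R.univ.eval_natural a _ _ (e₀ s) _ _ rfl rfl e₂).symm)]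
      exact hh _ _ _ (by rw [Category.assoc, hl₂]) ((Category.assoc _ _ _).trans (congrArg (a ≫ ·) (hl s)))
    · rw [← cancel_mono (W i).ι, hl]
      have hs : s.fst ≫ R.π ≫ V.ι = (m ≫ (W i).ι ≫ (D.obj i).hom) ≫ f i := by rw [h₂, e₀]
      have e : (m ≫ q i) ≫ R.π ≫ V.ι = (m ≫ (W i).ι ≫ (D.obj i).hom) ≫ f i := by rw [h₁, hs]
      refine Eq.trans ?_ (R.univ.eval_congr h₁ h₂ e (e₀ s))
      rw [hval i i m _ e rfl, D.φ_self]
  · intro T i j x₀ x₁ h v v₀ hv
    have hx₀ : v₀ ≫ (W i).ι ≫ (D.obj i).hom = x₀ := by rw [← Category.assoc, hv, v.2]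
    have hr : Set.range (D.φ x₀ x₁ h v).1 ⊆ Set.range (W j).ι := by
      rintro _ ⟨p, rfl⟩
      rw [Scheme.Opens.range_ι]
      show f j ((D.obj j).hom ((D.φ x₀ x₁ h v).1 p)) ∈ V
      rw [← Scheme.Hom.comp_apply (D.φ x₀ x₁ h v).1 (D.obj j).hom, (D.φ x₀ x₁ h v).2,
        ← Scheme.Hom.comp_apply, ← h, ← hx₀]
      simp only [Scheme.Hom.comp_apply]
      exact (v₀ p).2
    let v₁ := IsOpenImmersion.lift (W j).ι (D.φ x₀ x₁ h v).1 hr
    have hv₁ : v₁ ≫ (W j).ι = (D.φ x₀ x₁ h v).1 := IsOpenImmersion.lift_fac _ _ _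
    have hx₁ : v₁ ≫ (W j).ι ≫ (D.obj j).hom = x₁ := by
      rw [← Category.assoc, hv₁, (D.φ x₀ x₁ h v).2]
    refine ⟨v₁, hv₁, R.hom_ext _ _ ?_ fun T' k a y e e' => ?_⟩
    · rw [← cancel_mono V.ι, Category.assoc, Category.assoc, Category.assoc, Category.assoc,
        reassoc_of% (hqπ j), reassoc_of% (hqπ i), hz, hz, ← Category.assoc v₁, hx₁, ← Category.assoc v₀,
        hx₀, h]
    have e₁ : ((a ≫ v₁) ≫ (W j).ι ≫ (D.obj j).hom) ≫ f j = y ≫ f k := by
      rw [← e, Category.assoc a v₁, hx₁, Category.assoc, Category.assoc, Category.assoc,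
        reassoc_of% (hqπ j), hz, ← Category.assoc v₁, hx₁]
    have e₂ : ((a ≫ v₀) ≫ (W i).ι ≫ (D.obj i).hom) ≫ f i = y ≫ f k := by
      rw [← e', Category.assoc a v₀, hx₀, Category.assoc, Category.assoc, Category.assoc,
        reassoc_of% (hqπ i), hz, ← Category.assoc v₀, hx₀]
    refine (R.univ.eval_congr (Category.assoc _ _ _).symm rfl e (by rw [← e]; simp)).trans ?_
    refine (hval j k (a ≫ v₁) y _ e₁).trans ?_
    refine Eq.trans ?_ (R.univ.eval_congr (Category.assoc _ _ _).symm rfl e'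
      (by rw [← e']; simp)).symm
    refine Eq.trans ?_ (hval i k (a ≫ v₀) y _ e₂).symm
    have hay : (a ≫ x₀) ≫ f i = y ≫ f k := by
      rw [← e₂, Category.assoc a v₀, hx₀]
    have hay' : (a ≫ x₁) ≫ f j = y ≫ f k := by rw [← hay, Category.assoc, Category.assoc, h]
    have hh : ∀ (l : ι) (z : T' ⟶ X l) (z₀ : T' ⟶ X l) (e₃ : z ≫ f l = y ≫ f k)
        (e₄ : z₀ ≫ f l = y ≫ f k) (w : Desc.Lifts (D.obj l) z) (w₀ : Desc.Lifts (D.obj l) z₀),
        z = z₀ → w.1 = w₀.1 → (D.φ z y e₃ w).1 = (D.φ z₀ y e₄ w₀).1 := by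
      rintro l z z₀ e₃ e₄ w w₀ rfl hw
      rw [Subtype.ext hw]
    refine (hh j _ (a ≫ x₁) _ hay' _ (D.φ (a ≫ x₀) (a ≫ x₁) (hay.trans hay'.symm)
      ⟨a ≫ v.1, by rw [Category.assoc, v.2]⟩) (by rw [Category.assoc, hx₁]) ?_).trans ?_
    · show (a ≫ v₁) ≫ (W j).ι = _
      rw [Category.assoc, hv₁]
      exact (D.φ_natural a x₀ x₁ h _ _ rfl rfl _ v _ rfl).symm
    rw [D.φ_comp]
    exact hh i _ _ _ _ _ _ (by rw [Category.assoc, hx₀]) (by
      exact ((Category.assoc _ _ _).trans (congrArg (a ≫ ·) hv)).symm)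

/-- A datum with a representation over the members of an open cover of the base is effective. -/
theorem isEffective_of_rep_cover (hf : Presieve.ofArrows X f ∈ Scheme.fpqcPrecoverage S)
    {κ : Type u} (V : κ → S.Opens) (hV : ∀ s : S, ∃ k, s ∈ V k) (R : ∀ k, Rep D (V k).ι) :
    D.IsEffective := by
  choose C hC using fun k => (R k).exists_chart
  refine isEffective_of_charts D hf C fun i v => ?_
  obtain ⟨k, hk⟩ := hV (f i ((D.obj i).hom v))
  exact ⟨k, (hC k i).symm ▸ hk⟩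

end Groth.Agent.SchDesc12
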