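import Groth.Agent.Lib.SchDesc12.IndQuasiAffine
import Mathlib.AlgebraicGeometry.Morphisms.QuasiFinite
import Mathlib.AlgebraicGeometry.AlgClosed.Basic
import Mathlib.FieldTheory.IsAlgClosed.AlgebraicClosure

/-!
# Descent data with orbits in affine opens

Along a flat universally closed quasi-compact surjection, descent data all of whose orbits lie in
affine opens are effective; orbits along finite maps are finite.
-/

universe u

open CategoryTheory CategoryTheory.Limits AlgebraicGeometry Opposite TopologicalSpace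

set_option backward.isDefEq.respectTransparency.types false

namespace Groth.Agent.SchDesc12

variable {X S : Scheme.{u}} {p : X ⟶ S} (D : Desc.SchDDFam (fun _ : PUnit.{u + 1} => p))

/-- Points of one orbit have the same image in the base. -/
theorem Rel.map_eq {v v' : (D.obj ⟨⟩).left} (h : Rel D v v') :
    p ((D.obj ⟨⟩).hom v') = p ((D.obj ⟨⟩).hom v) := by
  obtain ⟨w, rfl, rfl⟩ := h
  simp only [← Scheme.Hom.comp_apply]
  rw [transMap_hom D, Category.assoc]
  rw [← pullback.condition]

/-- An open subscheme of an affine open maps ind-quasi-affinely. -/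
theorem isIndQuasiAffineHom_of_le {V Y : Scheme.{u}} {W U : V.Opens} (hU : IsAffineOpen U)
    (h : W ≤ U) {Z : Scheme.{u}} (e : Z ≅ W.toScheme) (q : Z ⟶ Y) :
    MoreMor.IsIndQuasiAffineHom q := by
  refine IndQA12.of_cover q fun y => ⟨⊤, trivial, fun K _ hK => ?_⟩
  have : CompactSpace K.toScheme := isCompact_iff_compactSpace.mp hK
  have : IsAffine U.toScheme := hU
  exact Scheme.IsQuasiAffine.of_isImmersion (K.ι ≫ e.hom ≫ V.homOfLE h)

/-- Descent data whose orbits lie in affine opens are effective along universally closed flat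
quasi-compact surjections. -/
theorem isEffective_of_orbit_affine [Flat p] [Surjective p] [QuasiCompact p] [UniversallyClosed p]
    (h : ∀ v, ∃ U : (D.obj ⟨⟩).left.Opens, IsAffineOpen U ∧ ∀ v', Rel D v v' → v' ∈ U) :
    D.IsEffective := by
  obtain ⟨σ, hσ, -⟩ := exists_swap D
  have ha : UniversallyClosed (pullback.fst ((D.obj ⟨⟩).hom ≫ p) p) :=
    MorphismProperty.pullback_fst _ _ ‹_›
  have : UniversallyClosed (transMap D) := by
    rw [← hσ]
    exact MorphismProperty.comp_mem _ _ _ inferInstance ha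
  have key : ∀ v : (D.obj ⟨⟩).left, ∃ C : Chart D, v ∈ C.W ⟨⟩ := by
    intro v
    obtain ⟨U, hU, hvU⟩ := h v
    let W : (D.obj ⟨⟩).left.Opens := ⟨(sat D (U : Set (D.obj ⟨⟩).left)ᶜ)ᶜ,
      (((transMap D).isClosedMap _ (U.2.isClosed_compl.preimage
        (pullback.fst ((D.obj ⟨⟩).hom ≫ p) p).continuous)).isOpen_compl)⟩
    have hvW : v ∈ W := fun hv => by
      obtain ⟨v', hv', hr⟩ := (mem_sat D).1 hv
      exact hv' (hvU v' (Rel.symm D hr))
    have hWU : W ≤ U := fun x hx => by
      by_contra hxU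
      exact hx (subset_sat D _ hxU)
    have hWs : ∀ x x', Rel D x x' → x ∈ W → x' ∈ W := fun x x' hr hx hx' => by
      obtain ⟨z, hz, hzr⟩ := (mem_sat D).1 hx'
      exact hx ((mem_sat D).2 ⟨z, hz, Rel.trans D hzr (Rel.symm D hr)⟩)
    obtain ⟨D', j, hj⟩ := exists_openSub D (fun _ => W) (isStable_of_rel D W hWs)
    obtain ⟨e, he₁, -⟩ := hj ⟨⟩
    have hjo : ∀ i, IsOpenImmersion (j.hom i).left := fun _ => by
      rw [← he₁]; infer_instance
    obtain ⟨C, hC⟩ := exists_chart_of_hom D' j hjo
      (isEffective_of_isIndQuasiAffineHom (single_mem_fpqc p)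
        fun _ => isIndQuasiAffineHom_of_le hU hWU e _)
    refine ⟨C, ?_⟩
    rw [hC]
    refine ⟨e.inv ⟨v, hvW⟩, ?_⟩
    rw [← he₁, ← Scheme.Hom.comp_apply, Iso.inv_hom_id_assoc]
    rfl
  choose C hC using key
  exact isEffective_of_charts D (single_mem_fpqc p) C fun _ v => ⟨v, hC v⟩

/-- The orbit of a point. -/
def orbit (v : (D.obj ⟨⟩).left) : Set (D.obj ⟨⟩).left := {v' | Rel D v v'}

theorem orbit_eq (v : (D.obj ⟨⟩).left) :
    orbit D v = transMap D '' (pullback.fst ((D.obj ⟨⟩).hom ≫ p) p ⁻¹' {v}) :=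
  Set.ext fun _ => Iff.rfl

/-- Orbits along finite maps are finite. -/
theorem finite_orbit [IsFinite p] (v : (D.obj ⟨⟩).left) : (orbit D v).Finite := by
  have : IsFinite (pullback.fst ((D.obj ⟨⟩).hom ≫ p) p) := MorphismProperty.pullback_fst _ _ ‹_›
  rw [orbit_eq]
  exact ((pullback.fst ((D.obj ⟨⟩).hom ≫ p) p).finite_preimage_singleton v).image _

/-- A bound on geometric fibres bounds the orbits. -/
theorem encard_orbit_le [IsFinite p] (d : ℕ)
    (hfib : ∀ (k : Type u) [Field k] [IsAlgClosed k] (y : Spec (CommRingCat.of k) ⟶ S),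
      Set.encard {x : Spec (CommRingCat.of k) ⟶ X | x ≫ p = y} ≤ d) (v : (D.obj ⟨⟩).left) :
    (orbit D v).encard ≤ d := by
  classical
  let k := AlgebraicClosure ((D.obj ⟨⟩).left.residueField v)
  let g : Spec (CommRingCat.of k) ⟶ (D.obj ⟨⟩).left :=
    Spec.map (CommRingCat.ofHom (algebraMap ((D.obj ⟨⟩).left.residueField v) k)) ≫
      (D.obj ⟨⟩).left.fromSpecResidueField v
  have hg : ∀ a, g a = v := fun a => by
    have : g a ∈ Set.range ((D.obj ⟨⟩).left.fromSpecResidueField v) := ⟨_, rfl⟩
    rwa [Scheme.range_fromSpecResidueField] at this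
  let y := g ≫ (D.obj ⟨⟩).hom ≫ p
  let π := pullback.fst y p
  have : IsFinite π := MorphismProperty.pullback_fst _ _ ‹_›
  obtain ⟨r, hr₀, hr₁⟩ : ∃ r : pullback y p ⟶ pullback ((D.obj ⟨⟩).hom ≫ p) p,
      r ≫ pullback.fst _ _ = π ≫ g ∧ r ≫ pullback.snd _ _ = pullback.snd y p :=
    ⟨pullback.lift (π ≫ g) (pullback.snd y p) (by
        rw [Category.assoc]; exact pullback.condition),
      pullback.lift_fst _ _ _, pullback.lift_snd _ _ _⟩
  have hsub : orbit D v ⊆ (fun x : Spec (CommRingCat.of k) ⟶ X =>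
      if h : x ≫ p = y then
        transMap D (r (pullback.lift (𝟙 _) x (by rw [Category.id_comp, h]) default))
      else v) '' {x | x ≫ p = y} := by
    rintro v' ⟨w, hw, rfl⟩
    obtain ⟨z, -, hz⟩ := Scheme.Pullback.exists_preimage_pullback
      (f := g) (g := pullback.fst ((D.obj ⟨⟩).hom ≫ p) p) default w ((hg _).trans hw.symm)
    obtain ⟨l, hl₀, hl₁⟩ : ∃ l : pullback g (pullback.fst ((D.obj ⟨⟩).hom ≫ p) p) ⟶ pullback y p,
        l ≫ π = pullback.fst _ _ ∧ l ≫ pullback.snd y p = pullback.snd _ _ ≫ pullback.snd _ _ :=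
      ⟨pullback.lift (pullback.fst _ _) (pullback.snd _ _ ≫ pullback.snd _ _) (by
          rw [show y = g ≫ (D.obj ⟨⟩).hom ≫ p from rfl, pullback.condition_assoc,
            pullback.condition, Category.assoc]),
        pullback.lift_fst _ _ _, pullback.lift_snd _ _ _⟩
    have hlr : l ≫ r = pullback.snd _ _ := pullback.hom_ext
      (by rw [Category.assoc, hr₀, reassoc_of% hl₀, pullback.condition])
      (by rw [Category.assoc, hr₁, hl₁])
    have hrz : r (l z) = w := by rw [← Scheme.Hom.comp_apply, hlr, hz]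
    have hc : IsClosed {l z} := by
      have : DiscreteTopology ↥(pullback y p) := by
        have h := π.isDiscrete_preimage_singleton default
        rw [show π ⁻¹' {default} = Set.univ from Set.eq_univ_of_forall fun _ =>
          Subsingleton.elim _ _] at h
        exact isDiscrete_univ_iff.mp h
      exact isClosed_discrete _
    let s := pointOfClosedPoint π (l z) hc
    have hs : s ≫ π = 𝟙 _ := pointOfClosedPoint_comp π (l z) hc
    have hx : (s ≫ pullback.snd y p) ≫ p = y := by
      rw [Category.assoc, ← pullback.condition, reassoc_of% hs]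
    refine ⟨s ≫ pullback.snd y p, hx, ?_⟩
    have hlift : pullback.lift (f := y) (g := p) (𝟙 _) (s ≫ pullback.snd y p)
        (by rw [Category.id_comp, hx]) = s :=
      pullback.hom_ext (by rw [pullback.lift_fst, hs]) (by rw [pullback.lift_snd])
    show dite _ _ _ = _
    rw [dif_pos hx, hlift, pointOfClosedPoint_apply, hrz]
  exact (Set.encard_le_encard hsub).trans ((Set.encard_image_le _ _).trans (hfib k y))

end Groth.Agent.SchDesc12
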