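import Groth.Agent.Lib.SchDesc12.Glue
import Mathlib.AlgebraicGeometry.Limits
import Mathlib.AlgebraicGeometry.Morphisms.Descent

/-!
# Descending representations along fpqc coverings of the base
-/

universe u

open CategoryTheory CategoryTheory.Limits AlgebraicGeometry Opposite TopologicalSpace

set_option backward.isDefEq.respectTransparency.types false

namespace Groth.Agent.SchDesc12

variable {S : Scheme.{u}} {ι : Type u} {X : ι → Scheme.{u}} {f : ∀ i, X i ⟶ S}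
  {D : Desc.SchDDFam f}

/-- An effective open subdatum gives a chart. -/
theorem exists_chart_of_hom (D' : Desc.SchDDFam f) (j : D' ⟶ D)
    (hj : ∀ i, IsOpenImmersion (j.hom i).left) (h : D'.IsEffective) :
    ∃ C : Chart D, ∀ i, C.W i = (j.hom i).left.opensRange := by
  obtain ⟨U, ⟨e⟩⟩ := h
  let isoW : ∀ i, (D'.obj i).left ≅ ((j.hom i).left.opensRange).toScheme := fun i =>
    Scheme.Hom.isoOpensRange (j.hom i).left
  have hι : ∀ i, (isoW i).hom ≫ ((j.hom i).left.opensRange).ι = (j.hom i).left := fun i =>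
    Scheme.Hom.isoOpensRange_hom_ι _
  have hιi : ∀ i, (isoW i).inv ≫ (j.hom i).left = ((j.hom i).left.opensRange).ι := fun i => by
    rw [Iso.inv_comp_eq, hι]
  let E : ∀ i, (D'.obj i).left ≅ pullback (f i) U.hom := fun i =>
    { hom := (e.inv.hom i).left
      inv := (e.hom.hom i).left
      hom_inv_id := congrArg (fun b : D' ⟶ D' => (b.hom i).left) e.inv_hom_id
      inv_hom_id := congrArg (fun b : (Desc.toDDFam f).obj U ⟶ (Desc.toDDFam f).obj U =>
        (b.hom i).left) e.hom_inv_id }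
  have hE : ∀ i, (E i).hom ≫ pullback.fst (f i) U.hom = (D'.obj i).hom := fun i => Over.w (e.inv.hom i)
  have hD' : ∀ i, (isoW i).inv ≫ (D'.obj i).hom = ((j.hom i).left.opensRange).ι ≫ (D.obj i).hom :=
    fun i => by rw [← Over.w (j.hom i), ← Category.assoc, hιi]
  refine ⟨{ W := fun i => (j.hom i).left.opensRange, U := U.left, π := U.hom,
            q := fun i => (isoW i).inv ≫ (E i).hom ≫ pullback.snd (f i) U.hom,
            sq := fun i => ?_, stable := ?_ }, fun i => rfl⟩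
  · refine IsPullback.of_iso (IsPullback.of_hasPullback (f i) U.hom).flip ((E i).symm ≪≫ isoW i)
      (Iso.refl _) (Iso.refl _) (Iso.refl _) ?_ ?_ (by simp) (by simp)
    · simp
    · simp only [Iso.refl_hom, Category.comp_id, Iso.trans_hom, Iso.symm_hom, Category.assoc]
      rw [← hD', Iso.hom_inv_id_assoc, Iso.eq_inv_comp]
      exact hE i
  · intro T i k x₀ x₁ hx v v₀ hv
    let w : Desc.Lifts (D'.obj i) x₀ := ⟨v₀ ≫ (isoW i).inv, by
      rw [Category.assoc, hD', ← Category.assoc, hv, v.2]⟩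
    have hw : v.1 = w.1 ≫ (j.hom i).left := by
      show _ = (v₀ ≫ (isoW i).inv) ≫ _
      rw [Category.assoc, hιi, hv]
    refine ⟨(D'.φ x₀ x₁ hx w).1 ≫ (isoW k).hom, ?_, ?_⟩
    · rw [Category.assoc, hι, j.comm x₀ x₁ hx w v hw]
    · have h1 := e.inv.comm x₀ x₁ hx w (e.inv.push w) rfl
      have h2 := congrArg (fun m => m ≫ pullback.snd (f k) U.hom) h1
      have h3 : (((Desc.canonicalDDFam f U).φ x₀ x₁ hx (e.inv.push w)).1 ≫ pullback.snd (f k) U.hom) =
          (e.inv.push w).1 ≫ pullback.snd (f i) U.hom := pullback.lift_snd _ _ _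
      rw [Category.assoc, Iso.hom_inv_id_assoc]
      refine ((Category.assoc _ _ _).symm.trans (h2.symm.trans h3)).trans ?_
      show ((v₀ ≫ (isoW i).inv) ≫ (E i).hom) ≫ _ = _
      simp only [Category.assoc]

/-- A chart everywhere gives a representation over the base. -/
noncomputable def Chart.toRep (C : Chart D) (hC : ∀ i, C.W i = ⊤)
    (hf : Presieve.ofArrows X f ∈ Scheme.fpqcPrecoverage S) : Rep D (𝟙 S) where
  U := C.U
  π := C.π
  univ := (C.sec (𝟙 C.U)).pull (𝟙 _) (by simp)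
  exists_lift T z σ := by
    obtain ⟨b, hb, -⟩ := C.existsUnique_of_mem hf (⟨z ≫ 𝟙 S, σ⟩ : Pt D T) fun i w => by
      rw [hC]; trivial
    refine ⟨b, (congrArg Sigma.fst hb).trans (Category.comp_id z), fun T' i a x e e' => ?_⟩
    refine (congrArg Subtype.val (Sec.eval_pull _ _ _ _ _ _)).trans ?_
    refine Eq.trans ?_ (Pt.eval_congr hb a x (e.symm ▸ by
      show a ≫ b ≫ C.π = _
      rw [show b ≫ C.π = z ≫ 𝟙 S from congrArg Sigma.fst hb]))
    refine (C.eval_sec _ _ _ _).trans (Eq.trans ?_ (C.eval_sec _ _ _ _).symm)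
    congr 1
  hom_ext T b b' h₁ h₂ := by
    obtain ⟨c, -, hc⟩ := C.existsUnique_of_mem hf (⟨b ≫ C.π, C.sec b⟩ : Pt D T) fun i w => by
      rw [hC]; trivial
    refine (hc b rfl).trans (hc b' (Pt.ext' h₁.symm fun T' i a x e => ?_)).symm
    have e₁ : (a ≫ b') ≫ C.π ≫ 𝟙 S = x ≫ f i := by
      rw [Category.comp_id, Category.assoc]; exact e
    have e₀ : (a ≫ b) ≫ C.π ≫ 𝟙 S = x ≫ f i := by
      rw [Category.comp_id, Category.assoc, h₁, ← Category.assoc]; simpa using e₁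
    have h := h₂ i a x e₀ e₁
    have hh : ∀ (c : T ⟶ C.U) (e₂ : a ≫ c ≫ C.π = x ≫ f i) (e₃ : (a ≫ c) ≫ C.π ≫ 𝟙 S = x ≫ f i),
        (((C.sec (𝟙 C.U)).pull (𝟙 _) (t' := C.π ≫ 𝟙 S) (by simp)).eval (a ≫ c) x e₃).1 =
          ((C.sec c).eval a x e₂).1 := fun c e₂ e₃ => by
      refine (congrArg Subtype.val (Sec.eval_pull _ _ _ _ _ _)).trans ?_
      refine (C.eval_sec _ _ _ _).trans (Eq.trans ?_ (C.eval_sec _ _ _ _).symm)
      congr 1
    exact ((hh b _ e₀).symm.trans (h.trans (hh b' e e₁))).symm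

/-- Effective descent data over coverings are representable. -/
theorem nonempty_rep_of_isEffective (hf : Presieve.ofArrows X f ∈ Scheme.fpqcPrecoverage S)
    (h : D.IsEffective) : Nonempty (Rep D (𝟙 S)) := by
  have hj : ∀ i, IsOpenImmersion ((𝟙 D : D ⟶ D).hom i).left := fun i =>
    inferInstanceAs (IsOpenImmersion (𝟙 (D.obj i).left))
  obtain ⟨C, hC⟩ := exists_chart_of_hom D (𝟙 D) hj h
  exact ⟨C.toRep (fun i => (hC i).trans (Scheme.Hom.opensRange_of_isIso (𝟙 (D.obj i).left))) hf⟩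

section descend

variable {Z Y : Scheme.{u}} {g : Z ⟶ S} (π : Y ⟶ Z) (R : Rep D (π ≫ g))

theorem exists_translate ⦃T : Scheme.{u}⦄ (y₀ y₁ : T ⟶ Y) (h : y₀ ≫ π = y₁ ≫ π)
    (v : Desc.Lifts (Over.mk R.π) y₀) :
    ∃ v' : Desc.Lifts (Over.mk R.π) y₁, ∀ ⦃T' : Scheme.{u}⦄ (i : ι) (a : T' ⟶ T) (x : T' ⟶ X i)
      (e : (a ≫ v.1) ≫ R.π ≫ π ≫ g = x ≫ f i) (e' : (a ≫ v'.1) ≫ R.π ≫ π ≫ g = x ≫ f i),
      (R.univ.eval (a ≫ v'.1) x e').1 = (R.univ.eval (a ≫ v.1) x e).1 := by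
  obtain ⟨b, hb, hb'⟩ := R.exists_lift y₁ (R.univ.pull v.1 (t' := y₁ ≫ π ≫ g) (by
    rw [← Category.assoc v.1, show v.1 ≫ R.π = y₀ from v.2, reassoc_of% h]))
  refine ⟨⟨b, hb⟩, fun T' i a x e e' => (hb' i a x ?_ e').trans ?_⟩
  · rw [← e', Category.assoc a b, reassoc_of% hb]
  · exact (congrArg Subtype.val (Sec.eval_pull _ _ _ _ _ _)).trans rfl

/-- The translation of points of the representation. -/
noncomputable def translate ⦃T : Scheme.{u}⦄ (y₀ y₁ : T ⟶ Y) (h : y₀ ≫ π = y₁ ≫ π)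
    (v : Desc.Lifts (Over.mk R.π) y₀) : Desc.Lifts (Over.mk R.π) y₁ :=
  (exists_translate π R y₀ y₁ h v).choose

theorem translate_spec ⦃T : Scheme.{u}⦄ (y₀ y₁ : T ⟶ Y) (h : y₀ ≫ π = y₁ ≫ π)
    (v : Desc.Lifts (Over.mk R.π) y₀) ⦃T' : Scheme.{u}⦄ (i : ι) (a : T' ⟶ T) (x : T' ⟶ X i)
    (e : (a ≫ v.1) ≫ R.π ≫ π ≫ g = x ≫ f i)
    (e' : (a ≫ (translate π R y₀ y₁ h v).1) ≫ R.π ≫ π ≫ g = x ≫ f i) :
    (R.univ.eval (a ≫ (translate π R y₀ y₁ h v).1) x e').1 = (R.univ.eval (a ≫ v.1) x e).1 :=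
  (exists_translate π R y₀ y₁ h v).choose_spec i a x e e'

theorem cond {T' T : Scheme.{u}} {y₀ y₁ : T ⟶ Y} (h : y₀ ≫ π = y₁ ≫ π)
    (v : Desc.Lifts (Over.mk R.π) y₀) (v' : Desc.Lifts (Over.mk R.π) y₁) (a : T' ⟶ T) :
    (a ≫ v.1) ≫ R.π ≫ π ≫ g = (a ≫ v'.1) ≫ R.π ≫ π ≫ g := by
  simp only [Category.assoc]
  rw [← Category.assoc v.1, show v.1 ≫ R.π = y₀ from v.2, ← Category.assoc v'.1,
    show v'.1 ≫ R.π = y₁ from v'.2, reassoc_of% h]

theorem translate_unique ⦃T : Scheme.{u}⦄ {y₀ y₁ : T ⟶ Y} (h : y₀ ≫ π = y₁ ≫ π)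
    (v : Desc.Lifts (Over.mk R.π) y₀) (v' : Desc.Lifts (Over.mk R.π) y₁)
    (hv : ∀ ⦃T' : Scheme.{u}⦄ (i : ι) (a : T' ⟶ T) (x : T' ⟶ X i)
      (e : (a ≫ v.1) ≫ R.π ≫ π ≫ g = x ≫ f i) (e' : (a ≫ v'.1) ≫ R.π ≫ π ≫ g = x ≫ f i),
      (R.univ.eval (a ≫ v'.1) x e').1 = (R.univ.eval (a ≫ v.1) x e).1) :
    translate π R y₀ y₁ h v = v' :=
  Subtype.ext (R.hom_ext _ _ ((translate π R y₀ y₁ h v).2.trans v'.2.symm) fun T' i a x e e' =>
    (translate_spec π R y₀ y₁ h v i a x ((cond π R h v v' a).trans e') e).trans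
      (hv i a x ((cond π R h v v' a).trans e') e').symm)

theorem translate_natural {T T' : Scheme.{u}} (c : T' ⟶ T) (y₀ y₁ : T ⟶ Y)
    (h : y₀ ≫ π = y₁ ≫ π) (z₀ z₁ : T' ⟶ Y) (hz₁ : c ≫ y₁ = z₁) (h' : z₀ ≫ π = z₁ ≫ π)
    (v : Desc.Lifts (Over.mk R.π) y₀) (v' : Desc.Lifts (Over.mk R.π) z₀) (hv : v'.1 = c ≫ v.1) :
    (translate π R z₀ z₁ h' v').1 = c ≫ (translate π R y₀ y₁ h v).1 := by
  subst hz₁
  refine congrArg Subtype.val (translate_unique π R h' v'
    ⟨c ≫ (translate π R y₀ y₁ h v).1, by rw [Category.assoc, (translate π R y₀ y₁ h v).2]⟩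
    fun T'' i a x e e' => ?_)
  have e₁ : ((a ≫ c) ≫ v.1) ≫ R.π ≫ π ≫ g = x ≫ f i := by
    rw [← e, hv]; simp only [Category.assoc]
  have e₂ : ((a ≫ c) ≫ (translate π R y₀ y₁ h v).1) ≫ R.π ≫ π ≫ g = x ≫ f i := by
    rw [← e']; simp only [Category.assoc]
  refine (R.univ.eval_congr (Category.assoc _ _ _).symm rfl e' e₂).trans ?_
  refine (translate_spec π R y₀ y₁ h v i (a ≫ c) x e₁ e₂).trans ?_
  exact R.univ.eval_congr (by rw [hv, Category.assoc]) rfl e₁ e

/-- The descent datum along `π` carried by a representation over `π ≫ g`. -/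
noncomputable def repDatum : Desc.SchDDFam (fun _ : PUnit.{u + 1} => π) where
  obj _ := Over.mk R.π
  φ T _ _ y₀ y₁ h :=
    { toFun := translate π R y₀ y₁ h
      invFun := translate π R y₁ y₀ h.symm
      left_inv := fun v => translate_unique π R h.symm _ v fun T' i a x e e' =>
        (translate_spec π R y₀ y₁ h v i a x e' e).symm
      right_inv := fun v => translate_unique π R h _ v fun T' i a x e e' =>
        (translate_spec π R y₁ y₀ h.symm v i a x e' e).symm }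
  φ_natural T T' c _ _ y₀ y₁ h z₀ z₁ _ hz₁ h' v v' hv :=
    translate_natural π R c y₀ y₁ h z₀ z₁ hz₁ h' v v' hv
  φ_self T _ y v := translate_unique π R rfl v v fun _ _ _ _ _ _ => rfl
  φ_comp T _ _ _ y₀ y₁ y₂ h₀₁ h₁₂ v := translate_unique π R h₁₂ (translate π R y₀ y₁ h₀₁ v)
    (translate π R y₀ y₂ (h₀₁.trans h₁₂) v) fun T' i a x e e' => by
      have e₀ : (a ≫ v.1) ≫ R.π ≫ π ≫ g = x ≫ f i := (cond π R h₀₁ v _ a).trans e
      rw [translate_spec π R y₀ y₁ h₀₁ v i a x e₀ e,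
        translate_spec π R y₀ y₂ (h₀₁.trans h₁₂) v i a x e₀ e']

/-- Descent of a representation along a covering of the base. -/
theorem nonempty_rep_descend (hπ : Presieve.ofArrows (fun _ : PUnit.{u + 1} => Y) (fun _ => π) ∈
      Scheme.fpqcPrecoverage Z)
    (hE : (repDatum π R).IsEffective) : Nonempty (Rep D g) := by
  have hj : ∀ i, IsOpenImmersion ((𝟙 (repDatum π R) : repDatum π R ⟶ _).hom i).left := fun i =>
    inferInstanceAs (IsOpenImmersion (𝟙 R.U))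
  obtain ⟨C, hC⟩ := exists_chart_of_hom _ (𝟙 (repDatum π R)) hj hE
  let W : R.U.Opens := C.W ⟨⟩
  have htop : W = ⊤ := (hC ⟨⟩).trans (Scheme.Hom.opensRange_of_isIso (𝟙 R.U))
  let k : R.U ⟶ W.toScheme := IsOpenImmersion.lift W.ι (𝟙 R.U) (by
    rw [Scheme.Opens.range_ι, htop]; exact Set.subset_univ _)
  have hk : k ≫ W.ι = 𝟙 R.U := IsOpenImmersion.lift_fac _ _ _
  have hk' : W.ι ≫ k = 𝟙 _ := by
    rw [← cancel_mono W.ι, Category.assoc, hk, Category.id_comp, Category.comp_id]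
  let isoW : W.toScheme ≅ R.U := ⟨W.ι, k, hk', hk⟩
  let q₀ : W.toScheme ⟶ C.U := C.q ⟨⟩
  let q : R.U ⟶ C.U := k ≫ q₀
  have sq₀ : IsPullback q₀ (W.ι ≫ R.π) C.π π := C.sq ⟨⟩
  have sq : IsPullback q R.π C.π π :=
    IsPullback.of_iso sq₀ isoW (Iso.refl _) (Iso.refl _) (Iso.refl _)
      (by simp only [Iso.refl_hom, Category.comp_id, q, isoW]; rw [← Category.assoc, hk', Category.id_comp])
      (by simp only [Iso.refl_hom, Category.comp_id, isoW]) (by simp) (by simp)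
  -- translations preserve the projection
  have hq : ∀ {T : Scheme.{u}} (y₀ y₁ : T ⟶ Y) (h : y₀ ≫ π = y₁ ≫ π)
      (v : Desc.Lifts (Over.mk R.π) y₀), (translate π R y₀ y₁ h v).1 ≫ q = v.1 ≫ q := by
    intro T y₀ y₁ h v
    let v₀ : T ⟶ W.toScheme := (show T ⟶ R.U from v.1) ≫ k
    have hv₀ : v₀ ≫ W.ι = (show T ⟶ R.U from v.1) := by
      simp only [v₀, Category.assoc, hk, Category.comp_id]
    obtain ⟨v₁, h₁, h₂⟩ := C.stable (i := ⟨⟩) (j := ⟨⟩) y₀ y₁ h v v₀ hv₀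
    have h₁' : (show T ⟶ W.toScheme from v₁) ≫ W.ι =
        (show T ⟶ R.U from (translate π R y₀ y₁ h v).1) := h₁
    have h₂' : (show T ⟶ W.toScheme from v₁) ≫ q₀ = v₀ ≫ q₀ := h₂
    show (show T ⟶ R.U from (translate π R y₀ y₁ h v).1) ≫ q = (show T ⟶ R.U from v.1) ≫ k ≫ q₀
    rw [← h₁', Category.assoc]
    simp only [q]
    rw [reassoc_of% hk', h₂', Category.assoc]
  have hcov : Presieve.ofArrows (fun _ : PUnit.{u + 1} => R.U) (fun _ => q) ∈
      Scheme.fpqcPrecoverage C.U :=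
    Precoverage.mem_coverings_of_isPullback (fun _ : PUnit.{u + 1} => π) hπ C.π _ (fun _ => R.π)
      fun _ => sq
  obtain ⟨τ, hτ⟩ := Sec.exists_glue (D := D) (t := C.π ≫ g) (fun _ : PUnit.{u + 1} => q) hcov
    (s := fun _ => R.π ≫ π ≫ g) (fun _ => by rw [← Category.assoc, sq.w, Category.assoc])
    (fun _ => R.univ) fun _ _ T a b hab i x e e' => by
      have hy : (a ≫ R.π) ≫ π = (b ≫ R.π) ≫ π := by
        rw [Category.assoc, ← sq.w, reassoc_of% hab, sq.w, Category.assoc]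
      have hb : translate π R (a ≫ R.π) (b ≫ R.π) hy ⟨a, rfl⟩ = ⟨b, rfl⟩ := Subtype.ext (sq.hom_ext
        (by rw [hq, hab]) ((translate π R _ _ hy ⟨a, rfl⟩).2))
      have h1 := translate_spec π R (a ≫ R.π) (b ≫ R.π) hy ⟨a, rfl⟩ i (𝟙 T) x
        (by rw [Category.id_comp]; exact e) (by rw [hb, Category.id_comp]; exact e')
      refine ((R.univ.eval_congr (Category.id_comp a) rfl _ e).symm.trans h1.symm).trans ?_
      exact R.univ.eval_congr (by rw [hb, Category.id_comp]) rfl _ e'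
  refine ⟨{ U := C.U, π := C.π, univ := τ, exists_lift := fun T z σ => ?_,
            hom_ext := fun T b b' h₁ h₂ => ?_ }⟩
  · have hT := pullback_fst_mem_fpqc _ hπ z
    obtain ⟨w, hw, hw'⟩ := R.exists_lift (pullback.snd z π) (σ.pull (pullback.fst z π)
      (t' := pullback.snd z π ≫ π ≫ g) (by rw [pullback.condition_assoc]))
    have e_w : ∀ {T' : Scheme.{u}} (i : ι) (a : T' ⟶ pullback z π) (x : T' ⟶ X i)
        (e : (a ≫ w) ≫ R.π ≫ π ≫ g = x ≫ f i) (e' : (a ≫ pullback.fst z π) ≫ z ≫ g = x ≫ f i),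
        (R.univ.eval (a ≫ w) x e).1 = (σ.eval (a ≫ pullback.fst z π) x e').1 := fun i a x e e' =>
      (hw' i a x (by rw [← e', Category.assoc, pullback.condition_assoc]) e).trans
        (congrArg Subtype.val (Sec.eval_pull _ _ _ _ _ _))
    obtain ⟨b, hb⟩ := exists_hom_fpqc _ hT (fun _ : PUnit.{u + 1} => w ≫ q) fun _ _ T' a a' haa => by
      let y₀ := a ≫ pullback.snd z π
      let y₁ := a' ≫ pullback.snd z π
      have hy : y₀ ≫ π = y₁ ≫ π := by
        simp only [y₀, y₁, Category.assoc, ← pullback.condition]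
        rw [← Category.assoc, haa, Category.assoc]
      let v : Desc.Lifts (Over.mk R.π) y₀ := ⟨a ≫ w, (Category.assoc _ _ _).trans (congrArg _ hw)⟩
      let v' : Desc.Lifts (Over.mk R.π) y₁ := ⟨a' ≫ w, (Category.assoc _ _ _).trans (congrArg _ hw)⟩
      have ht : translate π R y₀ y₁ hy v = v' := translate_unique π R hy v v' fun T'' i c x e e' => by
        have e₁ : ((c ≫ a) ≫ w) ≫ R.π ≫ π ≫ g = x ≫ f i := by
          rw [← e]; simp only [v, Category.assoc]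
        have e₁' : ((c ≫ a') ≫ w) ≫ R.π ≫ π ≫ g = x ≫ f i := by
          rw [← e']; simp only [v', Category.assoc]
        have e₂ : ((c ≫ a) ≫ pullback.fst z π) ≫ z ≫ g = x ≫ f i := by
          rw [← e₁]; simp only [Category.assoc, reassoc_of% hw, pullback.condition_assoc]
        have e₂' : ((c ≫ a') ≫ pullback.fst z π) ≫ z ≫ g = x ≫ f i := by
          rw [← e₁']; simp only [Category.assoc, reassoc_of% hw, pullback.condition_assoc]
        refine (R.univ.eval_congr (Category.assoc _ _ _).symm rfl e' e₁').trans ?_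
        refine (e_w i _ x e₁' e₂').trans ?_
        refine Eq.trans ?_ (R.univ.eval_congr (Category.assoc _ _ _) rfl e₁ e)
        refine Eq.trans ?_ (e_w i _ x e₁ e₂).symm
        refine σ.eval_congr ?_ rfl _ _
        rw [Category.assoc, Category.assoc]
        exact congrArg (c ≫ ·) haa.symm
      show a ≫ w ≫ q = a' ≫ w ≫ q
      rw [← Category.assoc, ← Category.assoc]
      exact ((congrArg (fun u : Desc.Lifts (Over.mk R.π) y₁ => u.1 ≫ q) ht).symm.trans
        (hq y₀ y₁ hy v)).symm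
    have hbz : b ≫ C.π = z := hom_ext_fpqc _ hT fun k => by
      rw [← Category.assoc, hb k, Category.assoc, sq.w, ← Category.assoc, hw]
      exact pullback.condition.symm
    refine ⟨b, hbz, fun T' i a x e e' => ?_⟩
    refine hom_ext_fpqc _ (pullback_fst_mem_fpqc _ hT a) fun k => ?_
    let c := pullback.fst a (pullback.fst z π)
    let d := pullback.snd a (pullback.fst z π)
    have hcd : c ≫ a = d ≫ pullback.fst z π := pullback.condition
    have hdw : (d ≫ w) ≫ q = c ≫ a ≫ b := by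
      rw [Category.assoc, ← hb k, ← Category.assoc c, hcd, Category.assoc]
    have e₁ : ((d ≫ w) ≫ q) ≫ C.π ≫ g = (c ≫ x) ≫ f i := by
      rw [hdw]
      simp only [Category.assoc] at e' ⊢
      rw [e']
    have e₂ : (d ≫ w) ≫ R.π ≫ π ≫ g = (c ≫ x) ≫ f i := by
      rw [← e₁, Category.assoc (d ≫ w) q, sq.w_assoc]
    have e₃ : (d ≫ pullback.fst z π) ≫ z ≫ g = (c ≫ x) ≫ f i := by
      rw [← hcd, Category.assoc, e, Category.assoc]
    show c ≫ _ = c ≫ _
    refine (τ.eval_natural c _ _ e' _ _ hdw.symm rfl e₁).symm.trans ?_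
    refine (hτ k i (d ≫ w) _ e₁ e₂).trans ?_
    refine (e_w i d _ e₂ e₃).trans ?_
    exact σ.eval_natural c a x e _ _ hcd rfl e₃
  · refine hom_ext_fpqc _ (pullback_fst_mem_fpqc _ hπ (b ≫ C.π)) fun k => ?_
    let p := pullback.fst (b ≫ C.π) π
    let y := pullback.snd (b ≫ C.π) π
    have hpy : (p ≫ b) ≫ C.π = y ≫ π := (Category.assoc _ _ _).trans pullback.condition
    have hpy' : (p ≫ b') ≫ C.π = y ≫ π := by rw [Category.assoc, ← h₁, ← Category.assoc, hpy]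
    have := R.hom_ext (sq.lift (p ≫ b) y hpy) (sq.lift (p ≫ b') y hpy')
      (by rw [sq.lift_snd, sq.lift_snd]) fun T' i a x e e' => by
      have key : ∀ (m : T ⟶ C.U) (hm : (p ≫ m) ≫ C.π = y ≫ π)
          (e₁ : (a ≫ sq.lift (p ≫ m) y hm) ≫ R.π ≫ π ≫ g = x ≫ f i),
          ∃ e₂ : ((a ≫ p) ≫ m) ≫ C.π ≫ g = x ≫ f i,
            (R.univ.eval (a ≫ sq.lift (p ≫ m) y hm) x e₁).1 = (τ.eval ((a ≫ p) ≫ m) x e₂).1 := by
        intro m hm e₁
        have hl : (a ≫ sq.lift (p ≫ m) y hm) ≫ q = (a ≫ p) ≫ m := by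
          rw [Category.assoc, sq.lift_fst, Category.assoc]
        have e₂ : ((a ≫ sq.lift (p ≫ m) y hm) ≫ q) ≫ C.π ≫ g = x ≫ f i := by
          rw [← e₁, Category.assoc _ q, sq.w_assoc]
        exact ⟨by rw [← hl]; exact e₂, (hτ k i _ x e₂ e₁).symm.trans (τ.eval_congr hl rfl _ _)⟩
      obtain ⟨e₂, h2⟩ := key b hpy e
      obtain ⟨e₂', h2'⟩ := key b' hpy' e'
      exact h2.trans ((h₂ i (a ≫ p) x e₂ e₂').trans h2'.symm)
    have h3 := congrArg (· ≫ q) this
    simp only [sq.lift_fst] at h3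
    exact h3

end descend

theorem sigma_eq_or_isEmpty {κ : Type u} {Y : κ → Scheme.{u}} {T : Scheme.{u}} {k l : κ}
    (a : T ⟶ Y k) (b : T ⟶ Y l) (h : a ≫ Sigma.ι Y k = b ≫ Sigma.ι Y l) :
    IsEmpty T ∨ ∃ e : k = l, a ≫ eqToHom (congrArg Y e) = b := by
  by_cases hkl : k = l
  · subst hkl
    exact Or.inr ⟨rfl, by rw [eqToHom_refl, Category.comp_id, ← cancel_mono (Sigma.ι Y k), h]⟩
  · exact Or.inl (isEmpty_of_commSq_sigmaι_of_ne ⟨h⟩ hkl)

theorem hom_eq_of_isEmpty {T W : Scheme.{u}} (h : IsEmpty T) (a b : T ⟶ W) : a = b :=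
  haveI := h
  isInitialOfIsEmpty.hom_ext a b

theorem sigma_mem_fpqc {κ : Type u} (Y : κ → Scheme.{u}) :
    Presieve.ofArrows Y (Sigma.ι Y) ∈ Scheme.fpqcPrecoverage (∐ Y) :=
  Scheme.zariskiPrecoverage_le_fpqcPrecoverage _ (sigmaOpenCover Y).mem₀

/-- The pullback of a coproduct of morphisms along a coprojection. -/
theorem isPullback_sigmaMap {κ : Type u} {U Y : κ → Scheme.{u}} (π : ∀ k, U k ⟶ Y k) (k : κ) :
    IsPullback (Sigma.ι U k) (π k) (Limits.Sigma.map π) (Sigma.ι Y k) := by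
  refine (IsOpenImmersion.isPullback (π k) (Sigma.ι U k) (Sigma.ι Y k) (Limits.Sigma.map π)
    (by simp) ?_).flip
  ext u
  constructor
  · rintro ⟨y, hy⟩
    obtain ⟨l, w, rfl⟩ := (sigmaOpenCover U).exists_eq u
    change Sigma.ι Y k y = Limits.Sigma.map π (Sigma.ι U l w) at hy
    rw [← Scheme.Hom.comp_apply, Limits.Sigma.ι_map, Scheme.Hom.comp_apply] at hy
    obtain ⟨rfl⟩ := (sigmaι_eq_iff _ _ _ _ _).1 hy
    exact ⟨w, rfl⟩
  · rintro ⟨w, rfl⟩
    refine ⟨π k w, ?_⟩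
    rw [← Scheme.Hom.comp_apply, ← Scheme.Hom.comp_apply, Limits.Sigma.ι_map]

/-- A representation over a disjoint union from representations over the members. -/
theorem exists_rep_sigma {κ : Type u} {Y : κ → Scheme.{u}} {g : (∐ Y) ⟶ S}
    (R : ∀ k, Rep D (Sigma.ι Y k ≫ g)) :
    ∃ R' : Rep D g, ∃ e : R'.U ≅ ∐ fun k => (R k).U, R'.π = e.hom ≫ Limits.Sigma.map fun k => (R k).π := by
  let V : κ → Scheme.{u} := fun k => (R k).U
  let m : ∀ k, V k ⟶ Y k := fun k => (R k).π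
  obtain ⟨τ, hτ⟩ := Sec.exists_glue (D := D) (t := Limits.Sigma.map m ≫ g) (Sigma.ι V) (sigma_mem_fpqc V)
    (s := fun k => m k ≫ Sigma.ι Y k ≫ g) (fun k => by rw [Limits.Sigma.ι_map_assoc])
    (fun k => (R k).univ) fun k l T a b hab i x e e' => by
      rcases sigma_eq_or_isEmpty a b hab with hT | ⟨rfl, hb⟩
      · exact hom_eq_of_isEmpty hT _ _
      · rw [eqToHom_refl, Category.comp_id] at hb
        subst hb
        rfl
  refine ⟨{ U := ∐ V, π := Limits.Sigma.map m, univ := τ, exists_lift := fun T z σ => ?_,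
            hom_ext := fun T b b' h₁ h₂ => ?_ }, Iso.refl _, (Category.id_comp _).symm⟩
  · have hT := pullback_fst_mem_fpqc _ (sigma_mem_fpqc Y) z
    choose w hw hw' using fun k => (R k).exists_lift (pullback.snd z (Sigma.ι Y k))
      (σ.pull (pullback.fst z (Sigma.ι Y k)) (t' := pullback.snd z (Sigma.ι Y k) ≫ Sigma.ι Y k ≫ g)
        (by rw [pullback.condition_assoc]))
    obtain ⟨b, hb⟩ := exists_hom_fpqc _ hT (fun k => w k ≫ Sigma.ι V k) fun k l T' a a' haa => by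
      have hy : (a ≫ pullback.snd z (Sigma.ι Y k)) ≫ Sigma.ι Y k =
          (a' ≫ pullback.snd z (Sigma.ι Y l)) ≫ Sigma.ι Y l := by
        simp only [Category.assoc, ← pullback.condition]
        rw [← Category.assoc, haa, Category.assoc]
      rcases sigma_eq_or_isEmpty _ _ hy with hT' | ⟨rfl, -⟩
      · exact hom_eq_of_isEmpty hT' _ _
      · have : a = a' := by
          apply pullback.hom_ext haa
          rw [← cancel_mono (Sigma.ι Y k)]; exact hy
        rw [this]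
    have hbz : b ≫ Limits.Sigma.map m = z := hom_ext_fpqc _ hT fun k => by
      rw [← Category.assoc, hb k, Category.assoc, Limits.Sigma.ι_map, ← Category.assoc, hw]
      exact pullback.condition.symm
    refine ⟨b, hbz, fun T' i a x e e' => ?_⟩
    refine hom_ext_fpqc _ (pullback_fst_mem_fpqc _ hT a) fun k => ?_
    let c := pullback.fst a (pullback.fst z (Sigma.ι Y k))
    let d := pullback.snd a (pullback.fst z (Sigma.ι Y k))
    have hcd : c ≫ a = d ≫ pullback.fst z (Sigma.ι Y k) := pullback.condition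
    have hdw : (d ≫ w k) ≫ Sigma.ι V k = c ≫ a ≫ b := by
      rw [Category.assoc, ← hb k, ← Category.assoc c, hcd, Category.assoc]
    have e₁ : ((d ≫ w k) ≫ Sigma.ι V k) ≫ Limits.Sigma.map m ≫ g = (c ≫ x) ≫ f i := by
      rw [hdw]
      simp only [Category.assoc] at e' ⊢
      rw [e']
    have e₂ : (d ≫ w k) ≫ m k ≫ Sigma.ι Y k ≫ g = (c ≫ x) ≫ f i := by
      rw [← e₁, Category.assoc (d ≫ w k) (Sigma.ι V k), Limits.Sigma.ι_map_assoc]
    show c ≫ _ = c ≫ _
    refine (τ.eval_natural c _ _ e' _ _ hdw.symm rfl e₁).symm.trans ?_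
    refine (hτ k i (d ≫ w k) _ e₁ e₂).trans ?_
    refine ((hw' k) i d _ ?_ e₂).trans ((congrArg Subtype.val (Sec.eval_pull _ _ _ _ _ _)).trans ?_)
    · rw [← e₂, Category.assoc, reassoc_of% (hw k)]
    exact σ.eval_natural c a x e _ _ hcd rfl _
  · refine hom_ext_fpqc _ (pullback_fst_mem_fpqc _ (sigma_mem_fpqc Y) (b ≫ Limits.Sigma.map m)) fun k => ?_
    let p := pullback.fst (b ≫ Limits.Sigma.map m) (Sigma.ι Y k)
    let y := pullback.snd (b ≫ Limits.Sigma.map m) (Sigma.ι Y k)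
    have sq := isPullback_sigmaMap m k
    have hpy : (p ≫ b) ≫ Limits.Sigma.map m = y ≫ Sigma.ι Y k :=
      (Category.assoc _ _ _).trans pullback.condition
    have hpy' : (p ≫ b') ≫ Limits.Sigma.map m = y ≫ Sigma.ι Y k := by
      rw [Category.assoc, ← h₁, ← Category.assoc, hpy]
    have := (R k).hom_ext (sq.lift (p ≫ b) y hpy) (sq.lift (p ≫ b') y hpy')
      (by show _ ≫ m k = _ ≫ m k; rw [sq.lift_snd, sq.lift_snd]) fun T' i a x e e' => by
      have key : ∀ (b₀ : T ⟶ ∐ V) (hm : (p ≫ b₀) ≫ Limits.Sigma.map m = y ≫ Sigma.ι Y k)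
          (e₁ : (a ≫ sq.lift (p ≫ b₀) y hm) ≫ (R k).π ≫ Sigma.ι Y k ≫ g = x ≫ f i),
          ∃ e₂ : ((a ≫ p) ≫ b₀) ≫ Limits.Sigma.map m ≫ g = x ≫ f i,
            ((R k).univ.eval (a ≫ sq.lift (p ≫ b₀) y hm) x e₁).1 =
              (τ.eval ((a ≫ p) ≫ b₀) x e₂).1 := by
        intro b₀ hm e₁
        have hl : (a ≫ sq.lift (p ≫ b₀) y hm) ≫ Sigma.ι V k = (a ≫ p) ≫ b₀ := by
          rw [Category.assoc, sq.lift_fst, Category.assoc]
        have e₂ : ((a ≫ sq.lift (p ≫ b₀) y hm) ≫ Sigma.ι V k) ≫ Limits.Sigma.map m ≫ g = x ≫ f i := by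
          rw [Category.assoc _ (Sigma.ι V k), Limits.Sigma.ι_map_assoc]
          exact e₁
        exact ⟨by rw [← hl]; exact e₂, (hτ k i _ x e₂ e₁).symm.trans (τ.eval_congr hl rfl _ _)⟩
      obtain ⟨e₂, h2⟩ := key b hpy e
      obtain ⟨e₂', h2'⟩ := key b' hpy' e'
      exact h2.trans ((h₂ i (a ≫ p) x e₂ e₂').trans h2'.symm)
    have h3 := congrArg (· ≫ Sigma.ι V k) this
    simp only [sq.lift_fst] at h3
    exact h3

end Groth.Agent.SchDesc12
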