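import Groth.Agent.Lib.AlgSpace.QADescent
import Groth.Agent.Lib.AlgSpace.Affine
import Groth.Agent.Lib.AlgSpace.Space
import Groth.Prelude.Def_Desc

/-!
# From sheaves to descent data

A sheaf over a scheme which becomes a scheme after a flat finitely presented surjection carries a
descent datum; if that is effective, the sheaf is a scheme.
-/

universe u

set_option backward.isDefEq.respectTransparency.types false

open CategoryTheory CategoryTheory.Limits AlgebraicGeometry Opposite

namespace Groth.Agent.SchDesc12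

open AlgSp AlgSpace AlgSpace.AffineDescent

variable {S : Scheme.{u}} {Z V W : Over S} {F : AlgSp.Sp S} {π : F ⟶ (yon S).obj Z} {v : V ⟶ Z}
  {p : W ⟶ V} {m : (yon S).obj W ⟶ F}

section

variable (sq : IsPullback m ((yon S).map p) π ((yon S).map v))

include sq

theorem exists_translate_pt {T : Scheme.{u}} (x₀ x₁ : T ⟶ V.left) (h : x₀ ≫ v.left = x₁ ≫ v.left)
    (w : Desc.Lifts (Over.mk p.left) x₀) :
    ∃ w' : Desc.Lifts (Over.mk p.left) x₁,
      ∀ (a : Over.mk (x₁ ≫ V.hom) ⟶ W) (a' : Over.mk (x₁ ≫ V.hom) ⟶ W),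
        a.left = w.1 → a'.left = w'.1 → (yon S).map a' ≫ m = (yon S).map a ≫ m := by
  have hwp : w.1 ≫ p.left = x₀ := w.2
  have hw : w.1 ≫ W.hom = x₁ ≫ V.hom := by
    rw [← Over.w p, ← Category.assoc, hwp, ← Over.w v, reassoc_of% h]
  let T' : Over S := Over.mk (x₁ ≫ V.hom)
  let a : T' ⟶ W := Over.homMk w.1 hw
  let b : T' ⟶ V := Over.homMk x₁ rfl
  have hab : ((yon S).map a ≫ m) ≫ π = (yon S).map b ≫ (yon S).map v := by
    rw [Category.assoc, sq.w, ← Functor.map_comp, ← Functor.map_comp, ← Functor.map_comp]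
    congr 1
    apply Over.OverMorphism.ext
    show w.1 ≫ p.left ≫ v.left = x₁ ≫ v.left
    rw [← Category.assoc, hwp, h]
  obtain ⟨g, hg⟩ := (yon S).map_surjective (sq.lift _ _ hab)
  have hg₂ : g ≫ p = b := (yon S).map_injective (by
    rw [Functor.map_comp, hg, sq.lift_snd])
  refine ⟨⟨g.left, congrArg CommaMorphism.left hg₂⟩, fun a₀ a' ha₀ ha' => ?_⟩
  rw [show a₀ = a from Over.OverMorphism.ext ha₀, show a' = g from Over.OverMorphism.ext ha', hg,
    sq.lift_fst]

/-- Points over the same point of the cover with the same image in the sheaf are equal. -/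
theorem ext_pt {T : Over S} {a a' : T ⟶ W} (h : (yon S).map a ≫ m = (yon S).map a' ≫ m)
    (h' : a ≫ p = a' ≫ p) : a = a' :=
  (yon S).map_injective (sq.hom_ext h (by rw [← Functor.map_comp, h', Functor.map_comp]))

end

/-- Translation of points along the sheaf. -/
noncomputable def trPt (sq : IsPullback m ((yon S).map p) π ((yon S).map v)) {T : Scheme.{u}}
    (x₀ x₁ : T ⟶ V.left) (h : x₀ ≫ v.left = x₁ ≫ v.left) (w : Desc.Lifts (Over.mk p.left) x₀) :
    Desc.Lifts (Over.mk p.left) x₁ :=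
  (exists_translate_pt sq x₀ x₁ h w).choose

variable (sq : IsPullback m ((yon S).map p) π ((yon S).map v))

theorem trPt_spec {T : Over S} (x₀ x₁ : T ⟶ V) (h : x₀.left ≫ v.left = x₁.left ≫ v.left)
    (a a' : T ⟶ W) (w : Desc.Lifts (Over.mk p.left) x₀.left) (ha : a.left = w.1)
    (ha' : a'.left = (trPt sq x₀.left x₁.left h w).1) :
    (yon S).map a' ≫ m = (yon S).map a ≫ m := by
  let i : T ⟶ Over.mk (x₁.left ≫ V.hom) :=
    Over.homMk (𝟙 _) ((Category.id_comp _).trans (Over.w x₁))
  let j : Over.mk (x₁.left ≫ V.hom) ⟶ T :=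
    Over.homMk (𝟙 _) ((Category.id_comp _).trans (Over.w x₁).symm)
  have hij : i ≫ j = 𝟙 T := Over.OverMorphism.ext (Category.id_comp _)
  have := (exists_translate_pt sq x₀.left x₁.left h w).choose_spec (j ≫ a) (j ≫ a')
    (by rw [← ha]; exact Category.id_comp _) ((Category.id_comp _).trans ha')
  calc (yon S).map a' ≫ m = (yon S).map i ≫ (yon S).map (j ≫ a') ≫ m := by
        rw [← Functor.map_comp_assoc, ← Category.assoc i, hij, Category.id_comp]
    _ = (yon S).map i ≫ (yon S).map (j ≫ a) ≫ m := by rw [this]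
    _ = (yon S).map a ≫ m := by
        rw [← Functor.map_comp_assoc, ← Category.assoc i, hij, Category.id_comp]

theorem trPt_unique {T : Over S} (x₀ x₁ : T ⟶ V) (h : x₀.left ≫ v.left = x₁.left ≫ v.left)
    (a a' : T ⟶ W) (w : Desc.Lifts (Over.mk p.left) x₀.left) (ha : a.left = w.1)
    (ha₁ : a' ≫ p = x₁) (hm : (yon S).map a' ≫ m = (yon S).map a ≫ m) :
    (trPt sq x₀.left x₁.left h w).1 = a'.left := by
  let u := trPt sq x₀.left x₁.left h w
  let g : T ⟶ W := Over.homMk u.1 (by
    rw [← Over.w p, ← Category.assoc, show u.1 ≫ p.left = x₁.left from u.2]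
    exact Over.w x₁)
  have hg : g ≫ p = a' ≫ p := by
    rw [ha₁]; exact Over.OverMorphism.ext u.2
  exact congrArg CommaMorphism.left (ext_pt sq (a := g) (a' := a')
    ((trPt_spec sq x₀ x₁ h a g w ha rfl).trans hm.symm) hg)

/-- The descent datum of a sheaf over a scheme split by a cover. -/
noncomputable def sheafDatum : Desc.SchDD v.left where
  obj := Over.mk p.left
  φ T x₀ x₁ h :=
    { toFun := trPt sq x₀ x₁ h
      invFun := trPt sq x₁ x₀ h.symm
      left_inv := fun w => by
        let T' : Over S := Over.mk (x₀ ≫ V.hom)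
        let y₀ : T' ⟶ V := Over.homMk x₀ rfl
        let y₁ : T' ⟶ V := Over.homMk x₁ (by
          show x₁ ≫ V.hom = x₀ ≫ V.hom
          rw [← Over.w v, reassoc_of% h])
        let a : T' ⟶ W := Over.homMk w.1 (by
          rw [← Over.w p, ← Category.assoc, show w.1 ≫ p.left = x₀ from w.2]; rfl)
        let a' : T' ⟶ W := Over.homMk (trPt sq x₀ x₁ h w).1 (by
          rw [← Over.w p, ← Category.assoc,
            show (trPt sq x₀ x₁ h w).1 ≫ p.left = x₁ from (trPt sq x₀ x₁ h w).2]
          exact Over.w y₁)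
        exact Subtype.ext (trPt_unique sq y₁ y₀ h.symm a' a _ rfl (Over.OverMorphism.ext w.2)
          (trPt_spec sq y₀ y₁ h a a' w rfl rfl).symm)
      right_inv := fun w => by
        let T' : Over S := Over.mk (x₁ ≫ V.hom)
        let y₁ : T' ⟶ V := Over.homMk x₁ rfl
        let y₀ : T' ⟶ V := Over.homMk x₀ (by
          show x₀ ≫ V.hom = x₁ ≫ V.hom
          rw [← Over.w v, reassoc_of% h])
        let a : T' ⟶ W := Over.homMk w.1 (by
          rw [← Over.w p, ← Category.assoc, show w.1 ≫ p.left = x₁ from w.2]; rfl)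
        let a' : T' ⟶ W := Over.homMk (trPt sq x₁ x₀ h.symm w).1 (by
          rw [← Over.w p, ← Category.assoc,
            show (trPt sq x₁ x₀ h.symm w).1 ≫ p.left = x₀ from (trPt sq x₁ x₀ h.symm w).2]
          exact Over.w y₀)
        exact Subtype.ext (trPt_unique sq y₀ y₁ h a' a _ rfl (Over.OverMorphism.ext w.2)
          (trPt_spec sq y₁ y₀ h.symm a a' w rfl rfl).symm) }
  φ_natural T T' g x₀ x₁ h h' w w' hw := by
    let T₁ : Over S := Over.mk (x₁ ≫ V.hom)
    let T₂ : Over S := Over.mk (g ≫ x₁ ≫ V.hom)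
    let gg : T₂ ⟶ T₁ := Over.homMk g rfl
    let y₁ : T₁ ⟶ V := Over.homMk x₁ rfl
    let y₀ : T₁ ⟶ V := Over.homMk x₀ (by
      show x₀ ≫ V.hom = x₁ ≫ V.hom
      rw [← Over.w v, reassoc_of% h])
    let a : T₁ ⟶ W := Over.homMk w.1 (by
      rw [← Over.w p, ← Category.assoc, show w.1 ≫ p.left = x₀ from w.2]; exact Over.w y₀)
    let a' : T₁ ⟶ W := Over.homMk (trPt sq x₀ x₁ h w).1 (by
      rw [← Over.w p, ← Category.assoc,
        show (trPt sq x₀ x₁ h w).1 ≫ p.left = x₁ from (trPt sq x₀ x₁ h w).2]; rfl)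
    refine (trPt_unique sq (gg ≫ y₀) (gg ≫ y₁) h' (gg ≫ a) (gg ≫ a') w' hw.symm ?_ ?_).trans rfl
    · apply Over.OverMorphism.ext
      show (g ≫ (trPt sq x₀ x₁ h w).1) ≫ p.left = g ≫ x₁
      rw [Category.assoc, show (trPt sq x₀ x₁ h w).1 ≫ p.left = x₁ from (trPt sq x₀ x₁ h w).2]
    · rw [Functor.map_comp_assoc, Functor.map_comp_assoc, trPt_spec sq y₀ y₁ h a a' w rfl rfl]
  φ_self T x w := by
    let T' : Over S := Over.mk (x ≫ V.hom)
    let y : T' ⟶ V := Over.homMk x rfl
    let a : T' ⟶ W := Over.homMk w.1 (by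
      rw [← Over.w p, ← Category.assoc, show w.1 ≫ p.left = x from w.2]; rfl)
    exact Subtype.ext (trPt_unique sq y y rfl a a w rfl (Over.OverMorphism.ext w.2) rfl)
  φ_comp T x₀ x₁ x₂ h₀₁ h₁₂ w := by
    let T' : Over S := Over.mk (x₂ ≫ V.hom)
    let y₂ : T' ⟶ V := Over.homMk x₂ rfl
    let y₁ : T' ⟶ V := Over.homMk x₁ (by
      show x₁ ≫ V.hom = x₂ ≫ V.hom
      rw [← Over.w v, reassoc_of% h₁₂])
    let y₀ : T' ⟶ V := Over.homMk x₀ (by
      show x₀ ≫ V.hom = x₂ ≫ V.hom
      rw [← Over.w v, reassoc_of% (h₀₁.trans h₁₂)])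
    let a₀ : T' ⟶ W := Over.homMk w.1 (by
      rw [← Over.w p, ← Category.assoc, show w.1 ≫ p.left = x₀ from w.2]; exact Over.w y₀)
    let u₁ := trPt sq x₀ x₁ h₀₁ w
    let u₂ := trPt sq x₀ x₂ (h₀₁.trans h₁₂) w
    let a₁ : T' ⟶ W := Over.homMk u₁.1 (by
      rw [← Over.w p, ← Category.assoc, show u₁.1 ≫ p.left = x₁ from u₁.2]; exact Over.w y₁)
    let a₂ : T' ⟶ W := Over.homMk u₂.1 (by
      rw [← Over.w p, ← Category.assoc, show u₂.1 ≫ p.left = x₂ from u₂.2]; rfl)
    exact Subtype.ext (trPt_unique sq y₁ y₂ h₁₂ a₁ a₂ u₁ rfl (Over.OverMorphism.ext u₂.2)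
      ((trPt_spec sq y₀ y₂ (h₀₁.trans h₁₂) a₀ a₂ w rfl rfl).trans
        (trPt_spec sq y₀ y₁ h₀₁ a₀ a₁ w rfl rfl).symm))

/-- A sheaf with effective descent datum is representable over the base of the cover. -/
theorem exists_square_of_effective [Flat v.left] [Surjective v.left]
    [LocallyOfFinitePresentation v.left] (heff : (Desc.toDD v.left).essImage (sheafDatum sq)) :
    ∃ (A : Over S) (i : A ⟶ Z) (e : (yon S).obj A ⟶ F) (h : W ⟶ A),
      IsIso e ∧ e ≫ π = (yon S).map i ∧ IsPullback h p i v := by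
  obtain ⟨U, ⟨iso⟩⟩ := heff
  let A : Over S := Over.mk (U.hom ≫ Z.hom)
  let i : A ⟶ Z := Over.homMk U.hom rfl
  let E : W.left ⟶ pullback v.left U.hom := iso.inv.hom.left
  let E' : pullback v.left U.hom ⟶ W.left := iso.hom.hom.left
  have hE₁ : E ≫ E' = 𝟙 _ :=
    congrArg (fun b : sheafDatum sq ⟶ sheafDatum sq => b.hom.left) iso.inv_hom_id
  have hE₂ : E' ≫ E = 𝟙 _ := congrArg
    (fun b : (Desc.toDD v.left).obj U ⟶ (Desc.toDD v.left).obj U => b.hom.left) iso.hom_inv_id
  have hEp : E ≫ pullback.fst v.left U.hom = p.left := Over.w iso.inv.hom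
  let h : W ⟶ A := Over.homMk (E ≫ pullback.snd v.left U.hom) (by
    show (E ≫ pullback.snd v.left U.hom) ≫ U.hom ≫ Z.hom = W.hom
    rw [Category.assoc, ← pullback.condition_assoc, reassoc_of% hEp, Over.w v, Over.w p])
  have hleft : IsPullback h.left p.left i.left v.left :=
    IsPullback.of_iso (IsPullback.of_hasPullback v.left U.hom).flip ⟨E', E, hE₂, hE₁⟩ (Iso.refl _)
      (Iso.refl _) (Iso.refl _)
      (by
        show pullback.snd v.left U.hom ≫ 𝟙 _ = E' ≫ E ≫ pullback.snd v.left U.hom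
        rw [reassoc_of% hE₂, Category.comp_id])
      (by
        show pullback.fst v.left U.hom ≫ 𝟙 _ = E' ≫ p.left
        rw [← hEp, reassoc_of% hE₂, Category.comp_id])
      (by simp [i]) (by simp)
  have sqh : IsPullback h p i v := IsPullback.of_map_of_faithful (Over.forget S) hleft
  obtain ⟨e, he, hei⟩ := exists_iso_of_descent v sq i h sqh fun {T} x y exy => by
    apply Over.OverMorphism.ext
    show x.left ≫ E ≫ pullback.snd v.left U.hom = y.left ≫ E ≫ pullback.snd v.left U.hom
    have hv : (x ≫ p).left ≫ v.left = (y ≫ p).left ≫ v.left := by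
      have : (yon S).map (x ≫ p ≫ v) = (yon S).map (y ≫ p ≫ v) := by
        simp only [Functor.map_comp, ← sq.w]
        rw [reassoc_of% exy]
      exact congrArg CommaMorphism.left ((yon S).map_injective this)
    let w : Desc.Lifts (sheafDatum sq).obj (x ≫ p).left := ⟨x.left, rfl⟩
    have hφ : ((sheafDatum sq).φ (x ≫ p).left (y ≫ p).left hv w).1 = y.left :=
      trPt_unique sq (x ≫ p) (y ≫ p) hv x y w rfl rfl exy.symm
    have hc := iso.inv.comm (x ≫ p).left (y ≫ p).left hv w
      ⟨x.left ≫ E, by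
        show (x.left ≫ E) ≫ pullback.fst v.left U.hom = (x ≫ p).left
        rw [Category.assoc, hEp]; rfl⟩ rfl
    rw [hφ] at hc
    rw [← Category.assoc, ← Category.assoc, show y.left ≫ E = _ from hc.symm]
    symm
    exact pullback.lift_snd _ _ _
  exact ⟨A, i, e, h, he, hei, sqh⟩

end Groth.Agent.SchDesc12

namespace Groth.Agent.SchDesc12

open AlgSp AlgSpace

/-- A map to an algebraic space whose base change to an atlas is a scheme with a property satisfying
effective fppf descent is representable with that property. -/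
theorem repWith_of_chart_effective {S : Scheme.{u}} (P : MorphismProperty Scheme.{u})
    [P.IsStableUnderBaseChange] [P.IsLocalAtTarget Scheme.fppfPrecoverage]
    (hdesc : ∀ ⦃X' S' : Scheme.{u}⦄ (p : X' ⟶ S'), Surjective p → Flat p →
      LocallyOfFinitePresentation p → ∀ D : Desc.SchDD p, P D.obj.hom → (Desc.toDD p).essImage D)
    {F G : AlgSp.Sp S} (f : G ⟶ F) {U V : Over S} (q : (yon S).obj U ⟶ F)
    (hqe : RepWith @Etale q) (hqs : RepWith @Surjective q) (fst : (yon S).obj V ⟶ G) (g : V ⟶ U)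
    (sq : IsPullback fst ((yon S).map g) f q) (hP : P g.left) : RepWith P f := by
  have key : ∀ ⦃T : Over S⦄ (t : (yon S).obj T ⟶ F), ∃ (A : Over S) (a : (yon S).obj A ⟶ G)
      (i : A ⟶ T), IsPullback a ((yon S).map i) f t ∧ P i.left := by
    intro T t
    let V' : Over S := hqe.1.pullback t
    let v : V' ⟶ T := hqe.1.snd t
    have sqV := hqe.1.isPullback t
    obtain ⟨l, hl⟩ := (yon S).map_surjective (hqe.1.fst t)
    rw [← hl] at sqV
    have : Etale v.left := hqe.2 t _ _ sqV
    have : Surjective v.left := hqs.2 t _ _ sqV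
    have sqW := (IsPullback.of_hasPullback g l).map (yon S)
    have sqG : IsPullback ((yon S).map (pullback.fst g l) ≫ fst) ((yon S).map (pullback.snd g l)) f
        ((yon S).map v ≫ t) := by
      rw [← sqV.w]
      exact sqW.paste_horiz sq
    have sqP := IsPullback.of_hasPullback f t
    let m := sqP.lift ((yon S).map (pullback.fst g l) ≫ fst)
      ((yon S).map (pullback.snd g l) ≫ (yon S).map v) (by rw [Category.assoc]; exact sqG.w)
    have sqm : IsPullback m ((yon S).map (pullback.snd g l)) (pullback.snd f t) ((yon S).map v) :=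
      IsPullback.of_right (by rw [sqP.lift_fst]; exact sqG) (sqP.lift_snd _ _ _) sqP
    have hp : P (pullback.snd g l).left :=
      P.of_isPullback ((IsPullback.of_hasPullback g l).map (Over.forget S)) hP
    obtain ⟨A, i, e, h, he, hei, sqh⟩ :=
      exists_square_of_effective sqm (hdesc v.left inferInstance inferInstance inferInstance _ hp)
    refine ⟨A, e ≫ pullback.fst f t, i, ?_, ?_⟩
    · exact IsPullback.of_iso sqP (asIso e).symm (Iso.refl _) (Iso.refl _) (Iso.refl _) (by simp)
        (by simp [← hei]) (by simp) (by simp)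
    · refine MorphismProperty.IsLocalAtTarget.of_forall_pullbackSnd
        (K := Scheme.fppfPrecoverage) (Scheme.Hom.singleton_mem_fppfPrecoverage v.left) ?_
      rintro U' g' _ ⟨⟩
      show P (pullback.snd ((Over.forget S).map i) ((Over.forget S).map v))
      rw [← (sqh.map (Over.forget S)).isoPullback_inv_snd]
      exact (P.cancel_left_of_respectsIso _ _).2 hp
  exact repWith_mk fun T t => key t

end Groth.Agent.SchDesc12
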