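import Groth.Agent.Lib.SchDesc12.Effective
import Groth.Agent.Lib.QA11.Basic
import Mathlib.AlgebraicGeometry.QuasiAffine
import Mathlib.AlgebraicGeometry.Morphisms.Flat

/-!
# fpqc descent of quasi-affine schemes

Open subdata of effective descent data are effective, and a descent datum of quasi-affine schemes is
an open subdatum of the datum of the affine hulls.
-/

universe u

open CategoryTheory CategoryTheory.Limits AlgebraicGeometry Opposite TopologicalSpace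

set_option backward.isDefEq.respectTransparency.types false

namespace Groth.Agent.SchDesc12

variable {S : Scheme.{u}} {ι : Type u} {X : ι → Scheme.{u}} {f : ∀ i, X i ⟶ S}
  {D D' : Desc.SchDDFam f}

/-- The image of an open subdatum is stable. -/
theorem mem_range_of_hom (j : D ⟶ D') {T : Scheme.{u}} {i k : ι}
    [IsOpenImmersion (j.hom i).left] (x₀ : T ⟶ X i) (x₁ : T ⟶ X k) (h : x₀ ≫ f i = x₁ ≫ f k)
    (v : Desc.Lifts (D'.obj i) x₀) (z : T) (hz : v.1 z ∈ Set.range (j.hom i).left) :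
    (D'.φ x₀ x₁ h v).1 z ∈ Set.range (j.hom k).left := by
  let O : T.Opens := v.1 ⁻¹ᵁ (j.hom i).left.opensRange
  have hsub : Set.range (O.ι ≫ v.1) ⊆ Set.range (j.hom i).left := by
    rintro _ ⟨y, rfl⟩
    exact y.2
  obtain ⟨w₀, hw₀⟩ : ∃ w₀, w₀ ≫ (j.hom i).left = O.ι ≫ v.1 :=
    ⟨_, IsOpenImmersion.lift_fac (j.hom i).left (O.ι ≫ v.1) hsub⟩
  let w : Desc.Lifts (D.obj i) (O.ι ≫ x₀) := ⟨w₀, by
    rw [← Over.w (j.hom i), ← Category.assoc, hw₀, Category.assoc, v.2]⟩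
  let v' : Desc.Lifts (D'.obj i) (O.ι ≫ x₀) := ⟨O.ι ≫ v.1, by rw [Category.assoc, v.2]⟩
  have h' : (O.ι ≫ x₀) ≫ f i = (O.ι ≫ x₁) ≫ f k := by rw [Category.assoc, h, Category.assoc]
  have k₁ := j.comm (O.ι ≫ x₀) (O.ι ≫ x₁) h' w v' hw₀.symm
  rw [D'.φ_natural O.ι x₀ x₁ h _ _ rfl rfl h' v v' rfl] at k₁
  exact ⟨(D.φ _ _ h' w).1 ⟨z, hz⟩, (congrArg (fun a => a ⟨z, hz⟩) k₁).symm⟩

/-- An open subdatum of an effective descent datum is effective. -/
theorem isEffective_of_openSub (hf : Presieve.ofArrows X f ∈ Scheme.fpqcPrecoverage S)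
    (j : D ⟶ D') (hj : ∀ i, IsOpenImmersion (j.hom i).left) (h : D'.IsEffective) :
    D.IsEffective := by
  have hid : ∀ i, IsOpenImmersion ((𝟙 D' : D' ⟶ D').hom i).left := fun i =>
    inferInstanceAs (IsOpenImmersion (𝟙 (D'.obj i).left))
  obtain ⟨C, hC⟩ := exists_chart_of_hom D' (𝟙 D') hid h
  have htop : ∀ i, C.W i = ⊤ := fun i =>
    (hC i).trans (Scheme.Hom.opensRange_of_isIso (𝟙 (D'.obj i).left))
  have hiso : ∀ i, IsIso (C.W i).ι := fun i => by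
    rw [htop i]
    exact inferInstanceAs (IsIso (Scheme.topIso _).hom)
  obtain ⟨hflat, hqc⟩ := GrpQuot.SubDesc.flat_and_isQCCovering f hf
  obtain ⟨hflat', hqc'⟩ := GrpQuot.SubDesc.pullback_family f hflat hqc C.π
  obtain ⟨ev, hev⟩ : ∃ ev : ∀ i, pullback C.π (f i) ⟶ (D'.obj i).left, ∀ i, ev i =
      (C.sq i).lift (pullback.fst C.π (f i)) (pullback.snd C.π (f i)) pullback.condition ≫
        (C.W i).ι := ⟨_, fun _ => rfl⟩
  let A : ∀ i, Set ↥(pullback C.π (f i)) := fun i => ev i ⁻¹' Set.range (j.hom i).left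
  have hA : ∀ i, IsOpen (A i) := fun i =>
    (j.hom i).left.isOpenEmbedding.isOpen_range.preimage (ev i).continuous
  obtain ⟨V₀, hV₀⟩ := GrpQuot.SubDesc.exists_open_descend (fun i => pullback.fst C.π (f i)) hflat'
    hqc' A hA (fun i k z hz => by
      obtain ⟨a, ha⟩ : ∃ a, a = pullback.fst (pullback.fst C.π (f k)) (pullback.fst C.π (f i)) :=
        ⟨_, rfl⟩
      obtain ⟨b, hb⟩ : ∃ b, b = pullback.snd (pullback.fst C.π (f k)) (pullback.fst C.π (f i)) :=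
        ⟨_, rfl⟩
      have hab : a ≫ pullback.fst C.π (f k) = b ≫ pullback.fst C.π (f i) := by
        rw [ha, hb]; exact pullback.condition
      rw [← ha] at hz
      rw [← hb]
      have hx : (a ≫ pullback.snd C.π (f k)) ≫ f k = (b ≫ pullback.snd C.π (f i)) ≫ f i := by
        rw [Category.assoc, ← pullback.condition, ← Category.assoc, hab, Category.assoc,
          pullback.condition, ← Category.assoc]
      have hlift : ∀ l, ev l ≫ (D'.obj l).hom = pullback.snd C.π (f l) := fun l => by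
        rw [hev, Category.assoc, (C.sq l).lift_snd]
      let v : Desc.Lifts (D'.obj k) (a ≫ pullback.snd C.π (f k)) :=
        ⟨a ≫ ev k, by rw [Category.assoc, hlift]⟩
      obtain ⟨v₁, e₁, e₂⟩ := C.stable _ _ hx v
        (a ≫ (C.sq k).lift _ _ pullback.condition) (by
          show _ = a ≫ ev k
          rw [hev, Category.assoc])
      have e₃ : (D'.φ _ _ hx v).1 = b ≫ ev i := by
        rw [← e₁, hev, ← Category.assoc b]
        refine congrArg (· ≫ (C.W i).ι) ((C.sq i).hom_ext ?_ ?_)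
        · rw [e₂, Category.assoc, (C.sq k).lift_fst, Category.assoc, (C.sq i).lift_fst, hab]
        · rw [← Category.assoc, e₁, Category.assoc, (C.sq i).lift_snd]
          exact (D'.φ _ _ hx v).2
      have h₁ := mem_range_of_hom j _ _ hx v z hz
      rw [e₃] at h₁
      exact h₁)
  -- the projections of the subdatum
  obtain ⟨r, hr⟩ : ∃ r : ∀ i, (D'.obj i).left ⟶ C.U, ∀ i, r i = inv (C.W i).ι ≫ C.q i :=
    ⟨_, fun _ => rfl⟩
  have sqr : ∀ i, IsPullback (r i) (D'.obj i).hom C.π (f i) := fun i =>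
    IsPullback.of_iso (C.sq i) (asIso (C.W i).ι) (Iso.refl _) (Iso.refl _) (Iso.refl _)
      (by simp [hr]) (by simp) (by simp) (by simp)
  have hrange : ∀ i, (r i) ⁻¹ᵁ V₀ = (j.hom i).left.opensRange := fun i => by
    apply SetLike.coe_injective
    have e₁ : ev i = (sqr i).isoPullback.inv := by
      rw [← cancel_epi (sqr i).isoPullback.hom, Iso.hom_inv_id, hev, ← Category.assoc,
        ← cancel_mono (inv (C.W i).ι), Category.assoc, IsIso.hom_inv_id, Category.comp_id,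
        Category.id_comp]
      apply (C.sq i).hom_ext
      · rw [Category.assoc, (C.sq i).lift_fst, (sqr i).isoPullback_hom_fst, hr]
      · rw [Category.assoc, (C.sq i).lift_snd, (sqr i).isoPullback_hom_snd,
          IsIso.inv_hom_id_assoc]
    ext x
    show r i x ∈ V₀ ↔ x ∈ Set.range (j.hom i).left
    rw [← (sqr i).isoPullback_hom_fst, Scheme.Hom.comp_apply]
    refine (Set.ext_iff.1 (hV₀ i) _).trans ?_
    show ev i ((sqr i).isoPullback.hom x) ∈ Set.range (j.hom i).left ↔ x ∈ Set.range (j.hom i).left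
    rw [e₁, ← Scheme.Hom.comp_apply, Iso.hom_inv_id]
    rfl
  let W : ∀ i, (D.obj i).left.Opens := fun _ => ⊤
  have hW : ∀ i, IsIso (W i).ι := fun i => inferInstanceAs (IsIso (Scheme.topIso _).hom)
  have hfac : ∀ i, Set.range ((W i).ι ≫ (j.hom i).left ≫ r i) ⊆ Set.range V₀.ι := fun i => by
    rw [V₀.range_ι]
    rintro _ ⟨y, rfl⟩
    exact (SetLike.ext_iff.1 (hrange i) _).2 ⟨(W i).ι y, rfl⟩
  obtain ⟨q, hq⟩ : ∃ q : ∀ i, (W i).toScheme ⟶ V₀.toScheme,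
      ∀ i, q i ≫ V₀.ι = (W i).ι ≫ (j.hom i).left ≫ r i :=
    ⟨_, fun i => IsOpenImmersion.lift_fac V₀.ι _ (hfac i)⟩
  have sq₁ : ∀ i, IsPullback (q i) ((W i).ι ≫ (j.hom i).left) V₀.ι (r i) := fun i =>
    IsOpenImmersion.isPullback (q i) ((W i).ι ≫ (j.hom i).left) V₀.ι (r i)
      (by rw [hq, Category.assoc]) (by
        rw [Scheme.Opens.opensRange_ι, hrange, Scheme.Hom.opensRange_comp_of_isIso])
  refine isEffective_of_charts D hf (κ := PUnit.{u + 1}) (fun _ =>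
    { W := W
      U := V₀.toScheme
      π := V₀.ι ≫ C.π
      q := q
      sq := fun i => by
        have := (sq₁ i).paste_vert (sqr i)
        rw [Category.assoc, Over.w (j.hom i)] at this
        exact this
      stable := fun T i k x₀ x₁ hx v v₀ hv => ?_ }) fun i v => ⟨⟨⟩, trivial⟩
  obtain ⟨v₁, e₁, e₂⟩ := C.stable x₀ x₁ hx (Desc.SchDDFam.Hom.push j v)
    (v.1 ≫ (j.hom i).left ≫ inv (C.W i).ι) (by
      show _ = v.1 ≫ (j.hom i).left
      simp)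
  refine ⟨(D.φ x₀ x₁ hx v).1 ≫ inv (W k).ι, by simp, ?_⟩
  rw [← cancel_mono V₀.ι]
  simp only [Category.assoc, hq, IsIso.inv_hom_id_assoc]
  rw [← Category.assoc v₀, hv, hr, hr,
    ← Category.assoc (D.φ x₀ x₁ hx v).1, ← j.comm x₀ x₁ hx v (Desc.SchDDFam.Hom.push j v) rfl,
    ← e₁, Category.assoc, IsIso.hom_inv_id_assoc, e₂]
  simp only [Category.assoc]

section hull

/-- Maps to affine schemes are determined on a scheme with the same global functions. -/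
theorem ext_of_isIso_appTop {W A Y : Scheme.{u}} [IsAffine Y] (j : W ⟶ A) [IsIso j.appTop]
    {a b : A ⟶ Y} (h : j ≫ a = j ≫ b) : a = b := by
  apply ext_of_isAffine
  rw [← cancel_mono j.appTop, ← Scheme.Hom.comp_appTop, ← Scheme.Hom.comp_appTop, h]

/-- Maps to affine schemes extend from a scheme with the same global functions. -/
theorem exists_of_isIso_appTop {W A Y : Scheme.{u}} [IsAffine A] [IsAffine Y] (j : W ⟶ A)
    [IsIso j.appTop] (k : W ⟶ Y) : ∃ a : A ⟶ Y, j ≫ a = k := by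
  refine ⟨A.isoSpec.hom ≫ Spec.map (k.appTop ≫ inv j.appTop) ≫ Y.isoSpec.inv, ?_⟩
  apply ext_of_isAffine
  rw [← cancel_mono (inv j.appTop), Scheme.Hom.comp_appTop, Category.assoc, IsIso.hom_inv_id,
    Category.comp_id]
  have e : ∀ (g : Γ(Y, ⊤) ⟶ Γ(A, ⊤)),
      (A.isoSpec.hom ≫ Spec.map g ≫ Y.isoSpec.inv).appTop = g := fun g => by
    have hh : A.isoSpec.hom ≫ Spec.map g ≫ Y.isoSpec.inv ≫ Y.toSpecΓ = A.isoSpec.hom ≫ Spec.map g := by
      rw [show Y.toSpecΓ = Y.isoSpec.hom from rfl, Iso.inv_hom_id, Category.comp_id]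
    have h2 := Scheme.toSpecΓ_naturality (A.isoSpec.hom ≫ Spec.map g ≫ Y.isoSpec.inv)
    simp only [Category.assoc] at h2
    rw [hh, show A.toSpecΓ = A.isoSpec.hom from rfl, cancel_epi] at h2
    exact (Spec.map_injective h2).symm
  exact e _

/-- Having the same global functions is stable under flat base change of affine schemes. -/
theorem isIso_appTop_snd {W A A' : Scheme.{u}} [IsAffine A] [IsAffine A'] [CompactSpace W]
    [QuasiSeparatedSpace W] (j : W ⟶ A) [IsIso j.appTop] (g : A' ⟶ A) [Flat g] :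
    IsIso (pullback.snd j g).appTop := by
  have hiso := isIso_pushoutSection_of_isQuasiSeparated_of_flat_right (f := g)
    (IsPullback.of_hasPullback j g) (US := ⊤) (UT := ⊤) (UX := ⊤) (UY := ⊤) le_top le_top
    (inf_top_eq ⊤).symm (isAffineOpen_top A) (isAffineOpen_top A') isCompact_univ
    isQuasiSeparated_univ
  have hp := (isIso_pushoutSection_iff (IsPullback.of_hasPullback j g) _ _ _).1 hiso
  have key : ∀ {X Y : Scheme.{u}} (f : X ⟶ Y) (e : ⊤ ≤ f ⁻¹ᵁ ⊤), f.appLE ⊤ ⊤ e = f.appTop :=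
    fun f e => f.appLE_eq_app
  rw [key, key, key, key] at hp
  exact hp.isIso_inr_of_isIso

variable {X S : Scheme.{u}} [IsAffine X] [IsAffine S] (p : X ⟶ S) [Flat p] [Surjective p]

/-- Descent data with quasi-affine total space along faithfully flat maps of affine schemes are
effective. -/
theorem isEffective_quasiAffine_single (D : Desc.SchDDFam (fun _ : PUnit.{u + 1} => p))
    [(D.obj ⟨⟩).left.IsQuasiAffine] : D.IsEffective := by
  let V := (D.obj ⟨⟩).left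
  obtain ⟨γ, hγ0⟩ : ∃ γ : V ⟶ X, γ = (D.obj ⟨⟩).hom := ⟨_, rfl⟩
  let Vb : Scheme.{u} := Spec Γ(V, ⊤)
  let j : V ⟶ Vb := V.toSpecΓ
  have : IsIso j.appTop := by rw [Scheme.toSpecΓ_appTop]; infer_instance
  obtain ⟨γb, hγ⟩ := exists_of_isIso_appTop j γ
  let π₀ := pullback.fst (γb ≫ p) p
  let π₁ := pullback.snd (γb ≫ p) p
  have hπ : π₀ ≫ γb ≫ p = π₁ ≫ p := pullback.condition
  -- the hull of `V ×_S X`
  let e₁ := pullback.fst j π₀
  let j₁ := pullback.snd j π₀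
  have : IsIso j₁.appTop := isIso_appTop_snd j π₀
  have he₁ : e₁ ≫ j = j₁ ≫ π₀ := pullback.condition
  let P₁ := pullback j π₀
  have : IsAffineHom π₀ := inferInstance
  have : IsAffineHom e₁ := MorphismProperty.pullback_fst j π₀ ‹IsAffineHom π₀›
  have : P₁.IsQuasiAffine := Scheme.IsQuasiAffine.of_isAffineHom e₁
  have hx : (e₁ ≫ γ) ≫ p = (j₁ ≫ π₁) ≫ p := by
    rw [Category.assoc, Category.assoc, ← hπ, ← hγ, Category.assoc, ← Category.assoc e₁, he₁,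
      Category.assoc]
  let v₁ : Desc.Lifts (D.obj ⟨⟩) (e₁ ≫ γ) := ⟨e₁, by rw [hγ0]⟩
  obtain ⟨t₁, ht₁⟩ : ∃ t₁ : P₁ ⟶ V, t₁ = (D.φ (e₁ ≫ γ) (j₁ ≫ π₁) hx v₁).1 := ⟨_, rfl⟩
  obtain ⟨σ, hσ⟩ := exists_of_isIso_appTop j₁ (t₁ ≫ j)
  have hσγ : σ ≫ γb = π₁ := ext_of_isIso_appTop j₁ (by
    rw [← Category.assoc, hσ, Category.assoc, hγ, hγ0, ht₁]
    exact (D.φ (e₁ ≫ γ) (j₁ ≫ π₁) hx v₁).2)
  -- the translation of points of the hull restricts to that of `D`
  have key : ∀ {T : Scheme.{u}} (x₀ x₁ : T ⟶ X) (h : x₀ ≫ p = x₁ ≫ p)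
      (v : Desc.Lifts (D.obj ⟨⟩) x₀) (c : T ⟶ pullback (γb ≫ p) p),
      c ≫ π₀ = v.1 ≫ j → c ≫ π₁ = x₁ → (D.φ x₀ x₁ h v).1 ≫ j = c ≫ σ := by
    intro T x₀ x₁ h v c hc₀ hc₁
    let c' : T ⟶ P₁ := pullback.lift v.1 c hc₀.symm
    have hc'₀ : c' ≫ e₁ = v.1 := pullback.lift_fst _ _ _
    have hc'₁ : c' ≫ j₁ = c := pullback.lift_snd _ _ _
    rw [D.φ_natural c' (e₁ ≫ γ) (j₁ ≫ π₁) hx x₀ x₁
      (by rw [← Category.assoc, hc'₀, hγ0, v.2]) (by rw [← Category.assoc, hc'₁, hc₁]) h v₁ v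
      hc'₀.symm, ← ht₁, Category.assoc, ← hσ, ← Category.assoc, hc'₁]
  -- unit
  obtain ⟨δ, hδ₀, hδ₁⟩ : ∃ δ : Vb ⟶ pullback (γb ≫ p) p, δ ≫ π₀ = 𝟙 _ ∧ δ ≫ π₁ = γb :=
    ⟨pullback.lift (𝟙 _) γb (Category.id_comp _), pullback.lift_fst _ _ _,
      pullback.lift_snd _ _ _⟩
  have hδ : δ ≫ σ = 𝟙 _ := ext_of_isIso_appTop j (by
    rw [← Category.assoc, Category.comp_id, ← key γ γ rfl ⟨𝟙 V, by rw [hγ0]; exact Category.id_comp _⟩
      (j ≫ δ) (by rw [Category.assoc, hδ₀, Category.comp_id]; exact (Category.id_comp j).symm)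
      (by rw [Category.assoc, hδ₁, hγ]), D.φ_self]
    exact Category.id_comp j)
  -- associativity
  let ρ := pullback.fst (π₁ ≫ p) p
  let π₂ := pullback.snd (π₁ ≫ p) p
  have hρ : ρ ≫ π₁ ≫ p = π₂ ≫ p := pullback.condition
  let e₂ := pullback.fst j₁ ρ
  let j₂ := pullback.snd j₁ ρ
  have : IsIso j₂.appTop := isIso_appTop_snd j₁ ρ
  have he₂ : e₂ ≫ j₁ = j₂ ≫ ρ := pullback.condition
  obtain ⟨ε, hε₀, hε₁⟩ : ∃ ε : pullback (π₁ ≫ p) p ⟶ pullback (γb ≫ p) p,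
      ε ≫ π₀ = ρ ≫ σ ∧ ε ≫ π₁ = π₂ :=
    ⟨pullback.lift (ρ ≫ σ) π₂ (by rw [Category.assoc, reassoc_of% hσγ, hρ]),
      pullback.lift_fst _ _ _, pullback.lift_snd _ _ _⟩
  obtain ⟨ε', hε'₀, hε'₁⟩ : ∃ ε : pullback (π₁ ≫ p) p ⟶ pullback (γb ≫ p) p,
      ε ≫ π₀ = ρ ≫ π₀ ∧ ε ≫ π₁ = π₂ :=
    ⟨pullback.lift (ρ ≫ π₀) π₂ (by rw [Category.assoc, hπ, hρ]),
      pullback.lift_fst _ _ _, pullback.lift_snd _ _ _⟩
  have hassoc : ε ≫ σ = ε' ≫ σ := ext_of_isIso_appTop j₂ (by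
    have h01 : (e₂ ≫ e₁ ≫ γ) ≫ p = (e₂ ≫ j₁ ≫ π₁) ≫ p := by
      simp only [Category.assoc] at hx ⊢
      rw [hx]
    have h12 : (e₂ ≫ j₁ ≫ π₁) ≫ p = (j₂ ≫ π₂) ≫ p := by
      simp only [Category.assoc]
      rw [reassoc_of% he₂, hρ]
    let v : Desc.Lifts (D.obj ⟨⟩) (e₂ ≫ e₁ ≫ γ) := ⟨e₂ ≫ e₁, by rw [hγ0, Category.assoc]⟩
    rw [← Category.assoc, ← Category.assoc,
      ← key (e₂ ≫ e₁ ≫ γ) (j₂ ≫ π₂) (h01.trans h12) v (j₂ ≫ ε') (by
        rw [Category.assoc, hε'₀]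
        show _ = (e₂ ≫ e₁) ≫ j
        rw [Category.assoc, he₁, reassoc_of% he₂])
        (by rw [Category.assoc, hε'₁]),
      ← key _ (j₂ ≫ π₂) h12 (D.φ _ _ h01 v) (j₂ ≫ ε) (by
        rw [Category.assoc, hε₀, D.φ_natural e₂ (e₁ ≫ γ) (j₁ ≫ π₁) hx _ _ rfl rfl h01 v₁ v rfl,
          ← ht₁, Category.assoc, ← hσ, reassoc_of% he₂])
        (by rw [Category.assoc, hε₁]),
      D.φ_comp])
  -- the translation of points of the hull
  let tr : ∀ ⦃T : Scheme.{u}⦄ (x₀ x₁ : T ⟶ X), x₀ ≫ p = x₁ ≫ p →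
      Desc.Lifts (Over.mk γb) x₀ → Desc.Lifts (Over.mk γb) x₁ := fun T x₀ x₁ h w =>
    ⟨pullback.lift w.1 x₁ (by
      rw [← Category.assoc, show w.1 ≫ γb = x₀ from w.2]; exact h) ≫ σ,
      by show (_ ≫ σ) ≫ γb = x₁; rw [Category.assoc, hσγ]; exact pullback.lift_snd _ _ _⟩
  have tr_eq : ∀ {T : Scheme.{u}} (x₀ x₁ : T ⟶ X) (h : x₀ ≫ p = x₁ ≫ p)
      (w : Desc.Lifts (Over.mk γb) x₀) (c : T ⟶ pullback (γb ≫ p) p),
      c ≫ π₀ = w.1 → c ≫ π₁ = x₁ → (tr x₀ x₁ h w).1 = c ≫ σ := fun x₀ x₁ h w c hc₀ hc₁ => by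
    refine congrArg (· ≫ σ) (pullback.hom_ext ?_ ?_)
    · rw [pullback.lift_fst]; exact hc₀.symm
    · rw [pullback.lift_snd]; exact hc₁.symm
  have tr_self : ∀ ⦃T : Scheme.{u}⦄ (x : T ⟶ X) (w : Desc.Lifts (Over.mk γb) x),
      tr x x rfl w = w := fun T x w => Subtype.ext (by
    rw [tr_eq x x rfl w (w.1 ≫ δ) (by rw [Category.assoc, hδ₀]; exact Category.comp_id w.1)
      (by rw [Category.assoc, hδ₁]; exact w.2), Category.assoc, hδ]
    exact Category.comp_id w.1)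
  have tr_comp : ∀ ⦃T : Scheme.{u}⦄ (x₀ x₁ x₂ : T ⟶ X) (h₀₁ : x₀ ≫ p = x₁ ≫ p)
      (h₁₂ : x₁ ≫ p = x₂ ≫ p) (w : Desc.Lifts (Over.mk γb) x₀),
      tr x₁ x₂ h₁₂ (tr x₀ x₁ h₀₁ w) = tr x₀ x₂ (h₀₁.trans h₁₂) w := fun T x₀ x₁ x₂ h₀₁ h₁₂ w => by
    obtain ⟨c, hc₀, hc₁⟩ : ∃ c : T ⟶ pullback (γb ≫ p) p, c ≫ π₀ = w.1 ∧ c ≫ π₁ = x₁ :=
      ⟨pullback.lift w.1 x₁ (by rw [← Category.assoc, show w.1 ≫ γb = x₀ from w.2]; exact h₀₁),
        pullback.lift_fst _ _ _, pullback.lift_snd _ _ _⟩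
    obtain ⟨c₂, hc₂₀, hc₂₁⟩ : ∃ c₂ : T ⟶ pullback (π₁ ≫ p) p, c₂ ≫ ρ = c ∧ c₂ ≫ π₂ = x₂ :=
      ⟨pullback.lift c x₂ (by rw [← Category.assoc, hc₁]; exact h₁₂),
        pullback.lift_fst _ _ _, pullback.lift_snd _ _ _⟩
    refine Subtype.ext ?_
    rw [tr_eq x₁ x₂ h₁₂ _ (c₂ ≫ ε) (by
        rw [Category.assoc, hε₀, tr_eq x₀ x₁ h₀₁ w c hc₀ hc₁, reassoc_of% hc₂₀])
        (by rw [Category.assoc, hε₁, hc₂₁]),
      tr_eq x₀ x₂ (h₀₁.trans h₁₂) w (c₂ ≫ ε') (by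
        rw [Category.assoc, hε'₀, reassoc_of% hc₂₀, hc₀])
        (by rw [Category.assoc, hε'₁, hc₂₁]), Category.assoc, Category.assoc, hassoc]
  let Db : Desc.SchDDFam (fun _ : PUnit.{u + 1} => p) :=
    { obj := fun _ => Over.mk γb
      φ := fun T _ _ x₀ x₁ h =>
        { toFun := tr x₀ x₁ h
          invFun := tr x₁ x₀ h.symm
          left_inv := fun w => (tr_comp x₀ x₁ x₀ h h.symm w).trans (tr_self x₀ w)
          right_inv := fun w => (tr_comp x₁ x₀ x₁ h.symm h w).trans (tr_self x₁ w) }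
      φ_natural := fun T T' g _ _ x₀ x₁ h y₀ y₁ _ hy₁ h' w w' hw => by
        obtain ⟨c, hc₀, hc₁⟩ : ∃ c : T ⟶ pullback (γb ≫ p) p, c ≫ π₀ = w.1 ∧ c ≫ π₁ = x₁ :=
          ⟨pullback.lift w.1 x₁ (by rw [← Category.assoc, show w.1 ≫ γb = x₀ from w.2]; exact h),
            pullback.lift_fst _ _ _, pullback.lift_snd _ _ _⟩
        show (tr y₀ y₁ h' w').1 = g ≫ (tr x₀ x₁ h w).1
        rw [tr_eq x₀ x₁ h w c hc₀ hc₁, tr_eq y₀ y₁ h' w' (g ≫ c)
          (by rw [Category.assoc, hc₀]; exact hw.symm) (by rw [Category.assoc, hc₁, hy₁]),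
          Category.assoc]
      φ_self := fun T _ x w => tr_self x w
      φ_comp := fun T _ _ _ x₀ x₁ x₂ h₀₁ h₁₂ w => tr_comp x₀ x₁ x₂ h₀₁ h₁₂ w }
  let J : D ⟶ Db :=
    { hom := fun _ => Over.homMk j (hγ.trans hγ0)
      comm := fun T _ _ x₀ x₁ h v w hw => by
        obtain ⟨c, hc₀, hc₁⟩ : ∃ c : T ⟶ pullback (γb ≫ p) p, c ≫ π₀ = w.1 ∧ c ≫ π₁ = x₁ :=
          ⟨pullback.lift w.1 x₁ (by rw [← Category.assoc, show w.1 ≫ γb = x₀ from w.2]; exact h),
            pullback.lift_fst _ _ _, pullback.lift_snd _ _ _⟩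
        show (tr x₀ x₁ h w).1 = _ ≫ j
        rw [tr_eq x₀ x₁ h w c hc₀ hc₁]
        exact (key x₀ x₁ h v c (hc₀.trans hw) hc₁).symm }
  have : IsAffineHom (Db.obj ⟨⟩).hom := inferInstanceAs (IsAffineHom γb)
  exact isEffective_of_openSub (single_mem_fpqc p) J
    (fun _ => inferInstanceAs (IsOpenImmersion V.toSpecΓ)) (isEffective_affine_single p Db)

end hull

/-- Coproducts of quasi-affine morphisms are quasi-affine. -/
theorem isQuasiAffine_sigmaMap {κ : Type u} {Y V : κ → Scheme.{u}} (q : ∀ j, Y j ⟶ V j)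
    (h : ∀ j, Mor2.IsQuasiAffine (q j)) : Mor2.IsQuasiAffine (Limits.Sigma.map q) := by
  have : QuasiCompact (Limits.Sigma.map q) := by
    refine (IsZariskiLocalAtTarget.iff_of_openCover (P := @QuasiCompact) (sigmaOpenCover V)).2
      fun (j : κ) => ?_
    show QuasiCompact (pullback.snd (Limits.Sigma.map q) (Sigma.ι V j))
    rw [← (isPullback_sigmaMap q j).isoPullback_inv_snd]
    have := (h j).1
    infer_instance
  refine Descend.isQuasiAffine_of_cover (Limits.Sigma.map q)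
    (fun x : Σ j, {U : (V j).Opens // IsAffineOpen U} => Sigma.ι V x.1 ''ᵁ x.2.1) (fun y => ?_) ?_
  · obtain ⟨(j : κ), y, rfl⟩ := Scheme.Cover.exists_eq (sigmaOpenCover V) y
    obtain ⟨U, hU, hy, -⟩ :=
      exists_isAffineOpen_mem_and_subset (X := V j) (x := y) (U := ⊤) trivial
    exact ⟨⟨j, U, hU⟩, y, hy, rfl⟩
  · rintro ⟨j, U, hU⟩
    have := (h j).2 U hU
    show (Limits.Sigma.map q ⁻¹ᵁ (Sigma.ι V j ''ᵁ U)).toScheme.IsQuasiAffine
    rw [← IsOpenImmersion.image_preimage_eq_preimage_image_of_isPullback (isPullback_sigmaMap q j).flip U]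
    exact QA11.isQuasiAffine_of_iso ((Sigma.ι Y j).isoImage (q j ⁻¹ᵁ U)).inv

/-- fpqc descent data with quasi-affine structure morphisms are effective. -/
theorem isEffective_of_isQuasiAffine (hf : Presieve.ofArrows X f ∈ Scheme.fpqcPrecoverage S)
    (hD : ∀ i, Mor2.IsQuasiAffine (D.obj i).hom) : D.IsEffective := by
  let P : MorphismProperty Scheme.{u} := fun _ _ q => Mor2.IsQuasiAffine q
  have : P.RespectsIso := MorphismProperty.RespectsIso.mk _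
    (fun e q hq => QA11.comp (QA11.of_isEmbedding e.hom e.hom.isOpenEmbedding.isEmbedding) hq)
    (fun e q hq => QA11.comp hq (QA11.of_isEmbedding e.hom e.hom.isOpenEmbedding.isEmbedding))
  have : P.IsStableUnderBaseChange := MorphismProperty.IsStableUnderBaseChange.mk'
    fun _ _ _ q g _ hg => by
      rw [← pullbackSymmetry_hom_comp_snd]
      exact (P.cancel_left_of_respectsIso _ _).2 (QA11.baseChange hg q)
  refine isEffective_of_affine_case hf P (fun _ _ _ _ q h => isQuasiAffine_sigmaMap q h) ?_ hD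
  intro X' S' p _ _ _ _ E hE
  have : (⊤ : (E.obj ⟨⟩).left.Opens).toScheme.IsQuasiAffine := hE.2 ⊤ (isAffineOpen_top X')
  have : (E.obj ⟨⟩).left.IsQuasiAffine := QA11.isQuasiAffine_of_iso (E.obj ⟨⟩).left.topIso.inv
  exact isEffective_quasiAffine_single p E

end Groth.Agent.SchDesc12
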