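import Groth.Agent.Lib.SchDesc12.Sec
import Groth.Agent.Lib.GrpQuot.SubDescFam
import Mathlib.AlgebraicGeometry.Sites.Representability

/-!
# Effectivity from effective open pieces

A chart of a descent datum is a stable family of open subschemes with a scheme over the base
descending it. A datum covered by charts is effective.
-/

universe u

open CategoryTheory CategoryTheory.Limits AlgebraicGeometry Opposite TopologicalSpace

set_option backward.isDefEq.respectTransparency.types false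

namespace Groth.Agent.SchDesc12

variable {S : Scheme.{u}} {ι : Type u} {X : ι → Scheme.{u}} {f : ∀ i, X i ⟶ S}

/-- An effective stable open piece of a descent datum. -/
structure Chart (D : Desc.SchDDFam f) where
  /-- the open pieces -/
  W : ∀ i, (D.obj i).left.Opens
  /-- the descended scheme -/
  U : Scheme.{u}
  /-- its structure morphism -/
  π : U ⟶ S
  /-- the projections -/
  q : ∀ i, (W i).toScheme ⟶ U
  sq : ∀ i, IsPullback (q i) ((W i).ι ≫ (D.obj i).hom) π (f i)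
  stable : ∀ ⦃T : Scheme.{u}⦄ ⦃i j : ι⦄ (x₀ : T ⟶ X i) (x₁ : T ⟶ X j) (h : x₀ ≫ f i = x₁ ≫ f j)
    (v : Desc.Lifts (D.obj i) x₀) (v₀ : T ⟶ (W i).toScheme), v₀ ≫ (W i).ι = v.1 →
    ∃ v₁ : T ⟶ (W j).toScheme, v₁ ≫ (W j).ι = (D.φ x₀ x₁ h v).1 ∧ v₁ ≫ q j = v₀ ≫ q i

/-- The presheaf of points of a descent datum is a Zariski sheaf. -/
theorem isSheaf_presheaf (D : Desc.SchDDFam f) :
    Presheaf.IsSheaf Scheme.zariskiTopology (presheaf D) := by
  rw [isSheaf_iff_isSheaf_of_type, Precoverage.isSheaf_toGrothendieck_iff_of_isStableUnderBaseChange]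
  intro T R hR
  obtain ⟨(𝒰 : Scheme.OpenCover T), rfl⟩ := Scheme.exists_cover_of_mem_pretopology hR
  refine (Presieve.isSheafFor_arrows_iff _ _).2 fun x hx => ?_
  let p : ∀ k, Pt D (𝒰.X k) := x
  have hp : ∀ {T' : Scheme.{u}} (k l : 𝒰.I₀) (a : T' ⟶ 𝒰.X k) (b : T' ⟶ 𝒰.X l),
      a ≫ 𝒰.f k = b ≫ 𝒰.f l →
      (⟨a ≫ (p k).1, (p k).2.pull a (t' := a ≫ (p k).1) rfl⟩ : Pt D T') =
        ⟨b ≫ (p l).1, (p l).2.pull b (t' := b ≫ (p l).1) rfl⟩ := fun k l a b hab => hx k l _ a b hab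
  let t : T ⟶ S := 𝒰.glueMorphisms (fun k => (p k).1) fun k l =>
    congrArg Sigma.fst (hp k l _ _ pullback.condition)
  have ht : ∀ k, 𝒰.f k ≫ t = (p k).1 := fun k => 𝒰.ι_glueMorphisms _ _ k
  -- the sections glue on the base changes
  have hev : ∀ {T' : Scheme.{u}} {i : ι} (k l : 𝒰.I₀) (a : T' ⟶ 𝒰.X k) (b : T' ⟶ 𝒰.X l)
      (_ : a ≫ 𝒰.f k = b ≫ 𝒰.f l) (y : T' ⟶ X i) (e₁ : a ≫ (p k).1 = y ≫ f i)
      (e₂ : b ≫ (p l).1 = y ≫ f i),
      ((p k).2.eval a y e₁).1 = ((p l).2.eval b y e₂).1 := fun {T' i} k l a b hab y e₁ e₂ => by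
    have h := Pt.eval_congr (hp k l a b hab) (𝟙 T') y (show 𝟙 T' ≫ a ≫ (p k).1 = y ≫ f i by
      rw [Category.id_comp, e₁])
    refine Eq.trans (Eq.trans ?_ h) ?_
    · refine Eq.trans ?_ (congrArg Subtype.val (Sec.eval_pull _ _ rfl _ _ _)).symm
      exact (((p k).2.eval_natural (𝟙 T') a y e₁ _ _ rfl (Category.id_comp _) _).trans
        (Category.id_comp _)).symm
    · refine (congrArg Subtype.val (Sec.eval_pull _ _ rfl _ _ _)).trans ?_
      exact ((p l).2.eval_natural (𝟙 T') b y e₂ _ _ rfl (Category.id_comp _) _).trans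
        (Category.id_comp _)
  let 𝒱 : ∀ i, (pullback t (f i)).OpenCover := fun i =>
    Precoverage.ZeroHypercover.pullback₁ (pullback.fst t (f i)) 𝒰
  have e𝒱 : ∀ i k, (pullback.snd (pullback.fst t (f i)) (𝒰.f k)) ≫ (p k).1 =
      (pullback.fst (pullback.fst t (f i)) (𝒰.f k) ≫ pullback.snd t (f i)) ≫ f i := fun i k => by
    rw [← ht, ← pullback.condition_assoc, Category.assoc, ← pullback.condition (f := t)]
  let g : ∀ i k, (𝒱 i).X k ⟶ (D.obj i).left := fun i k =>
    ((p k).2.eval (pullback.snd (pullback.fst t (f i)) (𝒰.f k))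
      (pullback.fst (pullback.fst t (f i)) (𝒰.f k) ≫ pullback.snd t (f i)) (e𝒱 i k)).1
  have glueEq : ∀ {Z : Scheme.{u}} (i : ι) (k l : 𝒰.I₀)
      (u : Z ⟶ pullback (pullback.fst t (f i)) (𝒰.f k))
      (u' : Z ⟶ pullback (pullback.fst t (f i)) (𝒰.f l)),
      u ≫ pullback.fst _ _ = u' ≫ pullback.fst _ _ →
      u ≫ ((p k).2.eval (pullback.snd (pullback.fst t (f i)) (𝒰.f k))
        (pullback.fst (pullback.fst t (f i)) (𝒰.f k) ≫ pullback.snd t (f i)) (e𝒱 i k)).1 =
      u' ≫ ((p l).2.eval (pullback.snd (pullback.fst t (f i)) (𝒰.f l))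
        (pullback.fst (pullback.fst t (f i)) (𝒰.f l) ≫ pullback.snd t (f i)) (e𝒱 i l)).1 := by
    intro Z i k l u u' hu
    have e₁ : (u ≫ pullback.snd _ (𝒰.f k)) ≫ (p k).1 =
        (u ≫ pullback.fst _ (𝒰.f k) ≫ pullback.snd t (f i)) ≫ f i := by
      rw [Category.assoc, e𝒱, ← Category.assoc]
    have e₂ : (u' ≫ pullback.snd _ (𝒰.f l)) ≫ (p l).1 =
        (u ≫ pullback.fst _ (𝒰.f k) ≫ pullback.snd t (f i)) ≫ f i := by
      rw [Category.assoc, e𝒱, ← Category.assoc u, hu, ← Category.assoc, ← Category.assoc]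
    refine ((p k).2.eval_natural u _ _ (e𝒱 i k) _ _ rfl rfl e₁).symm.trans ?_
    refine (hev k l _ _ ?_ _ e₁ e₂).trans ((p l).2.eval_natural u' _ _ (e𝒱 i l) _ _ rfl ?_ e₂)
    · rw [Category.assoc, Category.assoc, ← pullback.condition, ← pullback.condition,
        ← Category.assoc, hu, Category.assoc]
    · rw [← Category.assoc, ← hu, Category.assoc]
  let val : ∀ i, pullback t (f i) ⟶ (D.obj i).left := fun i => (𝒱 i).glueMorphisms (g i)
    fun k l => glueEq i k l _ _ pullback.condition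
  have hval : ∀ i k, (𝒱 i).f k ≫ val i = g i k := fun i k => (𝒱 i).ι_glueMorphisms _ _ k
  have hover : ∀ i, val i ≫ (D.obj i).hom = pullback.snd t (f i) := fun i => (𝒱 i).hom_ext _ _
    fun k => by
      rw [← Category.assoc, hval]
      exact ((p k).2.eval _ _ (e𝒱 i k)).2
  -- the glued values restrict to the given ones
  have key : ∀ {T' : Scheme.{u}} (i : ι) (k : 𝒰.I₀) (b : T' ⟶ 𝒰.X k) (y : T' ⟶ X i)
      (a : T' ⟶ T) (ha : b ≫ 𝒰.f k = a) (e : a ≫ t = y ≫ f i) (e' : b ≫ (p k).1 = y ≫ f i),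
      pullback.lift a y e ≫ val i = ((p k).2.eval b y e').1 := by
    intro T' i k b y a ha e e'
    have hz : pullback.lift (pullback.lift a y e) b ((pullback.lift_fst _ _ _).trans ha.symm) ≫
        (𝒱 i).f k = pullback.lift a y e := pullback.lift_fst _ _ _
    rw [← hz, Category.assoc]
    refine (congrArg (_ ≫ ·) (hval i k)).trans ?_
    exact ((p k).2.eval_natural _ _ _ (e𝒱 i k) b y (pullback.lift_snd _ _ _)
      (by rw [← Category.assoc, pullback.lift_fst, pullback.lift_snd]) e').symm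
  let σ : Sec D t :=
    { val := val
      over_ := hover
      compat := fun T' i j a y₀ y₁ h₀ h₁ => by
        refine Scheme.Cover.hom_ext (Precoverage.ZeroHypercover.pullback₁ a 𝒰) _ _ fun k => ?_
        let c := pullback.fst a (𝒰.f k)
        let b := pullback.snd a (𝒰.f k)
        have hcb : b ≫ 𝒰.f k = c ≫ a := pullback.condition.symm
        have e₀ : b ≫ (p k).1 = (c ≫ y₀) ≫ f i := by
          rw [← ht, ← Category.assoc, hcb, Category.assoc, Category.assoc, h₀]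
        have e₁ : b ≫ (p k).1 = (c ≫ y₁) ≫ f j := by
          rw [← ht, ← Category.assoc, hcb, Category.assoc, Category.assoc, h₁]
        have hc : ∀ (l : ι) (y : T' ⟶ X l) (h : a ≫ t = y ≫ f l) (h' : (c ≫ a) ≫ t = (c ≫ y) ≫ f l),
            c ≫ pullback.lift a y h = pullback.lift (c ≫ a) (c ≫ y) h' := fun l y h h' => by
          apply pullback.hom_ext
          · rw [Category.assoc, pullback.lift_fst, pullback.lift_fst]
          · rw [Category.assoc, pullback.lift_snd, pullback.lift_snd]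
        have hv : ∀ (l : ι) (y : T' ⟶ X l) (h : a ≫ t = y ≫ f l) (e : b ≫ (p k).1 = (c ≫ y) ≫ f l),
            c ≫ pullback.lift a y h ≫ val l = ((p k).2.eval b (c ≫ y) e).1 := fun l y h e => by
          rw [← Category.assoc, hc l y h (by rw [Category.assoc, Category.assoc, h]),
            key l k b _ _ hcb _ e]
        show c ≫ _ = c ≫ _
        refine Eq.trans ?_ (hv j y₁ h₁ e₁).symm
        rw [← (p k).2.eval_compat b (c ≫ y₀) (c ≫ y₁) e₀ e₁]
        exact (D.φ_natural c y₀ y₁ _ _ _ rfl rfl _ _ _ (hv i y₀ h₀ e₀).symm).symm }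
  have hσ : ∀ {T' : Scheme.{u}} (i : ι) (k : 𝒰.I₀) (b : T' ⟶ 𝒰.X k) (y : T' ⟶ X i)
      (e : (b ≫ 𝒰.f k) ≫ t = y ≫ f i) (e' : b ≫ (p k).1 = y ≫ f i),
      (σ.eval (b ≫ 𝒰.f k) y e).1 = ((p k).2.eval b y e').1 := fun i k b y e e' =>
    key i k b y _ rfl e e'
  refine ⟨(⟨t, σ⟩ : Pt D T), fun k => ?_, fun P hP => ?_⟩
  · show (⟨_, σ.pull (𝒰.f k) rfl⟩ : Pt D (𝒰.X k)) = p k
    refine Pt.ext' (ht k) fun T' i a y e => ?_
    exact (congrArg Subtype.val (Sec.eval_pull _ _ rfl _ _ _)).trans (hσ i k a y _ _)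
  · obtain ⟨t', σ'⟩ := (P : Pt D T)
    have hP' : ∀ k, (⟨𝒰.f k ≫ t', σ'.pull (𝒰.f k) (t' := 𝒰.f k ≫ t') rfl⟩ : Pt D (𝒰.X k)) = p k :=
      hP
    refine Pt.ext' (𝒰.hom_ext _ _ fun k => ?_) fun T' i a y e => ?_
    · show 𝒰.f k ≫ t' = 𝒰.f k ≫ t
      rw [ht, ← hP' k]
    refine Scheme.Cover.hom_ext (Precoverage.ZeroHypercover.pullback₁ a 𝒰) _ _ fun k => ?_
    let c := pullback.fst a (𝒰.f k)
    let b := pullback.snd a (𝒰.f k)
    have hcb : b ≫ 𝒰.f k = c ≫ a := pullback.condition.symm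
    have e' : (b ≫ 𝒰.f k) ≫ t' = (c ≫ y) ≫ f i := by
      rw [hcb, Category.assoc, Category.assoc]; exact congrArg (c ≫ ·) e
    have e'' : b ≫ (p k).1 = (c ≫ y) ≫ f i := by
      rw [← e', Category.assoc]; exact congrArg (b ≫ ·) (congrArg Sigma.fst (hP' k)).symm
    show c ≫ (σ'.eval a y e).1 = c ≫ (σ.eval a y _).1
    refine (σ'.eval_natural c a y e (b ≫ 𝒰.f k) _ hcb.symm rfl e').symm.trans ?_
    refine Eq.trans ?_ (σ.eval_natural c a y _ (b ≫ 𝒰.f k) _ hcb.symm rfl ?_)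
    · refine Eq.trans ?_ (hσ i k b _ _ e'').symm
      refine Eq.trans ?_ ((Pt.eval_congr (hP' k) b (c ≫ y) (by rw [← Category.assoc, e'])))
      exact (congrArg Subtype.val (Sec.eval_pull _ _ rfl _ _ _)).symm
    · rw [Category.assoc, ht, e'']

namespace Chart

variable {D : Desc.SchDDFam f} (C : Chart D)

/-- The section over a point of the chart. -/
noncomputable def sec {T : Scheme.{u}} (b : T ⟶ C.U) : Sec D (b ≫ C.π) :=
  Sec.mk' (fun T' i a x h => ⟨(C.sq i).lift (a ≫ b) x ((Category.assoc _ _ _).trans h) ≫ (C.W i).ι,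
      by rw [Category.assoc, (C.sq i).lift_snd]⟩)
    (fun T' T'' i g a x h h' => by
      show (C.sq i).lift _ _ _ ≫ _ = g ≫ (C.sq i).lift _ _ _ ≫ _
      rw [← Category.assoc g]
      congr 1
      apply (C.sq i).hom_ext <;> simp)
    (fun T' i j a x₀ x₁ h₀ h₁ => Subtype.ext (by
      obtain ⟨v₁, e₁, e₂⟩ := C.stable x₀ x₁ (h₀.symm.trans h₁)
        ⟨(C.sq i).lift (a ≫ b) x₀ ((Category.assoc _ _ _).trans h₀) ≫ (C.W i).ι,
          by rw [Category.assoc, (C.sq i).lift_snd]⟩ _ rfl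
      refine e₁.symm.trans (congrArg (· ≫ (C.W j).ι) ?_)
      apply (C.sq j).hom_ext
      · rw [e₂, (C.sq i).lift_fst, (C.sq j).lift_fst]
      · rw [(C.sq j).lift_snd, ← Category.assoc, e₁]
        exact (D.φ x₀ x₁ _ _).2))

theorem eval_sec {T T' : Scheme.{u}} (b : T ⟶ C.U) {i : ι} (a : T' ⟶ T) (x : T' ⟶ X i)
    (h : a ≫ b ≫ C.π = x ≫ f i) :
    ((C.sec b).eval a x h).1 =
      (C.sq i).lift (a ≫ b) x ((Category.assoc _ _ _).trans h) ≫ (C.W i).ι :=
  congrArg Subtype.val (Sec.eval_mk' _ _ _ _ _ _ _)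

/-- The chart maps to the points of the descent datum. -/
noncomputable def toPresheaf : yoneda.obj C.U ⟶ presheaf D where
  app T := TypeCat.ofHom fun b => (⟨b ≫ C.π, C.sec b⟩ : Pt D T.unop)
  naturality {T T'} g := by
    apply ConcreteCategory.hom_ext
    intro b
    show (⟨_, _⟩ : Pt D T'.unop) = ⟨_, _⟩
    refine Pt.ext' (Category.assoc _ _ _) fun T₀ i a x e => ?_
    refine (C.eval_sec _ a x e).trans ?_
    refine Eq.trans ?_ (congrArg Subtype.val (Sec.eval_pull _ _ rfl _ _ _)).symm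
    refine Eq.trans ?_ (C.eval_sec _ _ x _).symm
    congr 1

theorem range_ι_mem {T : Scheme.{u}} {i j : ι} (x₀ : T ⟶ X i) (x₁ : T ⟶ X j)
    (h : x₀ ≫ f i = x₁ ≫ f j) (v : Desc.Lifts (D.obj i) x₀) (z : T) (hz : v.1 z ∈ C.W i) :
    (D.φ x₀ x₁ h v).1 z ∈ C.W j := by
  let O : T.Opens := v.1 ⁻¹ᵁ C.W i
  have hle : O ≤ v.1 ⁻¹ᵁ C.W i := le_rfl
  let v₀ := v.1.resLE (C.W i) O hle
  obtain ⟨v₁, e₁, -⟩ := C.stable (O.ι ≫ x₀) (O.ι ≫ x₁) (by rw [Category.assoc, h, Category.assoc])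
    ⟨O.ι ≫ v.1, by rw [Category.assoc, v.2]⟩ v₀ (Scheme.Hom.resLE_comp_ι _ _)
  rw [D.φ_natural O.ι x₀ x₁ h _ _ rfl rfl _ v _ rfl] at e₁
  have := congrArg (fun m => m ⟨z, hz⟩) e₁
  simp only [Scheme.Hom.comp_apply] at this
  exact this ▸ (v₁ ⟨z, hz⟩).2

/-- The locus where a point of the descent datum lies in a chart. -/
theorem exists_locus (hf : Presieve.ofArrows X f ∈ Scheme.fpqcPrecoverage S) {T : Scheme.{u}}
    (P : Pt D T) :
    ∃ O : T.Opens, ∀ i, pullback.fst P.1 (f i) ⁻¹' (O : Set T) = P.2.val i ⁻¹' (C.W i : Set _) := by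
  obtain ⟨h1, h2⟩ := GrpQuot.SubDesc.flat_and_isQCCovering f hf
  obtain ⟨h3, h4⟩ := GrpQuot.SubDesc.pullback_family f h1 h2 P.1
  refine GrpQuot.SubDesc.exists_open_descend _ h3 h4 _ (fun i => (C.W i).isOpen.preimage
    (P.2.val i).continuous) fun i j z hz => ?_
  let a := pullback.fst (pullback.fst P.1 (f j)) (pullback.fst P.1 (f i)) ≫ pullback.fst P.1 (f j)
  let y₀ := pullback.fst (pullback.fst P.1 (f j)) (pullback.fst P.1 (f i)) ≫ pullback.snd P.1 (f j)
  let y₁ := pullback.snd (pullback.fst P.1 (f j)) (pullback.fst P.1 (f i)) ≫ pullback.snd P.1 (f i)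
  have h₀ : a ≫ P.1 = y₀ ≫ f j := by
    simp only [a, y₀]
    rw [Category.assoc, pullback.condition (f := P.1), ← Category.assoc]
  have h₁ : a ≫ P.1 = y₁ ≫ f i := by
    simp only [a, y₁]
    rw [pullback.condition (f := pullback.fst P.1 (f j)), Category.assoc, pullback.condition,
      Category.assoc]
  have l₀ : pullback.lift a y₀ h₀ = pullback.fst _ _ := by
    apply pullback.hom_ext
    · rw [pullback.lift_fst]
    · rw [pullback.lift_snd]
  have l₁ : pullback.lift a y₁ h₁ = pullback.snd _ _ := by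
    apply pullback.hom_ext
    · rw [pullback.lift_fst]; exact pullback.condition
    · rw [pullback.lift_snd]
  have e := P.2.compat a y₀ y₁ h₀ h₁
  have := C.range_ι_mem y₀ y₁ (h₀.symm.trans h₁)
    ⟨pullback.lift a y₀ h₀ ≫ P.2.val j, by rw [Category.assoc, P.2.over_, pullback.lift_snd]⟩ z (by
      show (pullback.lift a y₀ h₀ ≫ P.2.val j) z ∈ _
      rw [l₀, Scheme.Hom.comp_apply]; exact hz)
  rw [e, l₁, Scheme.Hom.comp_apply] at this
  exact this

/-- A point of the descent datum lying in a chart comes from the chart. -/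
theorem existsUnique_of_mem (hf : Presieve.ofArrows X f ∈ Scheme.fpqcPrecoverage S)
    {T : Scheme.{u}} (P : Pt D T)
    (hP : ∀ i z, P.2.val i z ∈ C.W i) :
    ∃ b : T ⟶ C.U, (⟨b ≫ C.π, C.sec b⟩ : Pt D T) = P ∧
      ∀ b', (⟨b' ≫ C.π, C.sec b'⟩ : Pt D T) = P → b' = b := by
  let E : ∀ i, pullback P.1 (f i) ⟶ (C.W i).toScheme := fun i =>
    IsOpenImmersion.lift (C.W i).ι (P.2.val i) (by
      rintro _ ⟨z, rfl⟩; rw [Scheme.Opens.range_ι]; exact hP i z)
  have hE : ∀ i, E i ≫ (C.W i).ι = P.2.val i := fun i => IsOpenImmersion.lift_fac _ _ _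
  have hcov : Presieve.ofArrows (fun i => pullback P.1 (f i)) (fun i => pullback.fst P.1 (f i)) ∈
      Scheme.fpqcPrecoverage T :=
    Precoverage.mem_coverings_of_isPullback f hf P.1 _ (fun i => pullback.snd P.1 (f i))
      fun i => IsPullback.of_hasPullback P.1 (f i)
  have hsheaf : ∀ W : Scheme.{u}, Presieve.IsSheafFor (yoneda.obj W)
      (Presieve.ofArrows (fun i => pullback P.1 (f i)) fun i => pullback.fst P.1 (f i)) := fun W =>
    (GrothendieckTopology.Subcanonical.isSheaf_of_isRepresentable (J := Scheme.fpqcTopology)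
      (yoneda.obj W)).isSheafFor _ (Precoverage.generate_mem_toGrothendieck hcov)
  obtain ⟨b, hb, -⟩ := (Presieve.isSheafFor_arrows_iff _ _).1 (hsheaf C.U) (fun i => E i ≫ C.q i)
    fun i j Z gi gj hg => by
      let a := gi ≫ pullback.fst P.1 (f i)
      have h₀ : a ≫ P.1 = (gi ≫ pullback.snd P.1 (f i)) ≫ f i := by
        simp [a, pullback.condition]
      have h₁ : a ≫ P.1 = (gj ≫ pullback.snd P.1 (f j)) ≫ f j := by
        simp [a, hg, pullback.condition]
      obtain ⟨v₁, e₁, e₂⟩ := C.stable _ _ (h₀.symm.trans h₁) ⟨gi ≫ P.2.val i, by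
        rw [Category.assoc, P.2.over_]⟩ (gi ≫ E i) (by rw [Category.assoc, hE])
      show gi ≫ E i ≫ C.q i = gj ≫ E j ≫ C.q j
      rw [← Category.assoc, ← e₂, ← Category.assoc gj]
      congr 1
      refine (cancel_mono (C.W j).ι).1 ?_
      rw [Category.assoc, hE]
      refine e₁.trans ?_
      refine Eq.trans ?_ ((P.2.compat a _ _ h₀ h₁).trans ?_)
      · refine congrArg (fun v => (D.φ _ _ _ v).1) (Subtype.ext (congrArg (· ≫ P.2.val i) ?_))
        apply pullback.hom_ext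
        · rw [pullback.lift_fst]
        · rw [pullback.lift_snd]
      · refine congrArg (· ≫ P.2.val j) ?_
        apply pullback.hom_ext
        · rw [pullback.lift_fst]; exact hg
        · rw [pullback.lift_snd]
  have hb' : ∀ i, pullback.fst P.1 (f i) ≫ b = E i ≫ C.q i := hb
  have hbπ : b ≫ C.π = P.1 := by
    refine ((Presieve.isSheafFor_arrows_iff _ _).1 (hsheaf S)
      (fun i => pullback.fst P.1 (f i) ≫ P.1) fun i j Z gi gj hg => ?_).unique (fun i => ?_)
      fun i => rfl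
    · show gi ≫ pullback.fst P.1 (f i) ≫ P.1 = gj ≫ pullback.fst P.1 (f j) ≫ P.1
      rw [← Category.assoc, hg, Category.assoc]
    · show pullback.fst P.1 (f i) ≫ b ≫ C.π = _
      rw [← Category.assoc, hb', Category.assoc, (C.sq i).w, Category.assoc, ← Category.assoc (E i),
        hE, ← Category.assoc, P.2.over_]
      exact pullback.condition.symm
  refine ⟨b, Pt.ext' hbπ fun T' i a x e => ?_, fun b' hb'' => ?_⟩
  · refine (C.eval_sec b a x e).trans ?_
    show _ = pullback.lift a x _ ≫ P.2.val i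
    refine Eq.trans ?_ (congrArg (_ ≫ ·) (hE i))
    refine Eq.trans ?_ (Category.assoc _ _ _)
    congr 1
    apply (C.sq i).hom_ext
    · rw [(C.sq i).lift_fst, Category.assoc, ← hb', ← Category.assoc, pullback.lift_fst]
    · rw [(C.sq i).lift_snd, Category.assoc, ← Category.assoc (E i), hE, P.2.over_,
        pullback.lift_snd]
  · refine ((Presieve.isSheafFor_arrows_iff _ _).1 (hsheaf C.U) (fun i => E i ≫ C.q i)
      (fun i j Z gi gj hg => ?_)).unique (fun i => ?_) hb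
    · show gi ≫ E i ≫ C.q i = gj ≫ E j ≫ C.q j
      rw [← hb', ← hb', ← Category.assoc, hg, Category.assoc]
    · show pullback.fst P.1 (f i) ≫ b' = E i ≫ C.q i
      have e : pullback.fst P.1 (f i) ≫ b' ≫ C.π = pullback.snd P.1 (f i) ≫ f i := by
        rw [show b' ≫ C.π = P.1 from congrArg Sigma.fst hb'']
        exact pullback.condition
      have := (C.eval_sec b' _ _ e).symm.trans (Pt.eval_congr hb'' _ _ e)
      rw [show E i = (C.sq i).lift (pullback.fst P.1 (f i) ≫ b') (pullback.snd P.1 (f i))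
        ((Category.assoc _ _ _).trans e) from (cancel_mono (C.W i).ι).1 (by
          rw [hE, this]; exact P.2.val_eq_eval i), (C.sq i).lift_fst]

theorem presheaf_toPresheaf (hf : Presieve.ofArrows X f ∈ Scheme.fpqcPrecoverage S) :
    IsOpenImmersion.presheaf C.toPresheaf := by
  refine MorphismProperty.relative.of_exists fun T g => ?_
  let P : Pt D T := yonedaEquiv g
  obtain ⟨O, hO⟩ := C.exists_locus hf P
  have hg : ∀ {T' : Scheme.{u}} (a : T' ⟶ T),
      g.app (op T') a = (⟨a ≫ P.1, P.2.pull a (t' := a ≫ P.1) rfl⟩ : Pt D T') := fun a => by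
    show _ = (presheaf D).map a.op (yonedaEquiv g)
    rw [yonedaEquiv_naturality]
    show _ = g.app _ (𝟙 _ ≫ a)
    rw [Category.id_comp]
  -- restrictions of `P` lying in the chart
  have hmem : ∀ {T' : Scheme.{u}} (a : T' ⟶ T),
      (∀ i z, (P.2.pull a (t' := a ≫ P.1) rfl).val i z ∈ C.W i) ↔ ∀ z, a z ∈ O := by
    intro T' a
    have hv : ∀ i, (P.2.pull a (t' := a ≫ P.1) rfl).val i =
        pullback.map (a ≫ P.1) (f i) P.1 (f i) a (𝟙 _) (𝟙 _) (by simp) (by simp) ≫ P.2.val i := by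
      intro i
      rw [Sec.val_eq_eval, Sec.eval_pull]
      show pullback.lift _ _ _ ≫ P.2.val i = _
      congr 1
    have key : ∀ i z, (P.2.pull a (t' := a ≫ P.1) rfl).val i z ∈ C.W i ↔
        a (pullback.fst (a ≫ P.1) (f i) z) ∈ O := fun i z => by
      rw [hv, Scheme.Hom.comp_apply]
      refine (Set.ext_iff.1 (hO i) _).symm.trans ?_
      rw [Set.mem_preimage, ← Scheme.Hom.comp_apply]
      erw [pullback.lift_fst]
      rfl
    refine ⟨fun h z => ?_, fun h i z => (key i z).2 (h _)⟩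
    obtain ⟨h1, h2⟩ := GrpQuot.SubDesc.flat_and_isQCCovering f hf
    obtain ⟨h3, h4⟩ := GrpQuot.SubDesc.pullback_family f h1 h2 (a ≫ P.1)
    obtain ⟨i, w, rfl⟩ := GrpQuot.SubDesc.exists_eq_apply _ h4 z
    exact (key i w).1 (h i w)
  obtain ⟨b, hb, -⟩ := C.existsUnique_of_mem hf ⟨O.ι ≫ P.1, P.2.pull O.ι (t' := O.ι ≫ P.1) rfl⟩
    ((hmem O.ι).2 fun z => z.2)
  have w : yoneda.map b ≫ C.toPresheaf = yoneda.map O.ι ≫ g := by
    apply yonedaEquiv.injective
    show (⟨(𝟙 _ ≫ b) ≫ C.π, C.sec (𝟙 _ ≫ b)⟩ : Pt D _) = g.app _ (𝟙 _ ≫ O.ι)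
    rw [Category.id_comp, Category.id_comp, hg]
    exact hb
  refine ⟨O.toScheme, yoneda.map b, O.ι, ⟨⟨w⟩, ⟨PullbackCone.IsLimit.mk w
    (fun s => { app := fun T' => TypeCat.ofHom fun x => IsOpenImmersion.lift O.ι (s.snd.app T' x) ?_
                naturality := ?_ }) ?_ ?_ ?_⟩⟩, inferInstance⟩
  · rintro _ ⟨z, rfl⟩
    rw [Scheme.Opens.range_ι]
    refine (hmem (s.snd.app T' x)).1 ?_ z
    have h := congrArg (fun η : s.pt ⟶ presheaf D => η.app T' x) s.condition
    have h' : (⟨_, C.sec (s.fst.app T' x)⟩ : Pt D T'.unop) = ⟨_, _⟩ := h.trans (hg _)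
    intro i w
    have e := congrArg Sigma.fst h'
    have E := Pt.eval_congr h'
      (pullback.fst (s.snd.app T' x ≫ P.1) (f i)) (pullback.snd (s.snd.app T' x ≫ P.1) (f i)) (by
      show _ ≫ _ ≫ C.π = _
      rw [show s.fst.app T' x ≫ C.π = _ from e]; exact pullback.condition)
    replace E := (C.eval_sec _ _ _ _).symm.trans E
    rw [show (P.2.pull (s.snd.app T' x) (t' := s.snd.app T' x ≫ P.1) rfl).val i = _ from
      (Sec.val_eq_eval _ i)]
    erw [← E, Scheme.Hom.comp_apply]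
    exact ((C.sq i).lift _ _ _ w).2
  · intro T' T'' m
    apply ConcreteCategory.hom_ext
    intro x
    show IsOpenImmersion.lift O.ι (s.snd.app T'' (s.pt.map m x)) _ =
      m.unop ≫ IsOpenImmersion.lift O.ι (s.snd.app T' x) _
    rw [← cancel_mono O.ι, Category.assoc, IsOpenImmersion.lift_fac, IsOpenImmersion.lift_fac]
    exact NatTrans.naturality_apply s.snd m x
  · intro s
    ext T' x
    show IsOpenImmersion.lift O.ι (s.snd.app T' x) _ ≫ b = s.fst.app T' x
    set l := IsOpenImmersion.lift O.ι (s.snd.app T' x) _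
    have hl : l ≫ O.ι = s.snd.app T' x := IsOpenImmersion.lift_fac _ _ _
    have h := congrArg (fun η : s.pt ⟶ presheaf D => η.app T' x) s.condition
    have h2 := congrArg (fun η : yoneda.obj O.toScheme ⟶ presheaf D => η.app T' l) w
    replace h : C.toPresheaf.app T' (l ≫ b) = C.toPresheaf.app T' (s.fst.app T' x) := by
      refine h2.trans ?_
      show g.app T' (l ≫ O.ι) = _
      rw [hl]
      exact h.symm
    have hm : ∀ i z, (C.toPresheaf.app T' (s.fst.app T' x) : Pt D T'.unop).2.val i z ∈ C.W i := by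
      intro i z
      show (C.sec (s.fst.app T' x)).val i z ∈ _
      rw [Sec.val_eq_eval, C.eval_sec, Scheme.Hom.comp_apply]
      exact ((C.sq i).lift _ _ _ z).2
    obtain ⟨c, -, hc⟩ := C.existsUnique_of_mem hf _ hm
    exact (hc _ h).trans (hc _ rfl).symm
  · intro s
    ext T' x
    exact IsOpenImmersion.lift_fac _ _ _
  · intro s m _ h₂
    ext T' x
    show m.app T' x = IsOpenImmersion.lift O.ι (s.snd.app T' x) _
    rw [← cancel_mono O.ι, IsOpenImmersion.lift_fac]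
    exact congrArg (fun η : s.pt ⟶ yoneda.obj T => η.app T' x) h₂

end Chart

/-- A descent datum covered by charts is effective. -/
theorem isEffective_of_charts (D : Desc.SchDDFam f)
    (hf : Presieve.ofArrows X f ∈ Scheme.fpqcPrecoverage S) {κ : Type u} (C : κ → Chart D)
    (hcov : ∀ i (v : (D.obj i).left), ∃ k, v ∈ (C k).W i) : D.IsEffective := by
  let F : Sheaf Scheme.zariskiTopology (Type u) := ⟨presheaf D, isSheaf_presheaf D⟩
  let η : ∀ k, yoneda.obj (C k).U ⟶ F.1 := fun k => (C k).toPresheaf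
  have : Presheaf.IsLocallySurjective Scheme.zariskiTopology (Sigma.desc η) := ⟨fun {T} s => by
    choose O hO using fun k => (C k).exists_locus hf (s : Pt D T)
    obtain ⟨h1, h2⟩ := GrpQuot.SubDesc.flat_and_isQCCovering f hf
    obtain ⟨h3, h4⟩ := GrpQuot.SubDesc.pullback_family f h1 h2 (s : Pt D T).1
    have htop : IsOpenCover O := by
      refine top_le_iff.1 fun z _ => ?_
      obtain ⟨i, w, rfl⟩ := GrpQuot.SubDesc.exists_eq_apply _ h4 z
      obtain ⟨k, hk⟩ := hcov i ((s : Pt D T).2.val i w)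
      exact Opens.mem_iSup.2 ⟨k, (Set.ext_iff.1 (hO k i) w).2 hk⟩
    refine GrothendieckTopology.superset_covering _ ?_
      (Scheme.openCoverOfIsOpenCover T O htop).mem_grothendieckTopology
    rw [Sieve.ofArrows, Sieve.generate_le_iff]
    rintro _ _ ⟨k⟩
    obtain ⟨fst, snd, sq⟩ : ∃ (b : (O k).toScheme ⟶ (C k).U),
        (⟨b ≫ (C k).π, (C k).sec b⟩ : Pt D (O k).toScheme) =
          (⟨(O k).ι ≫ (s : Pt D T).1, (s : Pt D T).2.pull (O k).ι rfl⟩ : Pt D (O k).toScheme) ∧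
        True := by
      obtain ⟨b, hb, -⟩ := (C k).existsUnique_of_mem hf
        ⟨(O k).ι ≫ (s : Pt D T).1, (s : Pt D T).2.pull (O k).ι (t' := (O k).ι ≫ (s : Pt D T).1) rfl⟩
        fun i z => by
          rw [Sec.val_eq_eval, Sec.eval_pull]
          show (pullback.lift _ _ _ ≫ (s : Pt D T).2.val i) z ∈ _
          rw [Scheme.Hom.comp_apply]
          refine (Set.ext_iff.1 (hO k i) _).1 ?_
          rw [Set.mem_preimage, ← Scheme.Hom.comp_apply, pullback.lift_fst, Scheme.Hom.comp_apply]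
          exact ((pullback.fst _ _ : _ ⟶ (O k).toScheme) z).2
      exact ⟨b, hb, trivial⟩
    refine ⟨(Sigma.ι (fun k => yoneda.obj (C k).U) k).app _ fst, ?_⟩
    rw [← NatTrans.comp_app_apply, Sigma.ι_desc]
    exact snd⟩
  exact isEffective_of_representable D
    (Scheme.LocalRepresentability.isRepresentable (F := F) (f := η) fun k =>
      (C k).presheaf_toPresheaf hf)

end Groth.Agent.SchDesc12
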