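import Groth.Agent.Lib.SchDesc12.Functor
import Groth.Agent.Lib.SchDesc12.Glue

/-!
# Pullback of descent data along an fpqc refinement is fully faithful
-/

universe u

open CategoryTheory CategoryTheory.Limits AlgebraicGeometry

set_option backward.isDefEq.respectTransparency.types false

namespace Groth.Agent.SchDesc12

variable {S : Scheme.{u}} {ι κ : Type u} {U : ι → Scheme.{u}} {V : κ → Scheme.{u}}
  {u : ∀ i, U i ⟶ S} {v : ∀ j, V j ⟶ S} {α : ι → κ} {g : ∀ i, U i ⟶ V (α i)}
  (w : ∀ i, g i ≫ v (α i) = u i ≫ 𝟙 S)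

/-- The members of the refinement above the member `j`. -/
abbrev fibFam (g : ∀ i, U i ⟶ V (α i)) (j : κ) (k : {i // α i = j}) : U k.1 ⟶ V j :=
  g k.1 ≫ eqToHom (congrArg V k.2)

section app

variable {D D' : Desc.SchDDFam v} (b : (Desc.pullDDFam w).obj D ⟶ (Desc.pullDDFam w).obj D')

/-- The value of a morphism of pulled back data at a point lifted to the refinement. -/
noncomputable def app {T : Scheme.{u}} (i : ι) (j : κ) (e : α i = j) (d : T ⟶ U i) (x : T ⟶ V j)
    (hd : d ≫ g i ≫ eqToHom (congrArg V e) = x) (z : Desc.Lifts (D.obj j) x) :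
    Desc.Lifts (D'.obj j) x := by
  subst e
  exact ⟨(pullPt w D' i d (b.push ((pullPt w D i d).symm
    ⟨z.1, z.2.trans (hd.symm.trans (by rw [eqToHom_refl, Category.comp_id]))⟩))).1, by
    rw [(pullPt w D' i d _).2, ← hd, eqToHom_refl, Category.comp_id]⟩

theorem app_φ {T : Scheme.{u}} (i i' : ι) (j j' : κ) (e : α i = j) (e' : α i' = j') (d : T ⟶ U i)
    (d' : T ⟶ U i') (x : T ⟶ V j) (x' : T ⟶ V j') (hd : d ≫ g i ≫ eqToHom (congrArg V e) = x)
    (hd' : d' ≫ g i' ≫ eqToHom (congrArg V e') = x') (h : x ≫ v j = x' ≫ v j')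
    (z : Desc.Lifts (D.obj j) x) :
    app w b i' j' e' d' x' hd' (D.φ x x' h z) = D'.φ x x' h (app w b i j e d x hd z) := by
  subst e e'
  obtain rfl : d ≫ g i = x := by rw [← hd, eqToHom_refl, Category.comp_id]
  obtain rfl : d' ≫ g i' = x' := by rw [← hd', eqToHom_refl, Category.comp_id]
  have hh : d ≫ u i = d' ≫ u i' := by
    have h₀ := w i; have h₁ := w i'
    simp only [Category.comp_id] at h₀ h₁
    rw [← h₀, ← h₁, ← Category.assoc, h, Category.assoc]
  apply Subtype.ext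
  show (pullPt w D' i' d' (b.push ((pullPt w D i' d').symm
    (D.φ (d ≫ g i) (d' ≫ g i') h z)))).1 = _
  have hz : (pullPt w D i' d').symm (D.φ (d ≫ g i) (d' ≫ g i') h z) =
      ((Desc.pullDDFam w).obj D).φ d d' hh ((pullPt w D i d).symm z) :=
    (pullPt w D i' d').injective (((pullPt w D i' d').apply_symm_apply _).trans
      ((congrArg (D.φ _ _ _) ((pullPt w D i d).apply_symm_apply z).symm).trans
        (pullPt_φ w D d d' hh _).symm))
  rw [hz, push_φ, pullPt_φ]
  rfl

theorem app_indep {T : Scheme.{u}} (i i' : ι) (j : κ) (e : α i = j) (e' : α i' = j) (d : T ⟶ U i)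
    (d' : T ⟶ U i') (x : T ⟶ V j) (hd : d ≫ g i ≫ eqToHom (congrArg V e) = x)
    (hd' : d' ≫ g i' ≫ eqToHom (congrArg V e') = x) (z : Desc.Lifts (D.obj j) x) :
    app w b i' j e' d' x hd' z = app w b i j e d x hd z := by
  have h := app_φ w b i i' j j e e' d d' x x hd hd' rfl z
  rwa [D.φ_self, D'.φ_self] at h

theorem app_natural {T T' : Scheme.{u}} (c : T' ⟶ T) (i : ι) (j : κ) (e : α i = j) (d : T ⟶ U i)
    (x : T ⟶ V j) (d' : T' ⟶ U i) (x' : T' ⟶ V j) (hc : c ≫ d = d')
    (hd : d ≫ g i ≫ eqToHom (congrArg V e) = x) (hd' : d' ≫ g i ≫ eqToHom (congrArg V e) = x')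
    (z : Desc.Lifts (D.obj j) x) (z' : Desc.Lifts (D.obj j) x') (hz : z'.1 = c ≫ z.1) :
    (app w b i j e d' x' hd' z').1 = c ≫ (app w b i j e d x hd z).1 := by
  subst e
  obtain rfl : d ≫ g i = x := by rw [← hd, eqToHom_refl, Category.comp_id]
  obtain rfl : d' ≫ g i = x' := by rw [← hd', eqToHom_refl, Category.comp_id]
  refine pullPt_natural w D' c d d' _ _ ?_
  exact (congrArg (fun m => m ≫ (b.hom i).left) (pullPt_symm_natural w D c d d' hc _ _ hz)).trans
    (Category.assoc _ _ _)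

theorem app_congr {T : Scheme.{u}} (i : ι) (j : κ) (e : α i = j) (d : T ⟶ U i) {x x' : T ⟶ V j}
    (hx : x = x') (hd : d ≫ g i ≫ eqToHom (congrArg V e) = x)
    (hd' : d ≫ g i ≫ eqToHom (congrArg V e) = x') (z : Desc.Lifts (D.obj j) x)
    (z' : Desc.Lifts (D.obj j) x') (hz : z.1 = z'.1) :
    (app w b i j e d x hd z).1 = (app w b i j e d x' hd' z').1 := by
  subst hx
  obtain rfl : z = z' := Subtype.ext hz
  rfl

end app

/-- Pullback along a refinement is faithful when the refinement is jointly epimorphic after every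
base change. -/
theorem faithful_of_epi (hepi : ∀ j {T : Scheme.{u}} (x : T ⟶ V j) {W : Scheme.{u}} (m m' : T ⟶ W),
    (∀ k : {i // α i = j}, pullback.fst x (fibFam g j k) ≫ m = pullback.fst x (fibFam g j k) ≫ m') →
      m = m') : (Desc.pullDDFam w).Faithful := by
  refine ⟨fun {D D'} a a' h => hom_ext_pt fun T j x z => Subtype.ext ?_⟩
  refine hepi j x _ _ fun ⟨i, e⟩ => ?_
  subst e
  let c := pullback.fst x (fibFam g (α i) ⟨i, rfl⟩)
  let d : _ ⟶ U i := pullback.snd x (fibFam g (α i) ⟨i, rfl⟩)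
  have hd : d ≫ g i = c ≫ x := by
    have := (pullback.condition (f := x) (g := fibFam g (α i) ⟨i, rfl⟩)).symm
    simpa using this
  let z' : Desc.Lifts (((Desc.pullDDFam w).obj D).obj i) d := (pullPt w D i d).symm
    ⟨c ≫ z.1, by rw [Category.assoc, z.2, hd]⟩
  have e₁ : ∀ a₀ : D ⟶ D', (pullPt w D' i d (((Desc.pullDDFam w).map a₀).push z')).1 =
      c ≫ (a₀.push z).1 := fun a₀ => by
    rw [pullPt_push, Equiv.apply_symm_apply]
    exact Category.assoc _ _ _
  show c ≫ _ = c ≫ _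
  rw [← e₁, ← e₁, h]

variable (hcov : ∀ j, Presieve.ofArrows (fun k : {i // α i = j} => U k.1) (fibFam g j) ∈
  Scheme.fpqcPrecoverage (V j))

include hcov

theorem faithful_of_cover : (Desc.pullDDFam w).Faithful :=
  faithful_of_epi w fun j _ x _ _ _ h => hom_ext_fpqc _ (pullback_fst_mem_fpqc _ (hcov j) x) h

theorem full_of_cover : (Desc.pullDDFam w).Full := by
  refine ⟨fun {D D'} b => ?_⟩
  have hcov' : ∀ {T : Scheme.{u}} (j : κ) (x : T ⟶ V j),
      Presieve.ofArrows (fun k => pullback x (fibFam g j k)) (fun k => pullback.fst x (fibFam g j k)) ∈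
        Scheme.fpqcPrecoverage T := fun j x => pullback_fst_mem_fpqc _ (hcov j) x
  have hdef : ∀ {T : Scheme.{u}} (j : κ) (x : T ⟶ V j) (z : Desc.Lifts (D.obj j) x),
      ∃ z₁ : Desc.Lifts (D'.obj j) x, ∀ ⦃T' : Scheme.{u}⦄ (c : T' ⟶ T) (i : ι) (e : α i = j)
        (d : T' ⟶ U i) (hd : d ≫ g i ≫ eqToHom (congrArg V e) = c ≫ x),
        c ≫ z₁.1 = (app w b i j e d (c ≫ x) hd ⟨c ≫ z.1, by rw [Category.assoc, z.2]⟩).1 := by
    intro T j x z
    have hd : ∀ k, pullback.snd x (fibFam g j k) ≫ g k.1 ≫ eqToHom (congrArg V k.2) =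
        pullback.fst x (fibFam g j k) ≫ x := fun k => pullback.condition.symm
    have comp : ∀ {T' : Scheme.{u}} (k : {i // α i = j}) (a : T' ⟶ pullback x (fibFam g j k))
        (c : T' ⟶ T) (hc : a ≫ pullback.fst x (fibFam g j k) = c) (i : ι) (e : α i = j)
        (d : T' ⟶ U i) (hd' : d ≫ g i ≫ eqToHom (congrArg V e) = c ≫ x),
        a ≫ (app w b k.1 j k.2 (pullback.snd x (fibFam g j k)) _ (hd k)
          ⟨pullback.fst x (fibFam g j k) ≫ z.1, by rw [Category.assoc, z.2]⟩).1 =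
        (app w b i j e d (c ≫ x) hd' ⟨c ≫ z.1, by rw [Category.assoc, z.2]⟩).1 := by
      intro T' k a c hc i e d hd'
      subst hc
      have hd₀ : (a ≫ pullback.snd x (fibFam g j k)) ≫ g k.1 ≫ eqToHom (congrArg V k.2) =
          (a ≫ pullback.fst x (fibFam g j k)) ≫ x := by
        rw [Category.assoc, hd k, Category.assoc]
      rw [app_indep w b k.1 i j k.2 e _ d _ hd₀ hd']
      exact (app_natural w b a k.1 j k.2 _ _ _ _ rfl (hd k) hd₀ _ _ (Category.assoc _ _ _)).symm
    obtain ⟨G, hG⟩ := exists_hom_fpqc _ (hcov' j x)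
      (fun k => (app w b k.1 j k.2 (pullback.snd x (fibFam g j k)) _ (hd k)
        ⟨pullback.fst x (fibFam g j k) ≫ z.1, by rw [Category.assoc, z.2]⟩).1)
      fun k l Z a a' haa => by
        have hd₁ : (a' ≫ pullback.snd x (fibFam g j l)) ≫ g l.1 ≫ eqToHom (congrArg V l.2) =
            (a ≫ pullback.fst x (fibFam g j k)) ≫ x := by
          rw [haa, Category.assoc, hd l, Category.assoc]
        exact (comp k a _ rfl l.1 l.2 _ hd₁).trans (comp l a' _ haa.symm l.1 l.2 _ hd₁).symm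
    have hG₂ : G ≫ (D'.obj j).hom = x := hom_ext_fpqc _ (hcov' j x) fun k => by
      rw [← Category.assoc, hG k]
      exact (app w b k.1 j k.2 _ _ (hd k) _).2
    refine ⟨⟨G, hG₂⟩, fun T' c i e d hd' => ?_⟩
    have hl : c ≫ x = d ≫ fibFam g j ⟨i, e⟩ := hd'.symm
    refine ((congrArg (· ≫ G) (pullback.lift_fst c d hl).symm).trans (Category.assoc _ _ _)).trans
      ((congrArg (pullback.lift c d hl ≫ ·) (hG ⟨i, e⟩)).trans ?_)
    exact comp ⟨i, e⟩ _ c (pullback.lift_fst c d hl) i e d hd'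
  choose F hF using fun (T : Scheme.{u}) j (x : T ⟶ V j) z => hdef (T := T) j x z
  let P : PtMap D D' :=
    { toFun := fun T j x z => F T j x z
      natural := fun T T' j c x y hy z z' hz => hom_ext_fpqc _ (hcov' j y) fun k => by
        have hd : pullback.snd y (fibFam g j k) ≫ g k.1 ≫ eqToHom (congrArg V k.2) =
            pullback.fst y (fibFam g j k) ≫ y := pullback.condition.symm
        have hd' := hd.trans ((congrArg (_ ≫ ·) hy.symm).trans (Category.assoc _ _ _).symm)
        refine (hF T' j y z' _ k.1 k.2 _ hd).trans (Eq.trans ?_ ((hF T j x z _ k.1 k.2 _ hd').symm.trans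
          (Category.assoc _ _ _)))
        refine app_congr w b _ _ _ _ (by rw [← hy, Category.assoc]) _ _ _ _ ?_
        show _ ≫ z'.1 = _
        rw [hz]
        exact (Category.assoc _ _ _).symm
      comm := fun T j j' x₀ x₁ h z => by
        apply Subtype.ext
        refine hom_ext_fpqc _ (hcov' j x₀) fun k => ?_
        refine hom_ext_fpqc _ (hcov' j' (pullback.fst x₀ (fibFam g j k) ≫ x₁)) fun l => ?_
        let c := pullback.fst (pullback.fst x₀ (fibFam g j k) ≫ x₁) (fibFam g j' l) ≫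
          pullback.fst x₀ (fibFam g j k)
        rw [← Category.assoc, ← Category.assoc]
        show c ≫ _ = c ≫ _
        let d₀ := pullback.fst (pullback.fst x₀ (fibFam g j k) ≫ x₁) (fibFam g j' l) ≫
          pullback.snd x₀ (fibFam g j k)
        let d₁ := pullback.snd (pullback.fst x₀ (fibFam g j k) ≫ x₁) (fibFam g j' l)
        have hd₀ : d₀ ≫ g k.1 ≫ eqToHom (congrArg V k.2) = c ≫ x₀ := by
          simp only [d₀, c, Category.assoc]
          rw [show pullback.fst x₀ (fibFam g j k) ≫ x₀ = _ from pullback.condition]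
        have hd₁ : d₁ ≫ g l.1 ≫ eqToHom (congrArg V l.2) = c ≫ x₁ := by
          simp only [d₁, c, Category.assoc]
          exact pullback.condition.symm
        have hh : (c ≫ x₀) ≫ v j = (c ≫ x₁) ≫ v j' :=
          (Category.assoc _ _ _).trans ((congrArg (c ≫ ·) h).trans (Category.assoc _ _ _).symm)
        rw [hF T j' x₁ _ c l.1 l.2 d₁ hd₁,
          ← D'.φ_natural c x₀ x₁ h (c ≫ x₀) (c ≫ x₁) rfl rfl hh (F T j x₀ z)
            (app w b k.1 j k.2 d₀ _ hd₀ ⟨c ≫ z.1, by rw [Category.assoc, z.2]⟩)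
            (hF T j x₀ z c k.1 k.2 d₀ hd₀).symm,
          ← app_φ w b k.1 l.1 j j' k.2 l.2 d₀ d₁ _ _ hd₀ hd₁ hh]
        congr 2
        exact Subtype.ext (D.φ_natural c x₀ x₁ h _ _ rfl rfl hh z _ rfl).symm }
  refine ⟨P.toHom, hom_ext_pt fun T i d z => (pullPt w D' i d).injective ?_⟩
  rw [pullPt_push, P.push_toHom]
  apply Subtype.ext
  have hd : d ≫ g i ≫ eqToHom (congrArg V (rfl : α i = α i)) = 𝟙 T ≫ d ≫ g i := by simp
  have hh : ∀ (x : T ⟶ V (α i)) (hd' : d ≫ g i ≫ eqToHom (congrArg V (rfl : α i = α i)) = x)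
      (z' : Desc.Lifts (D.obj (α i)) x), x = d ≫ g i → z'.1 = (pullPt w D i d z).1 →
      (app w b i (α i) rfl d x hd' z').1 = (pullPt w D' i d (b.push z)).1 := by
    rintro x hd' z' rfl hz
    obtain rfl : z' = pullPt w D i d z := Subtype.ext hz
    show (pullPt w D' i d (b.push ((pullPt w D i d).symm _))).1 = _
    rw [Equiv.symm_apply_apply]
  refine (Category.id_comp _).symm.trans ((hF T (α i) (d ≫ g i) (pullPt w D i d z) (𝟙 T) i rfl d
    hd).trans (hh _ _ _ (Category.id_comp _) (Category.id_comp _)))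

end Groth.Agent.SchDesc12
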