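import Groth.Agent.Lib.SchDesc12.Sec
import Mathlib.CategoryTheory.Functor.FullyFaithful

/-!
# Isomorphisms between pullback functors of descent data for schemes
-/

universe u

open CategoryTheory CategoryTheory.Limits AlgebraicGeometry

set_option backward.isDefEq.respectTransparency.types false

namespace Groth.Agent.SchDesc12

variable {S : Scheme.{u}} {ι : Type u} {X : ι → Scheme.{u}} {f : ∀ i, X i ⟶ S}

/-- Data of a morphism of descent data on points. -/
structure PtMap (D D' : Desc.SchDDFam f) where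
  /-- the map on points -/
  toFun : ∀ ⦃T : Scheme.{u}⦄ (i : ι) (x : T ⟶ X i), Desc.Lifts (D.obj i) x → Desc.Lifts (D'.obj i) x
  natural : ∀ ⦃T T' : Scheme.{u}⦄ (i : ι) (g : T' ⟶ T) (x : T ⟶ X i) (y : T' ⟶ X i), g ≫ x = y →
    ∀ (v : Desc.Lifts (D.obj i) x) (v' : Desc.Lifts (D.obj i) y), v'.1 = g ≫ v.1 →
      (toFun i y v').1 = g ≫ (toFun i x v).1
  comm : ∀ ⦃T : Scheme.{u}⦄ ⦃i j : ι⦄ (x₀ : T ⟶ X i) (x₁ : T ⟶ X j) (h : x₀ ≫ f i = x₁ ≫ f j)
    (v : Desc.Lifts (D.obj i) x₀), toFun j x₁ (D.φ x₀ x₁ h v) = D'.φ x₀ x₁ h (toFun i x₀ v)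

namespace PtMap

variable {D D' : Desc.SchDDFam f} (F : PtMap D D')

theorem val_eq {T : Scheme.{u}} (i : ι) (x : T ⟶ X i) (v : Desc.Lifts (D.obj i) x) :
    (F.toFun i x v).1 =
      v.1 ≫ (F.toFun i (D.obj i).hom ⟨𝟙 _, Category.id_comp _⟩).1 :=
  F.natural i v.1 _ x v.2 _ v (Category.comp_id _).symm

/-- The morphism given by a map on points. -/
noncomputable def toHom : D ⟶ D' where
  hom i := Over.homMk (F.toFun i (D.obj i).hom ⟨𝟙 _, Category.id_comp _⟩).1
    (F.toFun i (D.obj i).hom ⟨𝟙 _, Category.id_comp _⟩).2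
  comm T i j x₀ x₁ h v w hw := by
    have ew : w = F.toFun i x₀ v := Subtype.ext (hw.trans (F.val_eq i x₀ v).symm)
    rw [ew, ← F.comm]
    exact F.val_eq j x₁ _

theorem push_toHom {T : Scheme.{u}} {i : ι} {x : T ⟶ X i} (v : Desc.Lifts (D.obj i) x) :
    F.toHom.push v = F.toFun i x v :=
  Subtype.ext (F.val_eq i x v).symm

end PtMap

/-- Morphisms of descent data are determined by their values on points. -/
theorem hom_ext_pt {D D' : Desc.SchDDFam f} {a b : D ⟶ D'}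
    (h : ∀ ⦃T : Scheme.{u}⦄ (i : ι) (x : T ⟶ X i) (v : Desc.Lifts (D.obj i) x), a.push v = b.push v) :
    a = b :=
  Desc.SchDDFam.hom_ext (funext fun i => Over.OverMorphism.ext (by
    have := congrArg Subtype.val (h i (D.obj i).hom ⟨𝟙 _, Category.id_comp _⟩)
    exact (Category.id_comp _).symm.trans (this.trans (Category.id_comp _))))

theorem push_comp {D D' D'' : Desc.SchDDFam f} (a : D ⟶ D') (b : D' ⟶ D'') {T : Scheme.{u}} {i : ι}
    {x : T ⟶ X i} (v : Desc.Lifts (D.obj i) x) :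
    (a ≫ b).push v = b.push (a.push v) :=
  Subtype.ext (Category.assoc _ _ _).symm

theorem push_id (D : Desc.SchDDFam f) {T : Scheme.{u}} {i : ι} {x : T ⟶ X i}
    (v : Desc.Lifts (D.obj i) x) : (𝟙 D : D ⟶ D).push v = v :=
  Subtype.ext (Category.comp_id _)

theorem push_φ {D D' : Desc.SchDDFam f} (a : D ⟶ D') {T : Scheme.{u}} {i j : ι} (x₀ : T ⟶ X i)
    (x₁ : T ⟶ X j) (h : x₀ ≫ f i = x₁ ≫ f j) (v : Desc.Lifts (D.obj i) x₀) :
    a.push (D.φ x₀ x₁ h v) = D'.φ x₀ x₁ h (a.push v) :=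
  Subtype.ext (a.comm x₀ x₁ h v _ rfl).symm

/-- The inverse of a bijective map on points. -/
noncomputable def PtMap.symm {D D' : Desc.SchDDFam f} (F : PtMap D D')
    (G : ∀ ⦃T : Scheme.{u}⦄ (i : ι) (x : T ⟶ X i), Desc.Lifts (D'.obj i) x → Desc.Lifts (D.obj i) x)
    (h₁ : ∀ ⦃T : Scheme.{u}⦄ (i : ι) (x : T ⟶ X i) v, G i x (F.toFun i x v) = v)
    (h₂ : ∀ ⦃T : Scheme.{u}⦄ (i : ι) (x : T ⟶ X i) v, F.toFun i x (G i x v) = v) :
    PtMap D' D where
  toFun := G
  natural T T' i g x y hy v v' hv := by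
    subst hy
    have h : F.toFun i _ ⟨g ≫ (G i x v).1, by rw [Category.assoc, (G i x v).2]⟩ = v' :=
      Subtype.ext ((F.natural i g x _ rfl (G i x v) _ rfl).trans (by rw [h₂]; exact hv.symm))
    rw [← h, h₁]
  comm T i j x₀ x₁ h v := by
    conv_lhs => rw [← h₂ i x₀ v, ← F.comm, h₁]

/-- An isomorphism from bijections on points. -/
noncomputable def isoOfPt {D D' : Desc.SchDDFam f} (F : PtMap D D')
    (G : ∀ ⦃T : Scheme.{u}⦄ (i : ι) (x : T ⟶ X i), Desc.Lifts (D'.obj i) x → Desc.Lifts (D.obj i) x)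
    (h₁ : ∀ ⦃T : Scheme.{u}⦄ (i : ι) (x : T ⟶ X i) v, G i x (F.toFun i x v) = v)
    (h₂ : ∀ ⦃T : Scheme.{u}⦄ (i : ι) (x : T ⟶ X i) v, F.toFun i x (G i x v) = v) : D ≅ D' where
  hom := F.toHom
  inv := (F.symm G h₁ h₂).toHom
  hom_inv_id := hom_ext_pt fun T i x v => by
    rw [push_comp, F.push_toHom, (F.symm G h₁ h₂).push_toHom, push_id]; exact h₁ i x v
  inv_hom_id := hom_ext_pt fun T i x v => by
    rw [push_comp, (F.symm G h₁ h₂).push_toHom, F.push_toHom, push_id]; exact h₂ i x v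

section pull

variable {S' : Scheme.{u}} {ι' : Type u} {X' : ι' → Scheme.{u}} {f' : ∀ j, X' j ⟶ S'}
  {α : ι' → ι} {p : S' ⟶ S} {p' : ∀ j, X' j ⟶ X (α j)} (w : ∀ j, p' j ≫ f (α j) = f' j ≫ p)

/-- The points of a pulled back datum. -/
noncomputable def pullPt (D : Desc.SchDDFam f) {T : Scheme.{u}} (j : ι') (x : T ⟶ X' j) :
    Desc.Lifts (((Desc.pullDDFam w).obj D).obj j) x ≃ Desc.Lifts (D.obj (α j)) (x ≫ p' j) :=
  Desc.liftsPullbackEquiv (D.obj (α j)) (p' j) x

theorem pullPt_φ (D : Desc.SchDDFam f) {T : Scheme.{u}} {i j : ι'} (x₀ : T ⟶ X' i) (x₁ : T ⟶ X' j)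
    (h : x₀ ≫ f' i = x₁ ≫ f' j) (v : Desc.Lifts (((Desc.pullDDFam w).obj D).obj i) x₀) :
    pullPt w D j x₁ (((Desc.pullDDFam w).obj D).φ x₀ x₁ h v) =
      D.φ (x₀ ≫ p' i) (x₁ ≫ p' j) (Desc.pull_compat w x₀ x₁ h) (pullPt w D i x₀ v) :=
  Equiv.apply_symm_apply _ _

theorem pullPt_push {D D' : Desc.SchDDFam f} (a : D ⟶ D') {T : Scheme.{u}} {j : ι'} {x : T ⟶ X' j}
    (v : Desc.Lifts (((Desc.pullDDFam w).obj D).obj j) x) :
    pullPt w D' j x (((Desc.pullDDFam w).map a).push v) = a.push (pullPt w D j x v) :=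
  Subtype.ext ((Category.assoc _ _ _).trans ((congrArg (v.1 ≫ ·) (pullback.lift_fst _ _ _)).trans
    (Category.assoc _ _ _).symm))

theorem pullPt_natural (D : Desc.SchDDFam f) {T T' : Scheme.{u}} (g : T' ⟶ T) {j : ι'}
    (x : T ⟶ X' j) (y : T' ⟶ X' j) (v : Desc.Lifts (((Desc.pullDDFam w).obj D).obj j) x)
    (v' : Desc.Lifts (((Desc.pullDDFam w).obj D).obj j) y) (hv : v'.1 = g ≫ v.1) :
    (pullPt w D j y v').1 = g ≫ (pullPt w D j x v).1 :=
  (congrArg (· ≫ _) hv).trans (Category.assoc _ _ _)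

theorem pullPt_symm_natural (D : Desc.SchDDFam f) {T T' : Scheme.{u}} (g : T' ⟶ T) {j : ι'}
    (x : T ⟶ X' j) (y : T' ⟶ X' j) (hy : g ≫ x = y) (v : Desc.Lifts (D.obj (α j)) (x ≫ p' j))
    (v' : Desc.Lifts (D.obj (α j)) (y ≫ p' j)) (hv : v'.1 = g ≫ v.1) :
    ((pullPt w D j y).symm v').1 = g ≫ ((pullPt w D j x).symm v).1 := by
  subst hy
  apply pullback.hom_ext
  · exact (pullback.lift_fst _ _ _).trans (hv.trans ((congrArg (g ≫ ·)
      (pullback.lift_fst _ _ _).symm).trans (Category.assoc _ _ _).symm))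
  · exact (pullback.lift_snd _ _ _).trans ((congrArg (g ≫ ·)
      (pullback.lift_snd _ _ _).symm).trans (Category.assoc _ _ _).symm)

end pull

section self

variable {α : ι → ι} {p' : ∀ i, X i ⟶ X (α i)} (w : ∀ i, p' i ≫ f (α i) = f i ≫ 𝟙 S)

include w in
theorem self_compat {T : Scheme.{u}} (i : ι) (x : T ⟶ X i) : (x ≫ p' i) ≫ f (α i) = x ≫ f i := by
  rw [Category.assoc, w, Category.comp_id]

/-- Pullback along a morphism of the family to itself is isomorphic to the identity. -/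
noncomputable def pullSelfIso : Desc.pullDDFam w ≅ 𝟭 (Desc.SchDDFam f) :=
  NatIso.ofComponents (fun D => isoOfPt
    { toFun := fun T i x v => D.φ (x ≫ p' i) x (self_compat w i x) (pullPt w D i x v)
      natural := fun T T' i g x y hy v v' hv => D.φ_natural g _ _ _ _ _
        (by rw [← Category.assoc, hy]) hy _ _ _ (pullPt_natural w D g x y v v' hv)
      comm := fun T i j x₀ x₁ h v => by
        show D.φ _ _ _ (pullPt w D j x₁ _) = D.φ x₀ x₁ h _
        rw [pullPt_φ, D.φ_comp, D.φ_comp] }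
    (fun T i x v => (pullPt w D i x).symm (D.φ x (x ≫ p' i) (self_compat w i x).symm v))
    (fun T i x v => by
      show (pullPt w D i x).symm (D.φ _ _ _ (D.φ _ _ _ (pullPt w D i x v))) = v
      rw [D.φ_comp, D.φ_self, Equiv.symm_apply_apply])
    (fun T i x v => by
      show D.φ _ _ _ (pullPt w D i x ((pullPt w D i x).symm (D.φ _ _ _ v))) = v
      rw [Equiv.apply_symm_apply, D.φ_comp]
      exact D.φ_self x v))
    (fun {D D'} a => hom_ext_pt fun T i x v => by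
      rw [push_comp, push_comp]
      refine ((PtMap.push_toHom _ _).trans ?_).trans
        (congrArg a.push (PtMap.push_toHom _ _)).symm
      show D'.φ _ _ _ (pullPt w D' i x _) = a.push (D.φ _ _ _ (pullPt w D i x v))
      rw [pullPt_push, push_φ])

end self

section comp

variable {S' : Scheme.{u}} {ι' : Type u} {X' : ι' → Scheme.{u}} {f' : ∀ j, X' j ⟶ S'}
  {α : ι' → ι} {p : S' ⟶ S} {p' : ∀ j, X' j ⟶ X (α j)} (w : ∀ j, p' j ≫ f (α j) = f' j ≫ p)
  {S'' : Scheme.{u}} {ι'' : Type u} {X'' : ι'' → Scheme.{u}} {f'' : ∀ k, X'' k ⟶ S''}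
  {β : ι'' → ι'} {q : S'' ⟶ S'} {q' : ∀ k, X'' k ⟶ X' (β k)} (w' : ∀ k, q' k ≫ f' (β k) = f'' k ≫ q)
  {γ : ι'' → ι} {r : S'' ⟶ S} {r' : ∀ k, X'' k ⟶ X (γ k)} (w'' : ∀ k, r' k ≫ f (γ k) = f'' k ≫ r)
  (hr : q ≫ p = r)

include w w' w'' hr in
theorem comp_compat {T : Scheme.{u}} (k : ι'') (x : T ⟶ X'' k) :
    ((x ≫ q' k) ≫ p' (β k)) ≫ f (α (β k)) = (x ≫ r' k) ≫ f (γ k) := by
  simp only [Category.assoc, w, w'', reassoc_of% (w' k), hr]

theorem assoc₂_eq {T T' : Scheme.{u}} (g : T' ⟶ T) (k : ι'') (x : T ⟶ X'' k) (y : T' ⟶ X'' k)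
    (hy : g ≫ x = y) : g ≫ ((x ≫ q' k) ≫ p' (β k)) = (y ≫ q' k) ≫ p' (β k) := by
  subst hy
  simp only [Category.assoc]

/-- The points of a twice pulled back datum and of the pulled back one. -/
noncomputable def compPt (D : Desc.SchDDFam f) {T : Scheme.{u}} (k : ι'') (x : T ⟶ X'' k) :
    Desc.Lifts (((Desc.pullDDFam w').obj ((Desc.pullDDFam w).obj D)).obj k) x ≃
      Desc.Lifts (((Desc.pullDDFam w'').obj D).obj k) x :=
  (pullPt w' ((Desc.pullDDFam w).obj D) k x).trans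
    ((pullPt w D (β k) (x ≫ q' k)).trans
      ((D.φ ((x ≫ q' k) ≫ p' (β k)) (x ≫ r' k) (comp_compat w w' w'' hr k x)).trans
        (pullPt w'' D k x).symm))

theorem pullPt_compPt (D : Desc.SchDDFam f) {T : Scheme.{u}} (k : ι'') (x : T ⟶ X'' k)
    (v : Desc.Lifts (((Desc.pullDDFam w').obj ((Desc.pullDDFam w).obj D)).obj k) x) :
    pullPt w'' D k x (compPt w w' w'' hr D k x v) =
      D.φ ((x ≫ q' k) ≫ p' (β k)) (x ≫ r' k) (comp_compat w w' w'' hr k x)
        (pullPt w D (β k) (x ≫ q' k) (pullPt w' ((Desc.pullDDFam w).obj D) k x v)) :=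
  Equiv.apply_symm_apply _ _

/-- Composites of pullback functors are pullback functors. -/
noncomputable def compPtMap (D : Desc.SchDDFam f) :
    PtMap ((Desc.pullDDFam w').obj ((Desc.pullDDFam w).obj D)) ((Desc.pullDDFam w'').obj D) where
  toFun T k x := compPt w w' w'' hr D k x
  natural T T' k g x y hy v v' hv := by
    refine pullPt_symm_natural w'' D g x y hy _ _ ?_
    exact D.φ_natural g ((x ≫ q' k) ≫ p' (β k)) (x ≫ r' k) (comp_compat w w' w'' hr k x)
      ((y ≫ q' k) ≫ p' (β k)) (y ≫ r' k) (assoc₂_eq g k x y hy)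
      ((Category.assoc g x (r' k)).symm.trans (congrArg (fun z => z ≫ r' k) hy)) _ _ _
      (pullPt_natural w D g _ _ _ _ (pullPt_natural w' ((Desc.pullDDFam w).obj D) g x y v v' hv))
  comm T i j x₀ x₁ h v := by
    apply (pullPt w'' D j x₁).injective
    refine (pullPt_compPt w w' w'' hr D j x₁ _).trans ?_
    refine Eq.trans ?_ (pullPt_φ w'' D x₀ x₁ h _).symm
    rw [pullPt_compPt]
    refine (congrArg (D.φ _ _ _) ((congrArg (pullPt w D (β j) (x₁ ≫ q' j))
      (pullPt_φ w' ((Desc.pullDDFam w).obj D) x₀ x₁ h v)).trans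
      (pullPt_φ w D (x₀ ≫ q' i) (x₁ ≫ q' j) (Desc.pull_compat w' x₀ x₁ h) _))).trans ?_
    exact (D.φ_comp _ _ _ _ _ _).trans (D.φ_comp _ _ _ _ _ _).symm

/-- Composites of pullback functors are pullback functors. -/
noncomputable def pullCompIso :
    Desc.pullDDFam w ⋙ Desc.pullDDFam w' ≅ Desc.pullDDFam w'' :=
  NatIso.ofComponents (fun D => isoOfPt (compPtMap w w' w'' hr D)
      (fun T k x => (compPt w w' w'' hr D k x).symm)
      (fun T k x => (compPt w w' w'' hr D k x).symm_apply_apply)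
      (fun T k x => (compPt w w' w'' hr D k x).apply_symm_apply))
    (fun {D D'} a => hom_ext_pt fun T k x v => by
      rw [push_comp, push_comp]
      refine ((PtMap.push_toHom _ _).trans ?_).trans
        (congrArg ((Desc.pullDDFam w'').map a).push (PtMap.push_toHom _ _)).symm
      apply (pullPt w'' D' k x).injective
      refine (pullPt_compPt w w' w'' hr D' k x _).trans ?_
      refine Eq.trans ?_ (pullPt_push w'' a _).symm
      refine Eq.trans ?_ (congrArg a.push (pullPt_compPt w w' w'' hr D k x v).symm)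
      refine (congrArg (D'.φ _ _ _) ((congrArg (pullPt w D' (β k) (x ≫ q' k))
        (pullPt_push w' ((Desc.pullDDFam w).map a) v)).trans (pullPt_push w a _))).trans ?_
      exact (push_φ a _ _ _ _).symm)

end comp

/-- If `F ⋙ G` is fully faithful and `G` has a retraction, then `F` is fully faithful. -/
theorem full_faithful_of_comp_retract {A B C : Type*} [Category A] [Category B] [Category C]
    (F : A ⥤ B) (G : B ⥤ C) (K : C ⥤ B) (H : A ⥤ C) (e : F ⋙ G ≅ H) (r : G ⋙ K ≅ 𝟭 B)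
    (hH : H.Full ∧ H.Faithful) : F.Full ∧ F.Faithful := by
  have := hH.1
  have := hH.2
  have : (F ⋙ G).Full := Functor.Full.of_iso e.symm
  have : (F ⋙ G).Faithful := Functor.Faithful.of_iso e.symm
  have : (G ⋙ K).Faithful := Functor.Faithful.of_iso r.symm
  have : G.Faithful := Functor.Faithful.of_comp G K
  refine ⟨⟨fun {X Y} b => ?_⟩, Functor.Faithful.of_comp F G⟩
  obtain ⟨a, ha⟩ := (F ⋙ G).map_surjective (G.map b)
  exact ⟨a, G.map_injective ha⟩

end Groth.Agent.SchDesc12
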