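import Groth.Agent.Lib.SchDesc12.Orbit
import Groth.Agent.Lib.IndQA12.Basic
import Mathlib.Algebra.Category.Ring.Colimits

/-!
# The affine hull of the saturation of a quasi-compact open

For a descent datum along a flat map of affine schemes with ind-quasi-affine total space, the colimit
of the rings of functions on the quasi-compact opens containing a quasi-compact saturation carries a
descent datum.
-/

universe u

open CategoryTheory CategoryTheory.Limits AlgebraicGeometry Opposite TopologicalSpace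

set_option backward.isDefEq.respectTransparency.types false
set_option linter.unusedSectionVars false

namespace Groth.Agent.SchDesc12

section specColimit

variable {J : Type u} [SmallCategory J] (F : J ⥤ CommRingCat.{u})

/-- Maps into the spectrum of a colimit are determined by their components. -/
theorem hom_ext_spec_colimit {T : Scheme.{u}} {g g' : T ⟶ Spec (colimit F)}
    (h : ∀ j, g ≫ Spec.map (colimit.ι F j) = g' ≫ Spec.map (colimit.ι F j)) : g = g' := by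
  have k : ∀ g : T ⟶ Spec (colimit F),
      g = T.toSpecΓ ≫ Spec.map ((Scheme.ΓSpecIso _).inv ≫ g.appTop) := fun g => by
    rw [Spec.map_comp, ← Scheme.toSpecΓ_naturality_assoc, toSpecΓ_SpecMap_ΓSpecIso_inv,
      Category.comp_id]
  rw [k g, k g']
  congr 2
  refine colimit.hom_ext fun j => ?_
  have h' := congrArg (fun a => (Scheme.ΓSpecIso _).inv ≫ Scheme.Hom.appTop a) (h j)
  simp only [Scheme.Hom.comp_appTop, ← Scheme.ΓSpecIso_inv_naturality_assoc] at h'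
  exact h'

/-- Compatible families of maps give maps into the spectrum of a colimit. -/
theorem exists_hom_spec_colimit {T : Scheme.{u}} (c : ∀ j, T ⟶ Spec (F.obj j))
    (hc : ∀ i j (f : i ⟶ j), c j ≫ Spec.map (F.map f) = c i) :
    ∃ g : T ⟶ Spec (colimit F), ∀ j, g ≫ Spec.map (colimit.ι F j) = c j := by
  let d : ∀ j, F.obj j ⟶ Γ(T, ⊤) := fun j => (Scheme.ΓSpecIso _).inv ≫ (c j).appTop
  have hd : ∀ j, T.toSpecΓ ≫ Spec.map (d j) = c j := fun j => by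
    rw [Spec.map_comp, ← Scheme.toSpecΓ_naturality_assoc, toSpecΓ_SpecMap_ΓSpecIso_inv,
      Category.comp_id]
  have hd' : ∀ i j (f : i ⟶ j), F.map f ≫ d j = d i := fun i j f => by
    show _ = (Scheme.ΓSpecIso _).inv ≫ (c i).appTop
    rw [← hc i j f, Scheme.Hom.comp_appTop, ← Scheme.ΓSpecIso_inv_naturality_assoc]
  refine ⟨T.toSpecΓ ≫ Spec.map (colimit.desc F ⟨Γ(T, ⊤),
    { app := d, naturality := fun i j f => (hd' i j f).trans (Category.comp_id _).symm }⟩),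
    fun j => ?_⟩
  rw [Category.assoc, ← Spec.map_comp, colimit.ι_desc]
  exact hd j

end specColimit

variable {X S : Scheme.{u}} {p : X ⟶ S}

/-- An affine datum with unit and associativity gives an effective descent datum. -/
theorem exists_quotient_of_hull [IsAffine X] [IsAffine S] [Flat p] [Surjective p] {Vb : Scheme.{u}}
    [IsAffine Vb] (γb : Vb ⟶ X) (σ : pullback (γb ≫ p) p ⟶ Vb) (hσγ : σ ≫ γb = pullback.snd _ _)
    (hunit : ∀ δ : Vb ⟶ pullback (γb ≫ p) p, δ ≫ pullback.fst _ _ = 𝟙 _ →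
      δ ≫ pullback.snd _ _ = γb → δ ≫ σ = 𝟙 _)
    (hassoc : ∀ ε ε' : pullback (pullback.snd (γb ≫ p) p ≫ p) p ⟶ pullback (γb ≫ p) p,
      ε ≫ pullback.fst _ _ = pullback.fst _ _ ≫ σ → ε ≫ pullback.snd _ _ = pullback.snd _ _ →
      ε' ≫ pullback.fst _ _ = pullback.fst _ _ ≫ pullback.fst _ _ →
      ε' ≫ pullback.snd _ _ = pullback.snd _ _ → ε ≫ σ = ε' ≫ σ) :
    ∃ (U : Scheme.{u}) (π : U ⟶ S) (q : Vb ⟶ U), IsPullback q γb π p ∧
      pullback.fst (γb ≫ p) p ≫ q = σ ≫ q := by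
  let π₀ := pullback.fst (γb ≫ p) p
  let π₁ := pullback.snd (γb ≫ p) p
  let ρ := pullback.fst (π₁ ≫ p) p
  let π₂ := pullback.snd (π₁ ≫ p) p
  have hπ : π₀ ≫ γb ≫ p = π₁ ≫ p := pullback.condition
  have hρ : ρ ≫ π₁ ≫ p = π₂ ≫ p := pullback.condition
  obtain ⟨δ, hδ₀, hδ₁⟩ : ∃ δ : Vb ⟶ pullback (γb ≫ p) p, δ ≫ π₀ = 𝟙 _ ∧ δ ≫ π₁ = γb :=
    ⟨pullback.lift (𝟙 _) γb (Category.id_comp _), pullback.lift_fst _ _ _,
      pullback.lift_snd _ _ _⟩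
  have hδ : δ ≫ σ = 𝟙 _ := hunit δ hδ₀ hδ₁
  obtain ⟨ε, hε₀, hε₁⟩ : ∃ ε : pullback (π₁ ≫ p) p ⟶ pullback (γb ≫ p) p,
      ε ≫ π₀ = ρ ≫ σ ∧ ε ≫ π₁ = π₂ :=
    ⟨pullback.lift (ρ ≫ σ) π₂ (by rw [Category.assoc, reassoc_of% hσγ]; exact hρ),
      pullback.lift_fst _ _ _, pullback.lift_snd _ _ _⟩
  obtain ⟨ε', hε'₀, hε'₁⟩ : ∃ ε : pullback (π₁ ≫ p) p ⟶ pullback (γb ≫ p) p,
      ε ≫ π₀ = ρ ≫ π₀ ∧ ε ≫ π₁ = π₂ :=
    ⟨pullback.lift (ρ ≫ π₀) π₂ (by rw [Category.assoc, hπ, hρ]),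
      pullback.lift_fst _ _ _, pullback.lift_snd _ _ _⟩
  have hassoc' : ε ≫ σ = ε' ≫ σ := hassoc ε ε' hε₀ hε₁ hε'₀ hε'₁
  let tr : ∀ ⦃T : Scheme.{u}⦄ (x₀ x₁ : T ⟶ X), x₀ ≫ p = x₁ ≫ p →
      Desc.Lifts (Over.mk γb) x₀ → Desc.Lifts (Over.mk γb) x₁ := fun T x₀ x₁ h w =>
    ⟨pullback.lift w.1 x₁ (by
      rw [← Category.assoc, show w.1 ≫ γb = x₀ from w.2]; exact h) ≫ σ,
      by show (_ ≫ σ) ≫ γb = x₁; rw [Category.assoc, hσγ]; exact pullback.lift_snd _ _ _⟩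
  have tr_eq : ∀ {T : Scheme.{u}} (x₀ x₁ : T ⟶ X) (h : x₀ ≫ p = x₁ ≫ p)
      (w : Desc.Lifts (Over.mk γb) x₀) (c : T ⟶ pullback (γb ≫ p) p),
      c ≫ π₀ = w.1 → c ≫ π₁ = x₁ → (tr x₀ x₁ h w).1 = c ≫ σ := fun x₀ x₁ h w c hc₀ hc₁ => by
    refine congrArg (· ≫ σ) (pullback.hom_ext ?_ ?_)
    · rw [pullback.lift_fst]; exact hc₀.symm
    · rw [pullback.lift_snd]; exact hc₁.symm
  have exc : ∀ {T : Scheme.{u}} (x₀ x₁ : T ⟶ X) (_ : x₀ ≫ p = x₁ ≫ p)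
      (w : Desc.Lifts (Over.mk γb) x₀),
      ∃ c : T ⟶ pullback (γb ≫ p) p, c ≫ π₀ = w.1 ∧ c ≫ π₁ = x₁ := fun x₀ x₁ h w =>
    ⟨pullback.lift w.1 x₁ (by rw [← Category.assoc, show w.1 ≫ γb = x₀ from w.2]; exact h),
      pullback.lift_fst _ _ _, pullback.lift_snd _ _ _⟩
  have tr_self : ∀ ⦃T : Scheme.{u}⦄ (x : T ⟶ X) (w : Desc.Lifts (Over.mk γb) x),
      tr x x rfl w = w := fun T x w => Subtype.ext (by
    rw [tr_eq x x rfl w (w.1 ≫ δ) (by rw [Category.assoc, hδ₀]; exact Category.comp_id w.1)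
      (by rw [Category.assoc, hδ₁]; exact w.2), Category.assoc, hδ]
    exact Category.comp_id w.1)
  have tr_comp : ∀ ⦃T : Scheme.{u}⦄ (x₀ x₁ x₂ : T ⟶ X) (h₀₁ : x₀ ≫ p = x₁ ≫ p)
      (h₁₂ : x₁ ≫ p = x₂ ≫ p) (w : Desc.Lifts (Over.mk γb) x₀),
      tr x₁ x₂ h₁₂ (tr x₀ x₁ h₀₁ w) = tr x₀ x₂ (h₀₁.trans h₁₂) w := fun T x₀ x₁ x₂ h₀₁ h₁₂ w => by
    obtain ⟨c, hc₀, hc₁⟩ := exc x₀ x₁ h₀₁ w
    obtain ⟨c₂, hc₂₀, hc₂₁⟩ : ∃ c₂ : T ⟶ pullback (π₁ ≫ p) p, c₂ ≫ ρ = c ∧ c₂ ≫ π₂ = x₂ :=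
      ⟨pullback.lift c x₂ (by rw [← Category.assoc, hc₁]; exact h₁₂),
        pullback.lift_fst _ _ _, pullback.lift_snd _ _ _⟩
    refine Subtype.ext ?_
    rw [tr_eq x₁ x₂ h₁₂ _ (c₂ ≫ ε) (by
        rw [Category.assoc, hε₀, tr_eq x₀ x₁ h₀₁ w c hc₀ hc₁, reassoc_of% hc₂₀])
        (by rw [Category.assoc, hε₁, hc₂₁]),
      tr_eq x₀ x₂ (h₀₁.trans h₁₂) w (c₂ ≫ ε') (by
        rw [Category.assoc, hε'₀, reassoc_of% hc₂₀, hc₀])
        (by rw [Category.assoc, hε'₁, hc₂₁]), Category.assoc, Category.assoc, hassoc']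
  let Db : Desc.SchDDFam (fun _ : PUnit.{u + 1} => p) :=
    { obj := fun _ => Over.mk γb
      φ := fun T _ _ x₀ x₁ h =>
        { toFun := tr x₀ x₁ h
          invFun := tr x₁ x₀ h.symm
          left_inv := fun w => (tr_comp x₀ x₁ x₀ h h.symm w).trans (tr_self x₀ w)
          right_inv := fun w => (tr_comp x₁ x₀ x₁ h.symm h w).trans (tr_self x₁ w) }
      φ_natural := fun T T' g _ _ x₀ x₁ h y₀ y₁ _ hy₁ h' w w' hw => by
        obtain ⟨c, hc₀, hc₁⟩ := exc x₀ x₁ h w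
        show (tr y₀ y₁ h' w').1 = g ≫ (tr x₀ x₁ h w).1
        rw [tr_eq x₀ x₁ h w c hc₀ hc₁, tr_eq y₀ y₁ h' w' (g ≫ c)
          (by rw [Category.assoc, hc₀]; exact hw.symm) (by rw [Category.assoc, hc₁, hy₁]),
          Category.assoc]
      φ_self := fun T _ x w => tr_self x w
      φ_comp := fun T _ _ _ x₀ x₁ x₂ h₀₁ h₁₂ w => tr_comp x₀ x₁ x₂ h₀₁ h₁₂ w }
  have : IsAffineHom (Db.obj ⟨⟩).hom := inferInstanceAs (IsAffineHom γb)
  have hid : ∀ i, IsOpenImmersion ((𝟙 Db : Db ⟶ Db).hom i).left := fun i =>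
    inferInstanceAs (IsOpenImmersion (𝟙 Vb))
  obtain ⟨C, hC⟩ := exists_chart_of_hom Db (𝟙 Db) hid (isEffective_affine_single p Db)
  let W : Vb.Opens := C.W ⟨⟩
  have htop : W = ⊤ := (hC ⟨⟩).trans (Scheme.Hom.opensRange_of_isIso (𝟙 Vb))
  have : IsIso W.ι := by rw [htop]; exact inferInstanceAs (IsIso (Scheme.topIso _).hom)
  let q₀ : W.toScheme ⟶ C.U := C.q ⟨⟩
  have sq₀ : IsPullback q₀ (W.ι ≫ γb) C.π p := C.sq ⟨⟩
  refine ⟨C.U, C.π, inv W.ι ≫ q₀,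
    IsPullback.of_iso sq₀ (asIso W.ι) (Iso.refl _) (Iso.refl _) (Iso.refl _)
      (by simp) (by simp) (by simp) (by simp), ?_⟩
  let w : Desc.Lifts (Over.mk γb) (π₀ ≫ γb) := ⟨π₀, rfl⟩
  have hw : (π₀ ≫ γb) ≫ p = π₁ ≫ p := by rw [Category.assoc, hπ]
  obtain ⟨v₁, e₁, e₂⟩ := C.stable (i := ⟨⟩) (j := ⟨⟩) (π₀ ≫ γb) π₁ hw w (π₀ ≫ inv W.ι) (by
    show (π₀ ≫ inv W.ι) ≫ W.ι = π₀
    simp)
  have e₃ : v₁ ≫ W.ι = σ := by
    refine e₁.trans ((tr_eq (π₀ ≫ γb) π₁ hw w (𝟙 _) (Category.id_comp _)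
      (Category.id_comp _)).trans (Category.id_comp σ))
  rw [← e₃, Category.assoc, IsIso.hom_inv_id_assoc]
  exact ((Category.assoc _ _ _).symm.trans e₂.symm)

section trans

/-- The affinization map of an open has invertible global functions. -/
theorem isIso_toSpecΓ_appTop {V : Scheme.{u}} (U : V.Opens) : IsIso U.toSpecΓ.appTop := by
  have : IsIso (U.toScheme.toSpecΓ).appTop := by rw [Scheme.toSpecΓ_appTop]; infer_instance
  have : IsIso (Spec.map U.topIso.inv) := inferInstance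
  have : IsIso (Spec.map U.topIso.inv).appTop := by
    have e : (Spec.map U.topIso.inv).appTop = (Scheme.ΓSpecIso _).hom ≫ U.topIso.inv ≫
        (Scheme.ΓSpecIso _).inv := by
      rw [← Scheme.ΓSpecIso_naturality_assoc, Iso.hom_inv_id, Category.comp_id]
    rw [e]
    infer_instance
  delta Scheme.Opens.toSpecΓ
  rw [Scheme.Hom.comp_appTop]
  exact IsIso.comp_isIso' ‹_› ‹_›

/-- The map of affine hulls of two opens. -/
noncomputable abbrev hullRes {V : Scheme.{u}} {U U' : V.Opens} (h : U ≤ U') :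
    Spec Γ(V, U) ⟶ Spec Γ(V, U') :=
  Spec.map (V.presheaf.map (homOfLE h).op)

theorem hullRes_comp {V : Scheme.{u}} {U U' U'' : V.Opens} (h : U ≤ U') (h' : U' ≤ U'') :
    hullRes h ≫ hullRes h' = hullRes (h.trans h') := by
  rw [← Spec.map_comp, ← Functor.map_comp]
  rfl

variable [IsAffine X] [IsAffine S] [Flat p] (D : Desc.SchDDFam (fun _ : PUnit.{u + 1} => p))

/-- The structure map of the affine hull of an open. -/
noncomputable def hullHom (U : (D.obj ⟨⟩).left.Opens) : Spec Γ((D.obj ⟨⟩).left, U) ⟶ X :=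
  have := isIso_toSpecΓ_appTop U
  (exists_of_isIso_appTop U.toSpecΓ (U.ι ≫ (D.obj ⟨⟩).hom)).choose

theorem toSpecΓ_hullHom (U : (D.obj ⟨⟩).left.Opens) :
    U.toSpecΓ ≫ hullHom D U = U.ι ≫ (D.obj ⟨⟩).hom :=
  have := isIso_toSpecΓ_appTop U
  (exists_of_isIso_appTop U.toSpecΓ (U.ι ≫ (D.obj ⟨⟩).hom)).choose_spec

theorem hullRes_hullHom {U U' : (D.obj ⟨⟩).left.Opens} (h : U ≤ U') :
    hullRes h ≫ hullHom D U' = hullHom D U := by
  have := isIso_toSpecΓ_appTop U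
  apply ext_of_isIso_appTop U.toSpecΓ
  rw [Scheme.Opens.toSpecΓ_SpecMap_presheaf_map_assoc, toSpecΓ_hullHom, toSpecΓ_hullHom,
    Scheme.homOfLE_ι_assoc]

/-- Translations from the hull of one open to the hull of another. -/
def IsTrans (μ U : (D.obj ⟨⟩).left.Opens)
    (s : pullback (hullHom D μ ≫ p) p ⟶ Spec Γ((D.obj ⟨⟩).left, U)) : Prop :=
  ∀ ⦃T : Scheme.{u}⦄ (x₀ x₁ : T ⟶ X) (h : x₀ ≫ p = x₁ ≫ p) (v : Desc.Lifts (D.obj ⟨⟩) x₀)
    (y : T ⟶ μ.toScheme) (y' : T ⟶ U.toScheme) (c : T ⟶ pullback (hullHom D μ ≫ p) p),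
    y ≫ μ.ι = v.1 → y' ≫ U.ι = (D.φ x₀ x₁ h v).1 → c ≫ pullback.fst _ _ = y ≫ μ.toSpecΓ →
    c ≫ pullback.snd _ _ = x₁ → c ≫ s = y' ≫ U.toSpecΓ

variable {D} {μ U : (D.obj ⟨⟩).left.Opens}

/-- The universal point of the translation to the hull. -/
theorem exists_universal (hs : ∀ v v', Rel D v v' → v ∈ μ → v' ∈ U) :
    ∃ (v : Desc.Lifts (D.obj ⟨⟩) (pullback.fst μ.toSpecΓ (pullback.fst (hullHom D μ ≫ p) p) ≫
        μ.ι ≫ (D.obj ⟨⟩).hom))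
      (h : (pullback.fst μ.toSpecΓ (pullback.fst (hullHom D μ ≫ p) p) ≫ μ.ι ≫ (D.obj ⟨⟩).hom) ≫ p =
        (pullback.snd μ.toSpecΓ (pullback.fst (hullHom D μ ≫ p) p) ≫
          pullback.snd (hullHom D μ ≫ p) p) ≫ p)
      (y' : pullback μ.toSpecΓ (pullback.fst (hullHom D μ ≫ p) p) ⟶ U.toScheme),
      v.1 = pullback.fst μ.toSpecΓ (pullback.fst (hullHom D μ ≫ p) p) ≫ μ.ι ∧
        y' ≫ U.ι = (D.φ _ _ h v).1 := by
  let e := pullback.fst μ.toSpecΓ (pullback.fst (hullHom D μ ≫ p) p)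
  let j₁ := pullback.snd μ.toSpecΓ (pullback.fst (hullHom D μ ≫ p) p)
  have he : e ≫ μ.toSpecΓ = j₁ ≫ pullback.fst _ _ := pullback.condition
  have h : (e ≫ μ.ι ≫ (D.obj ⟨⟩).hom) ≫ p = (j₁ ≫ pullback.snd (hullHom D μ ≫ p) p) ≫ p := by
    rw [← toSpecΓ_hullHom]
    simp only [Category.assoc]
    rw [reassoc_of% he, pullback.condition]
  let v : Desc.Lifts (D.obj ⟨⟩) (e ≫ μ.ι ≫ (D.obj ⟨⟩).hom) := ⟨e ≫ μ.ι, Category.assoc _ _ _⟩
  have hr : Set.range (D.φ _ _ h v).1 ⊆ Set.range U.ι := by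
    obtain ⟨c, hc₀, hc₁⟩ : ∃ c : _ ⟶ pullback ((D.obj ⟨⟩).hom ≫ p) p,
        c ≫ pullback.fst _ _ = v.1 ∧ c ≫ pullback.snd _ _ = j₁ ≫ pullback.snd _ _ :=
      ⟨pullback.lift v.1 (j₁ ≫ pullback.snd _ _) (by
          rw [← Category.assoc, show v.1 ≫ (D.obj ⟨⟩).hom = _ from v.2]; exact h),
        pullback.lift_fst _ _ _, pullback.lift_snd _ _ _⟩
    rw [φ_eq_transMap D _ _ h v c hc₀ hc₁, U.range_ι]
    rintro _ ⟨z, rfl⟩
    refine hs _ _ ⟨c z, ?_, (Scheme.Hom.comp_apply _ _ _).symm⟩ (e z).2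
    rw [← Scheme.Hom.comp_apply, hc₀]
    rfl
  exact ⟨v, h, IsOpenImmersion.lift U.ι _ hr, rfl, IsOpenImmersion.lift_fac _ _ _⟩

theorem exists_isTrans [CompactSpace μ.toScheme] [QuasiSeparatedSpace μ.toScheme]
    (hs : ∀ v v', Rel D v v' → v ∈ μ → v' ∈ U) : ∃ s, IsTrans D μ U s := by
  obtain ⟨v₁, hx, t, hv₁, ht⟩ := exists_universal (p := p) hs
  let π₀ := pullback.fst (hullHom D μ ≫ p) p
  let e := pullback.fst μ.toSpecΓ π₀
  let j₁ := pullback.snd μ.toSpecΓ π₀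
  have := isIso_toSpecΓ_appTop μ
  have : IsIso j₁.appTop := isIso_appTop_snd μ.toSpecΓ π₀
  obtain ⟨s, hs'⟩ := exists_of_isIso_appTop j₁ (t ≫ U.toSpecΓ)
  refine ⟨s, fun T x₀ x₁ h v y y' c hy hy' hc₀ hc₁ => ?_⟩
  obtain ⟨c', hc'₀, hc'₁⟩ : ∃ c' : T ⟶ pullback μ.toSpecΓ π₀, c' ≫ e = y ∧ c' ≫ j₁ = c :=
    ⟨pullback.lift y c hc₀.symm, pullback.lift_fst _ _ _, pullback.lift_snd _ _ _⟩
  have hy'' : y' = c' ≫ t := by
    rw [← cancel_mono U.ι, hy', Category.assoc, ht]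
    exact D.φ_natural c' _ _ hx x₀ x₁ (by rw [reassoc_of% hc'₀, reassoc_of% hy]; exact v.2)
      (by rw [reassoc_of% hc'₁, hc₁]) h v₁ v (by rw [hv₁, reassoc_of% hc'₀, hy])
  rw [hy'', Category.assoc, ← hs', ← Category.assoc, hc'₁]

theorem IsTrans.unique [CompactSpace μ.toScheme] [QuasiSeparatedSpace μ.toScheme]
    (hs : ∀ v v', Rel D v v' → v ∈ μ → v' ∈ U) {s s'} (h : IsTrans D μ U s)
    (h' : IsTrans D μ U s') : s = s' := by
  obtain ⟨v₁, hx, t, hv₁, ht⟩ := exists_universal (p := p) hs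
  have := isIso_toSpecΓ_appTop μ
  have := isIso_appTop_snd μ.toSpecΓ (pullback.fst (hullHom D μ ≫ p) p)
  apply ext_of_isIso_appTop (pullback.snd μ.toSpecΓ (pullback.fst (hullHom D μ ≫ p) p))
  rw [h _ _ hx v₁ _ t _ hv₁.symm ht pullback.condition.symm rfl,
    h' _ _ hx v₁ _ t _ hv₁.symm ht pullback.condition.symm rfl]

theorem IsTrans.restrict {μ' : (D.obj ⟨⟩).left.Opens} (hμ : μ' ≤ μ) {s} (h : IsTrans D μ U s)
    (r : pullback (hullHom D μ' ≫ p) p ⟶ pullback (hullHom D μ ≫ p) p)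
    (hr₀ : r ≫ pullback.fst _ _ = pullback.fst _ _ ≫ hullRes hμ)
    (hr₁ : r ≫ pullback.snd _ _ = pullback.snd _ _) : IsTrans D μ' U (r ≫ s) := by
  intro T x₀ x₁ hx v y y' c hy hy' hc₀ hc₁
  rw [← Category.assoc]
  refine h x₀ x₁ hx v (y ≫ (D.obj ⟨⟩).left.homOfLE hμ) y' (c ≫ r) ?_ hy' ?_ ?_
  · rw [Category.assoc, Scheme.homOfLE_ι, hy]
  · rw [Category.assoc, hr₀, reassoc_of% hc₀, Category.assoc,
      Scheme.Opens.toSpecΓ_SpecMap_presheaf_map]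
  · rw [Category.assoc, hr₁, hc₁]

theorem IsTrans.extend {U' : (D.obj ⟨⟩).left.Opens} (hU : U ≤ U')
    (hs : ∀ v v', Rel D v v' → v ∈ μ → v' ∈ U) {s} (h : IsTrans D μ U s) :
    IsTrans D μ U' (s ≫ hullRes hU) := by
  intro T x₀ x₁ hx v y y' c hy hy' hc₀ hc₁
  obtain ⟨e, he₀, he₁⟩ : ∃ e : T ⟶ pullback ((D.obj ⟨⟩).hom ≫ p) p,
      e ≫ pullback.fst _ _ = v.1 ∧ e ≫ pullback.snd _ _ = x₁ :=
    ⟨pullback.lift v.1 x₁ (by
        rw [← Category.assoc, show v.1 ≫ (D.obj ⟨⟩).hom = _ from v.2]; exact hx),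
      pullback.lift_fst _ _ _, pullback.lift_snd _ _ _⟩
  have hr : Set.range (D.φ _ _ hx v).1 ⊆ Set.range U.ι := by
    rw [φ_eq_transMap D _ _ hx v e he₀ he₁, U.range_ι]
    rintro _ ⟨z, rfl⟩
    refine hs _ _ ⟨e z, ?_, (Scheme.Hom.comp_apply _ _ _).symm⟩ (y z).2
    rw [← Scheme.Hom.comp_apply, he₀, ← hy]
    rfl
  obtain ⟨y₀, hy₀⟩ : ∃ y₀ : T ⟶ U.toScheme, y₀ ≫ U.ι = (D.φ _ _ hx v).1 :=
    ⟨_, IsOpenImmersion.lift_fac _ _ hr⟩
  have : y₀ ≫ (D.obj ⟨⟩).left.homOfLE hU = y' := by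
    rw [← cancel_mono U'.ι, Category.assoc, Scheme.homOfLE_ι, hy₀, hy']
  rw [← this, Category.assoc, ← Category.assoc c, h x₀ x₁ hx v y y₀ c hy hy₀ hc₀ hc₁,
    Category.assoc, Scheme.Opens.toSpecΓ_SpecMap_presheaf_map]

theorem IsTrans.comp_hullHom [CompactSpace μ.toScheme] [QuasiSeparatedSpace μ.toScheme]
    (hs : ∀ v v', Rel D v v' → v ∈ μ → v' ∈ U) {s} (h : IsTrans D μ U s) :
    s ≫ hullHom D U = pullback.snd _ _ := by
  obtain ⟨v₁, hx, t, hv₁, ht⟩ := exists_universal (p := p) hs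
  have := isIso_toSpecΓ_appTop μ
  have := isIso_appTop_snd μ.toSpecΓ (pullback.fst (hullHom D μ ≫ p) p)
  apply ext_of_isIso_appTop (pullback.snd μ.toSpecΓ (pullback.fst (hullHom D μ ≫ p) p))
  rw [← Category.assoc, h _ _ hx v₁ _ t _ hv₁.symm ht pullback.condition.symm rfl, Category.assoc,
    toSpecΓ_hullHom, ← Category.assoc, ht]
  exact (D.φ _ _ hx v₁).2

end trans

end Groth.Agent.SchDesc12
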