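import Groth.Agent.Lib.SchDesc12.LQF
import Mathlib.AlgebraicGeometry.Morphisms.QuasiCompact
import Mathlib.AlgebraicGeometry.Morphisms.UniversallyOpen

/-!
# Orbits of descent data

The equivalence relation on points given by a descent datum relative to one morphism, and stable
opens between a quasi-compact open and a neighbourhood of its saturation.
-/

universe u

open CategoryTheory CategoryTheory.Limits AlgebraicGeometry Opposite TopologicalSpace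

set_option backward.isDefEq.respectTransparency.types false

namespace Groth.Agent.SchDesc12

/-- Points in the closure of the image of a closed set under a quasi-compact map are specializations
of points of the image. -/
theorem exists_specializes_of_mem_closure {X Y : Scheme.{u}} (f : X ⟶ Y) [QuasiCompact f]
    {Z : Set X} (hZ : IsClosed Z) {y : Y} (hy : y ∈ closure (f '' Z)) : ∃ z ∈ Z, f z ⤳ y := by
  obtain ⟨O, hO, hyO, -⟩ := exists_isAffineOpen_mem_and_subset (X := Y) (x := y) (U := ⊤) trivial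
  have : CompactSpace (f ⁻¹ᵁ O).toScheme :=
    isCompact_iff_compactSpace.mp (f.isCompact_preimage hO.isCompact)
  obtain ⟨R, g, hg⟩ := compactSpace_iff_exists.mp this
  obtain ⟨φ, hφ⟩ := Spec.map_surjective (g ≫ (f ∣_ O) ≫ hO.isoSpec.hom)
  let e := hO.isoSpec.hom
  let Z' : Set ↥(Spec R) := (g ≫ (f ⁻¹ᵁ O).ι) ⁻¹' Z
  have hZ' : IsClosed Z' := hZ.preimage (g ≫ (f ⁻¹ᵁ O).ι).continuous
  have hy' : e ⟨y, hyO⟩ ∈ closure (Spec.map φ '' Z') := by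
    have he : IsHomeomorph e := e.homeomorph.isHomeomorph
    have h1 : (⟨y, hyO⟩ : O.toScheme) ∈ closure (O.ι ⁻¹' (f '' Z)) := by
      rw [← O.ι.isOpenEmbedding.isOpenMap.preimage_closure_eq_closure_preimage O.ι.continuous]
      exact hy
    have h2 : O.ι ⁻¹' (f '' Z) ⊆ (g ≫ (f ∣_ O)) '' Z' := by
      rintro x ⟨z, hz, hzx⟩
      have hzO : z ∈ f ⁻¹ᵁ O := by
        show f z ∈ O
        rw [hzx]; exact x.2
      obtain ⟨r, hr⟩ := hg ⟨z, hzO⟩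
      refine ⟨r, ?_, O.ι.isOpenEmbedding.injective ?_⟩
      · show (f ⁻¹ᵁ O).ι (g r) ∈ Z
        rw [hr]; exact hz
      · rw [← Scheme.Hom.comp_apply, Category.assoc, morphismRestrict_ι, Scheme.Hom.comp_apply, hr]
        exact hzx
    have h3 := mem_closure_image e.continuous.continuousAt (closure_mono h2 h1)
    rw [Set.image_image] at h3
    refine closure_mono (subset_of_eq ?_) h3
    rw [hφ]
    rfl
  obtain ⟨I, hI⟩ := (PrimeSpectrum.isClosed_iff_zeroLocus_ideal Z').mp hZ'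
  rw [hI] at hy'
  change e ⟨y, hyO⟩ ∈ closure (PrimeSpectrum.comap φ.hom '' PrimeSpectrum.zeroLocus I) at hy'
  rw [PrimeSpectrum.closure_image_comap_zeroLocus] at hy'
  obtain ⟨q, hqI, hq, hqle⟩ :=
    (e ⟨y, hyO⟩).asIdeal.exists_ideal_comap_le_prime I (f := φ.hom) hy'
  refine ⟨(g ≫ (f ⁻¹ᵁ O).ι) ⟨q, hq⟩, show (⟨q, hq⟩ : ↥(Spec R)) ∈ Z' by rw [hI]; exact hqI, ?_⟩
  have hs : Spec.map φ ⟨q, hq⟩ ⤳ e ⟨y, hyO⟩ := (PrimeSpectrum.le_iff_specializes _ _).mp hqle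
  rw [hφ] at hs
  have h4 := hs.map (hO.isoSpec.inv ≫ O.ι).continuous
  simp only [e, ← Scheme.Hom.comp_apply, Category.assoc, Iso.hom_inv_id_assoc, morphismRestrict_ι]
    at h4
  simpa using h4

variable {X S : Scheme.{u}} {p : X ⟶ S} (D : Desc.SchDDFam (fun _ : PUnit.{u + 1} => p))

/-- The relation defining a descent datum: the translation of the universal point. -/
theorem exists_translation :
    ∃ t : pullback ((D.obj ⟨⟩).hom ≫ p) p ⟶ (D.obj ⟨⟩).left,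
      t ≫ (D.obj ⟨⟩).hom = pullback.snd _ _ ∧
      (∃ σ : pullback ((D.obj ⟨⟩).hom ≫ p) p ≅ pullback ((D.obj ⟨⟩).hom ≫ p) p,
        σ.hom ≫ pullback.fst _ _ = t ∧ σ.hom ≫ t = pullback.fst _ _) ∧
      (∀ {T : Scheme.{u}} (x₀ x₁ : T ⟶ X) (h : x₀ ≫ p = x₁ ≫ p)
        (v : Desc.Lifts (D.obj ⟨⟩) x₀) (c : T ⟶ pullback ((D.obj ⟨⟩).hom ≫ p) p),
        c ≫ pullback.fst _ _ = v.1 → c ≫ pullback.snd _ _ = x₁ → (D.φ x₀ x₁ h v).1 = c ≫ t) ∧
      (∀ v : (D.obj ⟨⟩).left, ∃ w, pullback.fst ((D.obj ⟨⟩).hom ≫ p) p w = v ∧ t w = v) ∧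
      ∀ w₁ w₂, t w₁ = pullback.fst ((D.obj ⟨⟩).hom ≫ p) p w₂ →
        ∃ w, pullback.fst ((D.obj ⟨⟩).hom ≫ p) p w = pullback.fst ((D.obj ⟨⟩).hom ≫ p) p w₁ ∧
          t w = t w₂ := by
  let γ := (D.obj ⟨⟩).hom
  let a := pullback.fst (γ ≫ p) p
  let b := pullback.snd (γ ≫ p) p
  have hab : (a ≫ γ) ≫ p = b ≫ p := by rw [Category.assoc]; exact pullback.condition
  obtain ⟨v₀, hv₀⟩ : ∃ v : Desc.Lifts (D.obj ⟨⟩) (a ≫ γ), v.1 = a := ⟨⟨a, rfl⟩, rfl⟩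
  obtain ⟨t, ht⟩ : ∃ t, t = (D.φ (a ≫ γ) b hab v₀).1 := ⟨_, rfl⟩
  have htγ : t ≫ γ = b := by rw [ht]; exact (D.φ (a ≫ γ) b hab v₀).2
  have key : ∀ {T : Scheme.{u}} (x₀ x₁ : T ⟶ X) (h : x₀ ≫ p = x₁ ≫ p)
      (v : Desc.Lifts (D.obj ⟨⟩) x₀) (c : T ⟶ pullback (γ ≫ p) p),
      c ≫ a = v.1 → c ≫ b = x₁ → (D.φ x₀ x₁ h v).1 = c ≫ t := by
    intro T x₀ x₁ h v c hc₀ hc₁
    rw [ht]
    exact D.φ_natural c (a ≫ γ) b hab x₀ x₁ (by rw [← Category.assoc, hc₀]; exact v.2) hc₁ h v₀ v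
      (by rw [hv₀, hc₀])
  obtain ⟨σ, hσ₀, hσ₁⟩ : ∃ σ : pullback (γ ≫ p) p ⟶ pullback (γ ≫ p) p,
      σ ≫ a = t ∧ σ ≫ b = a ≫ γ :=
    ⟨pullback.lift t (a ≫ γ) (by rw [← Category.assoc, htγ]; exact hab.symm),
      pullback.lift_fst _ _ _, pullback.lift_snd _ _ _⟩
  have hσt : σ ≫ t = a := by
    rw [← key b (a ≫ γ) hab.symm (D.φ (a ≫ γ) b hab v₀) σ (by rw [hσ₀, ht]) hσ₁, D.φ_comp,
      D.φ_self, hv₀]
  have hσσ : σ ≫ σ = 𝟙 _ := pullback.hom_ext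
    (show (σ ≫ σ) ≫ a = 𝟙 _ ≫ a by rw [Category.assoc, hσ₀, hσt, Category.id_comp])
    (show (σ ≫ σ) ≫ b = 𝟙 _ ≫ b by
      rw [Category.assoc, hσ₁, ← Category.assoc, hσ₀, htγ, Category.id_comp])
  refine ⟨t, htγ, ⟨⟨σ, σ, hσσ, hσσ⟩, hσ₀, hσt⟩, key, fun z => ?_, fun w₁ w₂ hw => ?_⟩
  · obtain ⟨δ, hδ₀, hδ₁⟩ : ∃ δ : (D.obj ⟨⟩).left ⟶ pullback (γ ≫ p) p, δ ≫ a = 𝟙 _ ∧ δ ≫ b = γ :=
      ⟨pullback.lift (𝟙 _) γ (Category.id_comp _), pullback.lift_fst _ _ _,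
        pullback.lift_snd _ _ _⟩
    refine ⟨δ z, ?_, ?_⟩
    · show a (δ z) = z
      rw [← Scheme.Hom.comp_apply, hδ₀]
      rfl
    · rw [← Scheme.Hom.comp_apply,
        ← key γ γ rfl ⟨𝟙 _, Category.id_comp γ⟩ δ hδ₀ hδ₁, D.φ_self]
      rfl
  · obtain ⟨u, hu₁, hu₂⟩ := Scheme.Pullback.exists_preimage_pullback (f := t) (g := a) w₁ w₂ hw
    let e := pullback.fst t a
    let c := pullback.snd t a
    have hec : e ≫ t = c ≫ a := pullback.condition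
    have h01 : (e ≫ a ≫ γ) ≫ p = (e ≫ b) ≫ p := by
      simp only [Category.assoc] at hab ⊢
      rw [hab]
    have h12 : (e ≫ b) ≫ p = (c ≫ b) ≫ p := by
      conv_lhs => rw [← htγ, ← Category.assoc e, hec]
      simp only [Category.assoc] at hab ⊢
      rw [hab]
    let v : Desc.Lifts (D.obj ⟨⟩) (e ≫ a ≫ γ) := ⟨e ≫ a, Category.assoc _ _ _⟩
    obtain ⟨l, hl₀, hl₁⟩ : ∃ l : pullback t a ⟶ pullback (γ ≫ p) p,
        l ≫ a = e ≫ a ∧ l ≫ b = c ≫ b :=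
      ⟨pullback.lift (e ≫ a) (c ≫ b) (by
          rw [← h12, ← h01]; simp only [Category.assoc]),
        pullback.lift_fst _ _ _, pullback.lift_snd _ _ _⟩
    have k₁ : l ≫ t = c ≫ t := by
      rw [← key _ _ (h01.trans h12) v l hl₀ hl₁, ← D.φ_comp _ _ _ h01 h12 v,
        key _ _ h12 (D.φ _ _ h01 v) c (by rw [key _ _ h01 v e rfl rfl, hec]) rfl]
    refine ⟨l u, ?_, ?_⟩
    · show a (l u) = a w₁
      rw [← Scheme.Hom.comp_apply, hl₀, Scheme.Hom.comp_apply, hu₁]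
    · rw [← Scheme.Hom.comp_apply, k₁, Scheme.Hom.comp_apply, hu₂]

/-- The translation map of a descent datum. -/
noncomputable def transMap : pullback ((D.obj ⟨⟩).hom ≫ p) p ⟶ (D.obj ⟨⟩).left :=
  (exists_translation D).choose

theorem transMap_hom : transMap D ≫ (D.obj ⟨⟩).hom = pullback.snd _ _ :=
  (exists_translation D).choose_spec.1

theorem exists_swap : ∃ σ : pullback ((D.obj ⟨⟩).hom ≫ p) p ≅ pullback ((D.obj ⟨⟩).hom ≫ p) p,
    σ.hom ≫ pullback.fst _ _ = transMap D ∧ σ.hom ≫ transMap D = pullback.fst _ _ :=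
  (exists_translation D).choose_spec.2.1

theorem φ_eq_transMap {T : Scheme.{u}} (x₀ x₁ : T ⟶ X) (h : x₀ ≫ p = x₁ ≫ p)
    (v : Desc.Lifts (D.obj ⟨⟩) x₀) (c : T ⟶ pullback ((D.obj ⟨⟩).hom ≫ p) p)
    (h₀ : c ≫ pullback.fst _ _ = v.1) (h₁ : c ≫ pullback.snd _ _ = x₁) :
    (D.φ x₀ x₁ h v).1 = c ≫ transMap D :=
  (exists_translation D).choose_spec.2.2.1 x₀ x₁ h v c h₀ h₁

/-- Two points in the same orbit. -/
def Rel (v v' : (D.obj ⟨⟩).left) : Prop :=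
  ∃ w, pullback.fst ((D.obj ⟨⟩).hom ≫ p) p w = v ∧ transMap D w = v'

theorem Rel.refl (v : (D.obj ⟨⟩).left) : Rel D v v :=
  (exists_translation D).choose_spec.2.2.2.1 v

theorem Rel.symm {v v' : (D.obj ⟨⟩).left} (h : Rel D v v') : Rel D v' v := by
  obtain ⟨w, rfl, rfl⟩ := h
  obtain ⟨σ, h₁, h₂⟩ := exists_swap D
  exact ⟨σ.hom w, by rw [← Scheme.Hom.comp_apply, h₁], by rw [← Scheme.Hom.comp_apply, h₂]⟩

theorem Rel.trans {v v' v'' : (D.obj ⟨⟩).left} (h : Rel D v v') (h' : Rel D v' v'') :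
    Rel D v v'' := by
  obtain ⟨w, rfl, rfl⟩ := h
  obtain ⟨w', hw, rfl⟩ := h'
  obtain ⟨u, h₁, h₂⟩ := (exists_translation D).choose_spec.2.2.2.2 w w' hw.symm
  exact ⟨u, h₁, h₂⟩

/-- Opens closed under the orbit relation are stable. -/
theorem isStable_of_rel (W : (D.obj ⟨⟩).left.Opens) (h : ∀ v v', Rel D v v' → v ∈ W → v' ∈ W) :
    IsStable D fun _ => W := by
  rintro T ⟨⟩ ⟨⟩ x₀ x₁ hx v z hz
  obtain ⟨c, hc₀, hc₁⟩ : ∃ c : T ⟶ pullback ((D.obj ⟨⟩).hom ≫ p) p,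
      c ≫ pullback.fst _ _ = v.1 ∧ c ≫ pullback.snd _ _ = x₁ :=
    ⟨pullback.lift v.1 x₁ (by
        rw [← Category.assoc, show v.1 ≫ (D.obj ⟨⟩).hom = x₀ from v.2]; exact hx),
      pullback.lift_fst _ _ _, pullback.lift_snd _ _ _⟩
  rw [φ_eq_transMap D x₀ x₁ hx v c hc₀ hc₁]
  exact h _ _ ⟨c z, by rw [← Scheme.Hom.comp_apply, hc₀], (Scheme.Hom.comp_apply _ _ _).symm⟩ hz

/-- The saturation of a subset. -/
noncomputable def sat (A : Set (D.obj ⟨⟩).left) : Set (D.obj ⟨⟩).left :=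
  transMap D '' (pullback.fst ((D.obj ⟨⟩).hom ≫ p) p ⁻¹' A)

theorem mem_sat {A : Set (D.obj ⟨⟩).left} {v : (D.obj ⟨⟩).left} :
    v ∈ sat D A ↔ ∃ v' ∈ A, Rel D v' v :=
  ⟨fun ⟨w, hw, h⟩ => ⟨_, hw, w, rfl, h⟩, fun ⟨_, hv, w, h₁, h₂⟩ =>
    ⟨w, by show _ ∈ A; rw [h₁]; exact hv, h₂⟩⟩

theorem subset_sat (A : Set (D.obj ⟨⟩).left) : A ⊆ sat D A :=
  fun v hv => (mem_sat D).2 ⟨v, hv, Rel.refl D v⟩

theorem isCompact_sat [QuasiCompact p] {A : Set (D.obj ⟨⟩).left} (hA : IsCompact A)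
    (hAo : IsOpen A) : IsCompact (sat D A) :=
  have : QuasiCompact (pullback.fst ((D.obj ⟨⟩).hom ≫ p) p) := inferInstance
  ((pullback.fst ((D.obj ⟨⟩).hom ≫ p) p).isCompact_preimage (U := ⟨A, hAo⟩) hA).image
    (transMap D).continuous

/-- The largest stable open inside a neighbourhood of a saturation contains the original set. -/
theorem exists_stable_open_between [Flat p] [QuasiCompact p] (U U₁ : (D.obj ⟨⟩).left.Opens)
    (h : sat D U ⊆ U₁) :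
    ∃ W : (D.obj ⟨⟩).left.Opens, U ≤ W ∧ W ≤ U₁ ∧ (∀ v v', Rel D v v' → v ∈ W → v' ∈ W) := by
  obtain ⟨σ, hσ, hσt⟩ := exists_swap D
  have : QuasiCompact (transMap D) := by
    rw [← hσ]
    exact MorphismProperty.comp_mem _ _ _ inferInstance inferInstance
  have : Flat (pullback.fst ((D.obj ⟨⟩).hom ≫ p) p) := inferInstance
  let Z : Set (D.obj ⟨⟩).left := (U₁ : Set (D.obj ⟨⟩).left)ᶜ
  let F : Set (D.obj ⟨⟩).left := closure (sat D Z)
  have hF : ∀ v ∈ F, ∃ e ∈ sat D Z, e ⤳ v := fun v hv => by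
    obtain ⟨w, hw, hwv⟩ := exists_specializes_of_mem_closure (transMap D)
      (Z := pullback.fst ((D.obj ⟨⟩).hom ≫ p) p ⁻¹' Z)
      (U₁.2.isClosed_compl.preimage (Scheme.Hom.continuous _)) hv
    exact ⟨_, ⟨w, hw, rfl⟩, hwv⟩
  refine ⟨⟨Fᶜ, isClosed_closure.isOpen_compl⟩, fun v hv hvF => ?_, fun v hv => ?_,
    fun v v' hvv hv hv' => hv ?_⟩
  · obtain ⟨e, he, hev⟩ := hF v hvF
    obtain ⟨z, hz, hze⟩ := (mem_sat D).1 he
    exact hz (h ((mem_sat D).2 ⟨e, hev.mem_open U.2 hv, Rel.symm D hze⟩))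
  · by_contra hvU
    exact hv (subset_closure (subset_sat D Z hvU))
  · obtain ⟨e, he, hev⟩ := hF v' hv'
    obtain ⟨w, hw₁, hw₂⟩ := Rel.symm D hvv
    obtain ⟨w', hw', hw'e⟩ := Flat.generalizingMap (pullback.fst ((D.obj ⟨⟩).hom ≫ p) p)
      (show e ⤳ pullback.fst ((D.obj ⟨⟩).hom ≫ p) p w by rw [hw₁]; exact hev)
    obtain ⟨z, hz, hze⟩ := (mem_sat D).1 he
    have h1 : transMap D w' ∈ sat D Z :=
      (mem_sat D).2 ⟨z, hz, Rel.trans D hze ⟨w', hw'e, rfl⟩⟩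
    rw [← hw₂]
    exact (hw'.map (transMap D).continuous).mem_closed isClosed_closure (subset_closure h1)

end Groth.Agent.SchDesc12
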