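import Groth.Agent.Lib.SchDesc12.LQF
import Mathlib.AlgebraicGeometry.Morphisms.UniversallyInjective

/-!
# Descent along radicial fpqc coverings

All opens of a descent datum along a universally injective map are stable.
-/

universe u

open CategoryTheory CategoryTheory.Limits AlgebraicGeometry Opposite TopologicalSpace

set_option backward.isDefEq.respectTransparency.types false

namespace Groth.Agent.SchDesc12

variable {X S : Scheme.{u}} {p : X ⟶ S}

/-- Along a universally injective map every open is stable. -/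
theorem isStable_of_universallyInjective [UniversallyInjective p]
    (D : Desc.SchDDFam (fun _ : PUnit.{u + 1} => p)) (W : (D.obj ⟨⟩).left.Opens) :
    IsStable D fun _ => W := by
  rintro T ⟨⟩ ⟨⟩ x₀ x₁ h v z hz
  let γ := (D.obj ⟨⟩).hom
  let a := pullback.fst (γ ≫ p) p
  let b := pullback.snd (γ ≫ p) p
  have hab : (a ≫ γ) ≫ p = b ≫ p := by rw [Category.assoc]; exact pullback.condition
  let v₀ : Desc.Lifts (D.obj ⟨⟩) (a ≫ γ) := ⟨a, rfl⟩
  obtain ⟨t, ht⟩ : ∃ t, t = (D.φ (a ≫ γ) b hab v₀).1 := ⟨_, rfl⟩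
  have ha : UniversallyInjective a := MorphismProperty.pullback_fst _ _ ‹_›
  obtain ⟨δ, hδ₀, hδ₁⟩ : ∃ δ : (D.obj ⟨⟩).left ⟶ pullback (γ ≫ p) p, δ ≫ a = 𝟙 _ ∧ δ ≫ b = γ :=
    ⟨pullback.lift (𝟙 _) γ (Category.id_comp _), pullback.lift_fst _ _ _,
      pullback.lift_snd _ _ _⟩
  have hδt : δ ≫ t = 𝟙 _ := by
    rw [ht, ← D.φ_natural δ (a ≫ γ) b hab γ γ (by rw [← Category.assoc, hδ₀, Category.id_comp])
      hδ₁ rfl v₀ ⟨𝟙 _, Category.id_comp γ⟩ hδ₀.symm, D.φ_self]
  have heq : ∀ w, t w = a w := fun w => by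
    have hw : δ (a w) = w := a.injective (by rw [← Scheme.Hom.comp_apply, hδ₀]; rfl)
    conv_lhs => rw [← hw, ← Scheme.Hom.comp_apply, hδt]
    rfl
  obtain ⟨c, hc₀, hc₁⟩ : ∃ c : T ⟶ pullback (γ ≫ p) p, c ≫ a = v.1 ∧ c ≫ b = x₁ :=
    ⟨pullback.lift v.1 x₁ (by rw [← Category.assoc, show v.1 ≫ γ = x₀ from v.2]; exact h),
      pullback.lift_fst _ _ _, pullback.lift_snd _ _ _⟩
  have k : (D.φ x₀ x₁ h v).1 = c ≫ t := by
    rw [ht]
    exact D.φ_natural c (a ≫ γ) b hab x₀ x₁
      (by rw [← Category.assoc, hc₀]; exact v.2) hc₁ h v₀ v hc₀.symm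
  rw [k, Scheme.Hom.comp_apply, heq, ← Scheme.Hom.comp_apply, hc₀]
  exact hz

/-- Universally injective morphisms are separated. -/
theorem isSeparated_of_universallyInjective {X S : Scheme.{u}} (p : X ⟶ S)
    [UniversallyInjective p] : IsSeparated p := by
  have : Surjective (pullback.diagonal p) := (UniversallyInjective.iff_diagonal p).1 ‹_›
  refine ⟨IsClosedImmersion.of_isPreimmersion _ ?_⟩
  rw [(pullback.diagonal p).surjective.range_eq]
  exact isClosed_univ

/-- Descent data along radicial flat quasi-compact surjections onto affine schemes are effective. -/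
theorem isEffective_radicial_single [IsAffine S] (p : X ⟶ S) [Flat p] [Surjective p]
    [QuasiCompact p] [UniversallyInjective p] (D : Desc.SchDDFam (fun _ : PUnit.{u + 1} => p)) :
    D.IsEffective := by
  have := isSeparated_of_universallyInjective p
  have key : ∀ v : (D.obj ⟨⟩).left, ∃ C : Chart D, v ∈ C.W ⟨⟩ := by
    intro v
    obtain ⟨U, hU, hvU, -⟩ :=
      exists_isAffineOpen_mem_and_subset (X := (D.obj ⟨⟩).left) (x := v) (U := ⊤) trivial
    obtain ⟨D', j, hj⟩ := exists_openSub D (fun _ => U) (isStable_of_universallyInjective D U)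
    obtain ⟨e, he₁, he₂⟩ := hj ⟨⟩
    have : IsAffine U.toScheme := hU
    have : IsAffine (D'.obj ⟨⟩).left := .of_isIso e.hom
    have : IsAffineHom ((D'.obj ⟨⟩).hom ≫ p) := inferInstance
    have hD' : ∀ i, IsAffineHom (D'.obj i).hom := fun _ =>
      MorphismProperty.of_postcomp (W := @IsAffineHom) (W' := @IsSeparated) _ p inferInstance this
    have hjo : ∀ i, IsOpenImmersion (j.hom i).left := fun _ => by
      rw [← he₁]; infer_instance
    obtain ⟨C, hC⟩ := exists_chart_of_hom D' j hjo
      (isEffective_of_isAffineHom (single_mem_fpqc p) hD')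
    refine ⟨C, ?_⟩
    rw [hC]
    refine ⟨e.inv ⟨v, hvU⟩, ?_⟩
    rw [← he₁, ← Scheme.Hom.comp_apply, Iso.inv_hom_id_assoc]
    rfl
  choose C hC using key
  exact isEffective_of_charts D (single_mem_fpqc p) C fun _ v => ⟨v, hC v⟩

/-- Descent data along radicial flat quasi-compact surjections are effective. -/
theorem isEffective_of_radicial (p : X ⟶ S) [Flat p] [Surjective p] [QuasiCompact p]
    [UniversallyInjective p] (D : Desc.SchDDFam (fun _ : PUnit.{u + 1} => p)) :
    D.IsEffective := by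
  have key : ∀ V : S.affineOpens, Nonempty (Rep D V.1.ι) := by
    intro V
    have : IsAffine V.1.toScheme := V.2
    let π := p ∣_ V.1
    have : UniversallyInjective π := IsZariskiLocalAtTarget.restrict ‹_› V.1
    have : Flat π := IsZariskiLocalAtTarget.restrict ‹_› V.1
    have : Surjective π := IsZariskiLocalAtTarget.restrict ‹_› V.1
    have : QuasiCompact π := IsZariskiLocalAtTarget.restrict ‹_› V.1
    let R : Rep D (π ≫ V.1.ι) :=
      Rep.ofMember D ⟨⟩ (p ⁻¹ᵁ V.1).ι (morphismRestrict_ι p V.1).symm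
    exact nonempty_rep_descend π R (single_mem_fpqc π) (isEffective_radicial_single π _)
  exact isEffective_of_rep_cover (single_mem_fpqc p) (fun V : S.affineOpens => V.1)
    (fun s => (exists_isAffineOpen_mem_and_subset (X := S) (x := s) (U := ⊤) trivial).elim
      fun V h => ⟨⟨V, h.1⟩, h.2.1⟩) fun V => (key V).some

end Groth.Agent.SchDesc12
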