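import Groth.Prelude.Def_DescFam
import Mathlib.AlgebraicGeometry.Sites.BigZariski

/-!
# Descended sections of descent data for schemes

A descent datum `D` relative to a family defines the presheaf sending `T` to pairs of a morphism
`t : T ⟶ S` and a compatible family of points of the `D.obj i` over the base changes of `t`.
If it is representable, `D` is effective; no hypothesis on the family is needed for this.
-/

universe u

open CategoryTheory CategoryTheory.Limits AlgebraicGeometry Opposite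

set_option backward.isDefEq.respectTransparency.types false

namespace Groth.Agent.SchDesc12

variable {S : Scheme.{u}} {ι : Type u} {X : ι → Scheme.{u}} {f : ∀ i, X i ⟶ S}
  (D : Desc.SchDDFam f)

/-- A compatible family of sections of `D` over `t : T ⟶ S`. -/
structure Sec {T : Scheme.{u}} (t : T ⟶ S) where
  /-- the sections -/
  val : ∀ i, pullback t (f i) ⟶ (D.obj i).left
  over_ : ∀ i, val i ≫ (D.obj i).hom = pullback.snd t (f i)
  compat : ∀ ⦃T' : Scheme.{u}⦄ ⦃i j : ι⦄ (a : T' ⟶ T) (x₀ : T' ⟶ X i) (x₁ : T' ⟶ X j)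
    (h₀ : a ≫ t = x₀ ≫ f i) (h₁ : a ≫ t = x₁ ≫ f j),
    (D.φ x₀ x₁ (h₀.symm.trans h₁)
        ⟨pullback.lift a x₀ h₀ ≫ val i, by rw [Category.assoc, over_, pullback.lift_snd]⟩).1 =
      pullback.lift a x₁ h₁ ≫ val j

variable {D}

namespace Sec

variable {T : Scheme.{u}} {t : T ⟶ S} (σ : Sec D t)

/-- The value of a section at a point. -/
noncomputable def eval {T' : Scheme.{u}} {i : ι} (a : T' ⟶ T) (x : T' ⟶ X i) (h : a ≫ t = x ≫ f i) :
    Desc.Lifts (D.obj i) x :=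
  ⟨pullback.lift a x h ≫ σ.val i, by rw [Category.assoc, σ.over_, pullback.lift_snd]⟩

theorem eval_natural {T' T'' : Scheme.{u}} {i : ι} (g : T'' ⟶ T') (a : T' ⟶ T) (x : T' ⟶ X i)
    (h : a ≫ t = x ≫ f i) (a' : T'' ⟶ T) (x' : T'' ⟶ X i) (ha : g ≫ a = a') (hx : g ≫ x = x')
    (h' : a' ≫ t = x' ≫ f i) : (σ.eval a' x' h').1 = g ≫ (σ.eval a x h).1 := by
  subst ha hx
  show pullback.lift _ _ h' ≫ σ.val i = g ≫ pullback.lift a x h ≫ σ.val i
  rw [← Category.assoc g]
  congr 1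
  apply pullback.hom_ext
  · rw [Category.assoc, pullback.lift_fst, pullback.lift_fst]
  · rw [Category.assoc, pullback.lift_snd, pullback.lift_snd]

theorem eval_compat {T' : Scheme.{u}} {i j : ι} (a : T' ⟶ T) (x₀ : T' ⟶ X i) (x₁ : T' ⟶ X j)
    (h₀ : a ≫ t = x₀ ≫ f i) (h₁ : a ≫ t = x₁ ≫ f j) :
    D.φ x₀ x₁ (h₀.symm.trans h₁) (σ.eval a x₀ h₀) = σ.eval a x₁ h₁ :=
  Subtype.ext (σ.compat a x₀ x₁ h₀ h₁)

theorem val_eq_eval (i : ι) :
    σ.val i = (σ.eval (pullback.fst t (f i)) (pullback.snd t (f i)) pullback.condition).1 := by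
  show σ.val i = pullback.lift _ _ _ ≫ σ.val i
  rw [show pullback.lift (pullback.fst t (f i)) (pullback.snd t (f i)) pullback.condition = 𝟙 _ by
    apply pullback.hom_ext <;> simp, Category.id_comp]

theorem ext' {σ' : Sec D t} (h : ∀ i, σ.val i = σ'.val i) : σ = σ' := by
  obtain ⟨v, _, _⟩ := σ
  obtain ⟨v', _, _⟩ := σ'
  obtain rfl : v = v' := funext h
  rfl

/-- Sections from their values at all points. -/
noncomputable def mk' (F : ∀ ⦃T' : Scheme.{u}⦄ (i : ι) (a : T' ⟶ T) (x : T' ⟶ X i),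
      a ≫ t = x ≫ f i → Desc.Lifts (D.obj i) x)
    (hnat : ∀ ⦃T' T'' : Scheme.{u}⦄ (i : ι) (g : T'' ⟶ T') (a : T' ⟶ T) (x : T' ⟶ X i)
      (h : a ≫ t = x ≫ f i) (h' : (g ≫ a) ≫ t = (g ≫ x) ≫ f i),
      (F i (g ≫ a) (g ≫ x) h').1 = g ≫ (F i a x h).1)
    (hcompat : ∀ ⦃T' : Scheme.{u}⦄ (i j : ι) (a : T' ⟶ T) (x₀ : T' ⟶ X i) (x₁ : T' ⟶ X j)
      (h₀ : a ≫ t = x₀ ≫ f i) (h₁ : a ≫ t = x₁ ≫ f j),
      D.φ x₀ x₁ (h₀.symm.trans h₁) (F i a x₀ h₀) = F j a x₁ h₁) : Sec D t where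
  val i := (F i (pullback.fst t (f i)) (pullback.snd t (f i)) pullback.condition).1
  over_ i := (F i (pullback.fst t (f i)) (pullback.snd t (f i)) pullback.condition).2
  compat T' i j a x₀ x₁ h₀ h₁ := by
    have key : ∀ (k : ι) (x : T' ⟶ X k) (h : a ≫ t = x ≫ f k),
        pullback.lift a x h ≫ (F k (pullback.fst t (f k)) (pullback.snd t (f k))
          pullback.condition).1 = (F k a x h).1 := fun k x h => by
      rw [← hnat k (pullback.lift a x h) _ _ pullback.condition (by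
        simp only [pullback.lift_fst, pullback.lift_snd, h])]
      have hh : ∀ (a' : T' ⟶ T) (x' : T' ⟶ X k) (h' : a' ≫ t = x' ≫ f k), a' = a → x' = x →
          (F k a' x' h').1 = (F k a x h).1 := by
        rintro a' x' h' rfl rfl
        rfl
      exact hh _ _ _ (pullback.lift_fst ..) (pullback.lift_snd ..)
    rw [key j x₁ h₁, ← hcompat i j a x₀ x₁ h₀ h₁]
    exact congrArg (fun v => (D.φ x₀ x₁ _ v).1) (Subtype.ext (key i x₀ h₀))

theorem eval_mk' (F : ∀ ⦃T' : Scheme.{u}⦄ (i : ι) (a : T' ⟶ T) (x : T' ⟶ X i),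
      a ≫ t = x ≫ f i → Desc.Lifts (D.obj i) x) (hnat hcompat) {T' : Scheme.{u}} (i : ι)
    (a : T' ⟶ T) (x : T' ⟶ X i) (h : a ≫ t = x ≫ f i) :
    (mk' F hnat hcompat).eval a x h = F i a x h := by
  apply Subtype.ext
  show pullback.lift a x h ≫ (F i _ _ _).1 = _
  rw [← hnat i (pullback.lift a x h) _ _ pullback.condition (by
    simp only [pullback.lift_fst, pullback.lift_snd, h])]
  have hh : ∀ (a' : T' ⟶ T) (x' : T' ⟶ X i) (h' : a' ≫ t = x' ≫ f i), a' = a → x' = x →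
      (F i a' x' h').1 = (F i a x h).1 := by
    rintro a' x' h' rfl rfl
    rfl
  exact hh _ _ _ (pullback.lift_fst ..) (pullback.lift_snd ..)

/-- Restriction of sections. -/
noncomputable def pull {T' : Scheme.{u}} (g : T' ⟶ T) {t' : T' ⟶ S} (ht : g ≫ t = t') :
    Sec D t' :=
  mk' (fun T'' i a x h => σ.eval (a ≫ g) x (by rw [Category.assoc, ht, h]))
    (fun T'' T''' i k a x h h' => σ.eval_natural k _ _ _ _ _ (Category.assoc _ _ _).symm rfl _)
    (fun T'' i j a x₀ x₁ h₀ h₁ => σ.eval_compat _ _ _ _ _)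

theorem eval_pull {T' T'' : Scheme.{u}} (g : T' ⟶ T) {t' : T' ⟶ S} (ht : g ≫ t = t') {i : ι}
    (a : T'' ⟶ T') (x : T'' ⟶ X i) (h : a ≫ t' = x ≫ f i) :
    (σ.pull g ht).eval a x h = σ.eval (a ≫ g) x (by rw [Category.assoc, ht, h]) :=
  eval_mk' _ _ _ _ _ _ _

theorem ext_eval {σ' : Sec D t}
    (h : ∀ ⦃T' : Scheme.{u}⦄ (i : ι) (a : T' ⟶ T) (x : T' ⟶ X i) (h : a ≫ t = x ≫ f i),
      (σ.eval a x h).1 = (σ'.eval a x h).1) : σ = σ' :=
  σ.ext' fun i => by rw [val_eq_eval, val_eq_eval, h]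

end Sec

variable (D)

/-- The points of the descended object. -/
abbrev Pt (T : Scheme.{u}) : Type u := Σ t : T ⟶ S, Sec D t

variable {D}

theorem Pt.ext' {T : Scheme.{u}} {p q : Pt D T} (h : p.1 = q.1)
    (h' : ∀ ⦃T' : Scheme.{u}⦄ (i : ι) (a : T' ⟶ T) (x : T' ⟶ X i) (e : a ≫ p.1 = x ≫ f i),
      (p.2.eval a x e).1 = (q.2.eval a x (h ▸ e)).1) : p = q := by
  obtain ⟨t, σ⟩ := p
  obtain ⟨t', σ'⟩ := q
  obtain rfl : t = t' := h
  rw [σ.ext_eval (σ' := σ') h']

theorem Pt.eval_congr {T : Scheme.{u}} {P Q : Pt D T} (h : P = Q) {T' : Scheme.{u}} {i : ι}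
    (a : T' ⟶ T) (x : T' ⟶ X i) (e : a ≫ P.1 = x ≫ f i) :
    (P.2.eval a x e).1 = (Q.2.eval a x (h ▸ e)).1 := by
  subst h; rfl

variable (D)

/-- The presheaf of points of the descended object. -/
noncomputable def presheaf : Scheme.{u}ᵒᵖ ⥤ Type u where
  obj T := Pt D T.unop
  map {T T'} g := TypeCat.ofHom (fun p => (⟨g.unop ≫ p.1, p.2.pull g.unop rfl⟩ : Pt D T'.unop))
  map_id T := by
    apply ConcreteCategory.hom_ext
    intro p
    show (⟨_, _⟩ : Pt D T.unop) = p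
    refine Pt.ext' (Category.id_comp _) fun T' i a x e => ?_
    exact (congrArg Subtype.val (Sec.eval_pull _ _ rfl _ _ _)).trans
      (p.2.eval_natural (𝟙 T') _ _ _ _ _ (by simp) (by simp) _ |>.trans (Category.id_comp _))
  map_comp {T T' T''} g g' := by
    apply ConcreteCategory.hom_ext
    intro p
    show (⟨_, _⟩ : Pt D T''.unop) = ⟨_, _⟩
    refine Pt.ext' (Category.assoc _ _ _) fun T₀ i a x e => ?_
    refine (congrArg Subtype.val (Sec.eval_pull _ _ rfl _ _ _)).trans ?_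
    refine Eq.trans ?_ (congrArg Subtype.val (Sec.eval_pull _ _ rfl _ _ _)).symm
    refine Eq.trans ?_ (congrArg Subtype.val (Sec.eval_pull _ _ rfl _ _ _)).symm
    exact (p.2.eval_natural (𝟙 T₀) _ _ _ _ _ (by simp) (by simp) _).trans (Category.id_comp _)

/-- A point of `D.obj i` gives a section. -/
noncomputable def ofLift {T : Scheme.{u}} {i : ι} {x : T ⟶ X i} (v : Desc.Lifts (D.obj i) x) :
    Sec D (x ≫ f i) :=
  Sec.mk' (fun T' j a y h => D.φ (a ≫ x) y ((Category.assoc _ _ _).trans h)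
      ⟨a ≫ v.1, by rw [Category.assoc, v.2]⟩)
    (fun T' T'' j g a y h h' => D.φ_natural g _ _ _ _ _ (Category.assoc _ _ _).symm rfl _ _ _
      (Category.assoc _ _ _))
    (fun T' j k a y₀ y₁ h₀ h₁ => D.φ_comp _ _ _ _ _ _)

theorem eval_ofLift {T T' : Scheme.{u}} {i j : ι} {x : T ⟶ X i} (v : Desc.Lifts (D.obj i) x)
    (a : T' ⟶ T) (y : T' ⟶ X j) (e : a ≫ x ≫ f i = y ≫ f j) :
    (ofLift D v).eval a y e = D.φ (a ≫ x) y ((Category.assoc _ _ _).trans e)
      ⟨a ≫ v.1, by rw [Category.assoc, v.2]⟩ :=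
  Sec.eval_mk' _ _ _ _ _ _ _

/-- A descent datum whose presheaf of points is representable is effective. -/
theorem isEffective_of_representable (h : (presheaf D).IsRepresentable) : D.IsEffective := by
  obtain ⟨U, ⟨R⟩⟩ := h
  obtain ⟨p, hp⟩ : ∃ p : Pt D U, p = R.homEquiv (𝟙 U) := ⟨_, rfl⟩
  let U' : Over S := Over.mk p.1
  -- a morphism to `U` has the underlying point obtained by restriction
  have key : ∀ {T : Scheme.{u}} (g : T ⟶ U), R.homEquiv g = (presheaf D).map g.op p := fun g =>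
    ((congrArg R.homEquiv (Category.comp_id g).symm).trans (R.homEquiv_comp g (𝟙 U))).trans
      (congrArg _ hp.symm)
  have key₁ : ∀ {T : Scheme.{u}} (g : T ⟶ U), (R.homEquiv g).1 = g ≫ p.1 := fun g => by
    rw [key]; rfl
  have key₂ : ∀ {T T' : Scheme.{u}} (g : T ⟶ U) (i : ι) (a : T' ⟶ T) (x : T' ⟶ X i)
      (e : a ≫ (R.homEquiv g).1 = x ≫ f i),
      ((R.homEquiv g).2.eval a x e).1 = (p.2.eval (a ≫ g) x (by
        rw [Category.assoc, ← key₁ g, e])).1 := fun {T T'} g i a x e => by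
    exact (Pt.eval_congr (P := R.homEquiv g) (Q := (⟨g ≫ p.1, p.2.pull g (t' := g ≫ p.1) rfl⟩ : Pt D T)) (key g)
      a x e).trans (congrArg Subtype.val (Sec.eval_pull _ _ rfl _ _ _))
  let tw : ∀ i, (Desc.canonicalDDFam f U').obj i ⟶ D.obj i := fun i =>
    Over.homMk (p.2.eval (pullback.snd (f i) U'.hom) (pullback.fst (f i) U'.hom)
      pullback.condition.symm).1
      (p.2.eval (pullback.snd (f i) U'.hom) (pullback.fst (f i) U'.hom) pullback.condition.symm).2
  let pt : ∀ i, Pt D (D.obj i).left := fun i =>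
    ⟨(D.obj i).hom ≫ f i, ofLift D (x := (D.obj i).hom) ⟨𝟙 _, Category.id_comp _⟩⟩
  let q : ∀ i, (D.obj i).left ⟶ U := fun i => R.homEquiv.symm (pt i)
  have hq : ∀ i, R.homEquiv (q i) = pt i := fun i => R.homEquiv.apply_symm_apply _
  have hqS : ∀ i, (D.obj i).hom ≫ f i = q i ≫ p.1 := fun i => by rw [← key₁, hq]
  let inv : ∀ i, D.obj i ⟶ (Desc.canonicalDDFam f U').obj i := fun i =>
    Over.homMk (pullback.lift (D.obj i).hom (q i) (hqS i)) (pullback.lift_fst _ _ _)
  -- values of the universal section along `q i`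
  have hval : ∀ {T : Scheme.{u}} (i j : ι) (a : T ⟶ (D.obj i).left) (x : T ⟶ X j)
      (e : (a ≫ q i) ≫ p.1 = x ≫ f j),
      (p.2.eval (a ≫ q i) x e).1 = (D.φ (a ≫ (D.obj i).hom) x
        (by rw [Category.assoc, hqS, ← Category.assoc, e]) ⟨a, rfl⟩).1 := fun {T} i j a x e => by
    have e' : a ≫ (R.homEquiv (q i)).1 = x ≫ f j := by
      rw [key₁, ← Category.assoc, e]
    rw [← key₂ (q i) j a x e']
    refine (Pt.eval_congr (P := R.homEquiv (q i)) (Q := pt i) (hq i) a x e').trans ?_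
    refine (congrArg Subtype.val (eval_ofLift D (i := i) (x := (D.obj i).hom) _ a x _)).trans ?_
    exact congrArg (fun v => (D.φ _ x _ v).1) (Subtype.ext (Category.comp_id a))
  -- the universal section determines morphisms to `U`
  have huniq : ∀ {T : Scheme.{u}} (i : ι) (z : T ⟶ pullback (f i) U'.hom)
      (a : T ⟶ (D.obj i).left), a = z ≫ (tw i).left → a ≫ q i = z ≫ pullback.snd (f i) U'.hom := by
    intro T i z a ha
    apply R.homEquiv.injective
    have e1 : (z ≫ pullback.snd (f i) U'.hom) ≫ p.1 = (z ≫ pullback.fst (f i) U'.hom) ≫ f i := by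
      simp [pullback.condition, U']
    have ev : a = (p.2.eval (z ≫ pullback.snd (f i) U'.hom) (z ≫ pullback.fst (f i) U'.hom) e1).1 :=
      ha.trans (p.2.eval_natural z _ _ _ _ _ rfl rfl _).symm
    have hS : (a ≫ q i) ≫ p.1 = (z ≫ pullback.snd (f i) U'.hom) ≫ p.1 := by
      rw [Category.assoc, ← hqS, ← Category.assoc, e1, ev]
      rw [(p.2.eval _ _ e1).2]
    refine Pt.ext' ((key₁ (a ≫ q i)).trans (hS.trans (key₁ _).symm)) fun T' j b y e => ?_
    rw [key₂, key₂]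
    have e2 : ((b ≫ a) ≫ q i) ≫ p.1 = y ≫ f j := by
      rw [← e, key₁]; simp only [Category.assoc]
    have e3 : (b ≫ z ≫ pullback.fst (f i) U'.hom) ≫ f i = y ≫ f j := by
      rw [Category.assoc, ← e1, ← hS, ← e2]; simp only [Category.assoc]
    have hcomp := p.2.eval_compat (b ≫ z ≫ pullback.snd (f i) U'.hom)
      (b ≫ z ≫ pullback.fst (f i) U'.hom) y
      (by rw [Category.assoc, e1]; exact (Category.assoc _ _ _).symm) (by rw [Category.assoc, ← hS, ← e2]; simp only [Category.assoc])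
    refine Eq.trans ?_ (congrArg Subtype.val hcomp)
    refine (p.2.eval_natural (𝟙 _) ((b ≫ a) ≫ q i) y e2 _ _ (by simp) (by simp) _).trans ?_
    rw [Category.id_comp, hval]
    have hx : (b ≫ a) ≫ (D.obj i).hom = b ≫ z ≫ pullback.fst (f i) U'.hom := by
      rw [Category.assoc, ev, (p.2.eval _ _ e1).2]
    have hh : ∀ (x₀ : T' ⟶ X i) (e₀ : x₀ ≫ f i = y ≫ f j) (v : Desc.Lifts (D.obj i) x₀),
        x₀ = b ≫ z ≫ pullback.fst (f i) U'.hom →
        v.1 = b ≫ a → (D.φ x₀ y e₀ v).1 = (D.φ (b ≫ z ≫ pullback.fst (f i) U'.hom) y e3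
          (p.2.eval (b ≫ z ≫ pullback.snd (f i) U'.hom) (b ≫ z ≫ pullback.fst (f i) U'.hom)
            (by rw [Category.assoc, e1]; exact (Category.assoc _ _ _).symm))).1 := by
      rintro x₀ e₀ v rfl hv
      congr 2
      refine Subtype.ext (hv.trans ?_)
      rw [ev]
      exact (p.2.eval_natural b _ _ _ _ _ rfl rfl _).symm
    exact hh _ _ _ hx rfl
  refine ⟨U', ⟨⟨⟨tw, fun T i j x₀ x₁ h v w hw => ?_⟩, ⟨inv, fun T i j x₀ x₁ h v w hw => ?_⟩,
    Desc.SchDDFam.hom_ext (funext fun i => Over.OverMorphism.ext ?_),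
    Desc.SchDDFam.hom_ext (funext fun i => Over.OverMorphism.ext ?_)⟩⟩⟩
  · have hv2 : (((Desc.canonicalDDFam f U').φ x₀ x₁ h v).1) ≫ pullback.snd (f j) U'.hom =
        v.1 ≫ pullback.snd (f i) U'.hom := pullback.lift_snd _ _ _
    have hv1 : v.1 ≫ pullback.fst (f i) U'.hom = x₀ := v.2
    have hv1' : ((Desc.canonicalDDFam f U').φ x₀ x₁ h v).1 ≫ pullback.fst (f j) U'.hom = x₁ :=
      ((Desc.canonicalDDFam f U').φ x₀ x₁ h v).2
    have e0 : (v.1 ≫ pullback.snd (f i) U'.hom) ≫ p.1 = x₀ ≫ f i := by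
      refine Eq.trans ?_ (congrArg (· ≫ f i) hv1)
      erw [Category.assoc, Category.assoc]
      exact congrArg (v.1 ≫ ·) pullback.condition.symm
    have ew : w = p.2.eval (v.1 ≫ pullback.snd (f i) U'.hom) x₀ e0 := Subtype.ext (hw.trans
      (p.2.eval_natural v.1 _ _ _ _ _ rfl hv1 _).symm)
    rw [ew, p.2.eval_compat _ _ _ e0 (e0.trans h)]
    exact p.2.eval_natural _ _ _ _ _ _ hv2 hv1' _
  · show ((Desc.canonicalDDFam f U').φ x₀ x₁ h w).1 =
      (D.φ x₀ x₁ h v).1 ≫ pullback.lift (D.obj j).hom (q j) (hqS j)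
    apply pullback.hom_ext
    · refine (pullback.lift_fst _ _ _).trans ?_
      refine Eq.trans ?_ (Category.assoc _ _ _).symm
      refine ((D.φ x₀ x₁ h v).2).symm.trans (congrArg (_ ≫ ·) (pullback.lift_fst _ _ _).symm)
    · refine (pullback.lift_snd _ _ _).trans ?_
      refine Eq.trans ?_ (Category.assoc _ _ _).symm
      refine Eq.trans ?_ (congrArg (_ ≫ ·) (pullback.lift_snd _ _ _).symm)
      refine (congrArg (fun m : T ⟶ pullback (f i) U'.hom => m ≫ pullback.snd (f i) U'.hom) hw).trans ?_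
      refine (Category.assoc _ _ _).trans ((congrArg (v.1 ≫ ·) (pullback.lift_snd _ _ _)).trans ?_)
      symm
      let a := (D.φ x₀ x₁ h v).1
      let z : T ⟶ pullback (f j) U'.hom := pullback.lift x₁ (v.1 ≫ q i) (by
        exact h.symm.trans ((congrArg (· ≫ f i) v.2).symm.trans ((Category.assoc _ _ _).trans
          ((congrArg (v.1 ≫ ·) (hqS i)).trans (Category.assoc _ _ _).symm))))
      refine (huniq j z a ?_).trans (pullback.lift_snd _ _ _)
      have e0 : (v.1 ≫ q i) ≫ p.1 = x₁ ≫ f j := by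
        rw [Category.assoc, ← hqS, ← Category.assoc, v.2, h]
      refine Eq.trans ?_ (p.2.eval_natural z _ _ pullback.condition.symm _ _
        (pullback.lift_snd _ _ _) (pullback.lift_fst _ _ _) e0)
      rw [hval]
      have hh : ∀ (x : T ⟶ X i) (e : x ≫ f i = x₁ ≫ f j) (v' : Desc.Lifts (D.obj i) x), x = x₀ →
          v'.1 = v.1 → a = (D.φ x x₁ e v').1 := by
        rintro x e v' rfl hv
        rw [Subtype.ext hv]
      exact hh _ _ _ v.2 rfl
  · show (tw i).left ≫ pullback.lift (D.obj i).hom (q i) (hqS i) = 𝟙 _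
    apply pullback.hom_ext
    · refine (Category.assoc _ _ _).trans ((congrArg ((tw i).left ≫ ·) (pullback.lift_fst _ _ _)).trans ?_)
      exact (Over.w (tw i)).trans (Category.id_comp _).symm
    · refine (Category.assoc _ _ _).trans ((congrArg ((tw i).left ≫ ·) (pullback.lift_snd _ _ _)).trans ?_)
      exact huniq i (𝟙 _) _ (Category.id_comp _).symm
  · show pullback.lift (D.obj i).hom (q i) (hqS i) ≫ (tw i).left = 𝟙 _
    have e0 : (𝟙 _ ≫ q i) ≫ p.1 = (D.obj i).hom ≫ f i := by rw [Category.id_comp, hqS]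
    refine ((p.2.eval_natural (pullback.lift (D.obj i).hom (q i) (hqS i)) _ _
      pullback.condition.symm _ _ ((pullback.lift_snd _ _ _).trans (Category.id_comp _).symm)
      (pullback.lift_fst _ _ _) e0).symm).trans ?_
    rw [hval]
    have hh : ∀ (x : (D.obj i).left ⟶ X i) (e : x ≫ f i = (D.obj i).hom ≫ f i)
        (v' : Desc.Lifts (D.obj i) x), x = (D.obj i).hom → v'.1 = 𝟙 _ →
        (D.φ x (D.obj i).hom e v').1 = 𝟙 _ := by
      rintro x e v' rfl hv
      rw [D.φ_self, hv]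
    exact hh _ _ _ (Category.id_comp _) rfl

end Groth.Agent.SchDesc12
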