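import Groth.Agent.Lib.SchDesc12.Descend
import Groth.Agent.Lib.SchDesc12.FullFaithful

/-!
# Zariski refinements give equivalent categories of descent data
-/

universe u

open CategoryTheory CategoryTheory.Limits AlgebraicGeometry

set_option backward.isDefEq.respectTransparency.types false

namespace Groth.Agent.SchDesc12

/-- Descent data relative to a covering with Zariski local sections are effective. -/
theorem isEffective_of_local_sections {S : Scheme.{u}} {ι : Type u} {X : ι → Scheme.{u}}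
    {f : ∀ i, X i ⟶ S} (hf : Presieve.ofArrows X f ∈ Scheme.fpqcPrecoverage S) {κ : Type u}
    (O : κ → S.Opens) (hO : ∀ s : S, ∃ k, s ∈ O k) (a : κ → ι) (σ : ∀ k, (O k).toScheme ⟶ X (a k))
    (hσ : ∀ k, σ k ≫ f (a k) = (O k).ι) (D : Desc.SchDDFam f) : D.IsEffective :=
  isEffective_of_rep_cover hf O hO fun k => Rep.ofMember D (a k) (σ k) (hσ k)

variable {S : Scheme.{u}} {ι κ : Type u} {U : ι → Scheme.{u}} {V : κ → Scheme.{u}}
  {u : ∀ i, U i ⟶ S} {v : ∀ j, V j ⟶ S} {α : ι → κ} {g : ∀ i, U i ⟶ V (α i)}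
  (w : ∀ i, g i ≫ v (α i) = u i ≫ 𝟙 S)

include w in
/-- The sections of a datum on the refinement are representable over the members. -/
theorem nonempty_rep_member (D : Desc.SchDDFam u) (j : κ)
    (hcov : Presieve.ofArrows (fun k : {i // α i = j} => U k.1) (fibFam g j) ∈
      Scheme.zariskiPrecoverage (V j)) : Nonempty (Rep D (v j)) := by
  obtain ⟨hsurj, hopen⟩ := (Scheme.ofArrows_mem_precoverage_iff _).1 hcov
  let Y : {i // α i = j} → Scheme.{u} := fun k => U k.1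
  let π : ∐ Y ⟶ V j := Limits.Sigma.desc (fibFam g j)
  have hw : ∀ k : {i // α i = j}, u k.1 = Sigma.ι Y k ≫ π ≫ v j := fun k => by
    obtain ⟨i, rfl⟩ := k
    rw [Sigma.ι_desc_assoc]
    simpa using (w i).symm
  obtain ⟨R', -⟩ := exists_rep_sigma (D := D) (Y := Y) (g := π ≫ v j)
    fun k => Rep.ofMember D k.1 (𝟙 _) ((Category.id_comp _).trans (hw k))
  have : Flat π := IsZariskiLocalAtSource.sigmaDesc fun k => by
    have := hopen k
    infer_instance
  have hπ : IsOpenMap π := fun W hW => by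
    have : π '' W = ⋃ k, fibFam g j k '' (Sigma.ι Y k ⁻¹' W) := by
      ext p
      simp only [Set.mem_image, Set.mem_iUnion, Set.mem_preimage]
      constructor
      · rintro ⟨y, hy, rfl⟩
        obtain ⟨k, z, rfl⟩ := (sigmaOpenCover Y).exists_eq y
        exact ⟨k, z, hy, (congrArg (fun m : Y k ⟶ V j => m z) (Sigma.ι_desc (fibFam g j) k)).symm⟩
      · rintro ⟨k, z, hz, rfl⟩
        exact ⟨Sigma.ι Y k z, hz,
          congrArg (fun m : Y k ⟶ V j => m z) (Sigma.ι_desc (fibFam g j) k)⟩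
    rw [this]
    exact isOpen_iUnion fun k => by
      have := hopen k
      exact (fibFam g j k).isOpenMap _ ((Sigma.ι Y k).continuous.isOpen_preimage _ hW)
  have hπ' : Presieve.ofArrows (fun _ : PUnit.{u + 1} => ∐ Y) (fun _ => π) ∈
      Scheme.fpqcPrecoverage (V j) := by
    have hs : Surjective π := ⟨fun p => by
      obtain ⟨k, z, hz⟩ := hsurj p
      exact ⟨Sigma.ι Y k z, (congrArg (fun m : Y k ⟶ V j => m z)
        (Sigma.ι_desc (fibFam g j) k)).trans hz⟩⟩
    refine ⟨Scheme.precoverage_le_qcPrecoverage_of_isOpenMap (P := fun _ _ m => IsOpenMap m)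
      (fun _ _ _ hm => hm) _ ?_, ?_⟩
    · exact (Scheme.ofArrows_mem_precoverage_iff _).2
        ⟨fun p => ⟨⟨⟩, hs.surj p⟩, fun _ => hπ⟩
    · exact (Scheme.ofArrows_mem_precoverage_iff _).2
        ⟨fun p => ⟨⟨⟩, hs.surj p⟩, fun _ => inferInstance⟩
  refine nonempty_rep_descend π R' hπ' (isEffective_of_local_sections hπ'
    (κ := {i // α i = j}) (fun k => haveI := hopen k; (fibFam g j k).opensRange) (fun p => ?_)
    (fun _ => ⟨⟩) (fun k => haveI := hopen k; (fibFam g j k).isoOpensRange.inv ≫ Sigma.ι Y k)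
    (fun k => ?_) _)
  · obtain ⟨k, z, hz⟩ := hsurj p
    exact ⟨k, z, hz⟩
  · have := hopen k
    rw [Category.assoc, Sigma.ι_desc, Iso.inv_comp_eq, Scheme.Hom.isoOpensRange_hom_ι]

section repFam

variable {D : Desc.SchDDFam u} (R : ∀ j, Rep D (v j))

/-- Points of a representation are sections. -/
noncomputable def Rep.ptEquiv {Z : Scheme.{u}} {q : Z ⟶ S} (R : Rep D q) {T : Scheme.{u}}
    (z : T ⟶ Z) {t : T ⟶ S} (ht : z ≫ q = t) : Desc.Lifts (Over.mk R.π) z ≃ Sec D t :=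
  Equiv.ofBijective (fun b => R.univ.pull b.1
    ((Category.assoc _ _ _).symm.trans ((congrArg (· ≫ q) b.2).trans ht)))
    ⟨fun b b' h => Subtype.ext (R.hom_ext _ _ (b.2.trans b'.2.symm) fun T' i a x e e' => by
      subst ht
      have e₀ : a ≫ z ≫ q = x ≫ u i := by
        rw [← e, Category.assoc, ← Category.assoc b.1]
        exact congrArg (fun m => a ≫ m ≫ q) b.2.symm
      have := congrArg (fun s => (Sec.eval s a x e₀).1) h
      exact ((congrArg Subtype.val (Sec.eval_pull _ _ _ _ _ _)).symm.trans this).trans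
        (congrArg Subtype.val (Sec.eval_pull _ _ _ _ _ _))), fun σ => by
      subst ht
      obtain ⟨b, hb, hb'⟩ := R.exists_lift z σ
      refine ⟨⟨b, hb⟩, Sec.ext_eval _ fun T' i a x e => ?_⟩
      exact (congrArg Subtype.val (Sec.eval_pull _ _ _ _ _ _)).trans (hb' i a x e _)⟩

theorem Rep.eval_ptEquiv {Z : Scheme.{u}} {q : Z ⟶ S} (R : Rep D q) {T : Scheme.{u}} (z : T ⟶ Z)
    {t : T ⟶ S} (ht : z ≫ q = t) (b : Desc.Lifts (Over.mk R.π) z) {T' : Scheme.{u}} {i : ι}
    (a : T' ⟶ T) (x : T' ⟶ U i) (e : a ≫ t = x ≫ u i)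
    (e' : (a ≫ b.1) ≫ R.π ≫ q = x ≫ u i) :
    ((R.ptEquiv z ht b).eval a x e).1 = (R.univ.eval (a ≫ b.1) x e').1 :=
  congrArg Subtype.val (Sec.eval_pull R.univ b.1
    ((Category.assoc _ _ _).symm.trans ((congrArg (· ≫ q) b.2).trans ht)) a x e)

theorem Rep.ptEquiv_natural {Z : Scheme.{u}} {q : Z ⟶ S} (R : Rep D q) {T T' : Scheme.{u}}
    (c : T' ⟶ T) (z : T ⟶ Z) (z' : T' ⟶ Z) {t : T ⟶ S} {t' : T' ⟶ S} (ht : z ≫ q = t)
    (ht' : z' ≫ q = t') (hct : c ≫ t = t') (b : Desc.Lifts (Over.mk R.π) z)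
    (b' : Desc.Lifts (Over.mk R.π) z') (hb : b'.1 = c ≫ b.1) :
    R.ptEquiv z' ht' b' = (R.ptEquiv z ht b).pull c hct := by
  subst ht' ht
  refine Sec.ext_eval _ fun T'' i a x e => ?_
  refine Eq.trans ?_ (congrArg Subtype.val (Sec.eval_pull _ _ _ _ _ _)).symm
  have e' : (a ≫ b'.1) ≫ R.π ≫ q = x ≫ u i := by
    rw [← e, Category.assoc, ← Category.assoc b'.1]
    exact congrArg (fun m => a ≫ m ≫ q) b'.2
  refine (R.eval_ptEquiv z' rfl b' a x e e').trans ?_
  have hab : a ≫ b'.1 = (a ≫ c) ≫ b.1 := by rw [hb]; exact (Category.assoc _ _ _).symm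
  exact (Sec.eval_congr _ hab rfl e' (hab ▸ e')).trans
    (R.eval_ptEquiv z rfl b (a ≫ c) x _ _).symm

/-- The descent datum on the coarser family given by representations over its members. -/
noncomputable def repFam : Desc.SchDDFam v where
  obj j := Over.mk (R j).π
  φ T i j x₀ x₁ h := ((R i).ptEquiv x₀ (t := x₀ ≫ v i) rfl).trans ((R j).ptEquiv x₁ h.symm).symm
  φ_natural T T' c i j x₀ x₁ h y₀ y₁ hy₀ hy₁ h' b b' hb := by
    subst hy₀ hy₁
    let b₁ := ((R j).ptEquiv x₁ h.symm).symm ((R i).ptEquiv x₀ rfl b)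
    have h₂ : ((R j).ptEquiv (c ≫ x₁) h'.symm).symm ((R i).ptEquiv (c ≫ x₀) rfl b') =
        ⟨c ≫ b₁.1, by rw [Category.assoc, b₁.2]⟩ := by
      rw [Equiv.symm_apply_eq,
        (R i).ptEquiv_natural c x₀ (c ≫ x₀) rfl rfl (Category.assoc _ _ _).symm b b' hb,
        (R j).ptEquiv_natural c x₁ (c ≫ x₁) h.symm h'.symm (Category.assoc _ _ _).symm b₁
          ⟨c ≫ b₁.1, by rw [Category.assoc, b₁.2]⟩ rfl]
      exact congrArg (fun s => Sec.pull s c (Category.assoc _ _ _).symm)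
        (Equiv.apply_symm_apply _ _).symm
    exact congrArg Subtype.val h₂
  φ_self T i x b := ((R i).ptEquiv x rfl).symm_apply_apply b
  φ_comp T i j k x₀ x₁ x₂ h₀₁ h₁₂ b := by
    have hh : ∀ (t₁ t₂ : T ⟶ S) (ht : t₁ = t₂) (h₁ : x₁ ≫ v j = t₁) (h₂ : x₁ ≫ v j = t₂)
        (k₁ : x₂ ≫ v k = t₁) (k₂ : x₂ ≫ v k = t₂) (σ : Sec D t₁),
        ((R k).ptEquiv x₂ k₂).symm ((R j).ptEquiv x₁ h₂ (((R j).ptEquiv x₁ h₁).symm σ)) =
          ((R k).ptEquiv x₂ k₁).symm σ := by
      rintro t₁ _ rfl h₁ h₂ k₁ k₂ σ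
      rw [Equiv.apply_symm_apply]
    exact hh _ _ h₀₁ h₀₁.symm rfl (h₀₁.trans h₁₂).symm h₁₂.symm _

end repFam

/-- Pullback of descent data along a Zariski refinement is essentially surjective. -/
theorem essSurj_of_zariski (hcov : ∀ j, Presieve.ofArrows (fun k : {i // α i = j} => U k.1)
      (fibFam g j) ∈ Scheme.zariskiPrecoverage (V j)) : (Desc.pullDDFam w).EssSurj := by
  refine ⟨fun D => ?_⟩
  have R := fun j => (nonempty_rep_member w D j (hcov j)).some
  have ht : ∀ {T : Scheme.{u}} (i : ι) (x : T ⟶ U i), (x ≫ g i) ≫ v (α i) = x ≫ u i := fun i x => by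
    rw [Category.assoc, w, Category.comp_id]
  let E : ∀ {T : Scheme.{u}} (i : ι) (x : T ⟶ U i), Desc.Lifts (D.obj i) x ≃ Sec D (x ≫ u i) :=
    fun {T} i x =>
    { toFun := fun z => ofLift D z
      invFun := fun σ => σ.eval (𝟙 T) x (Category.id_comp _)
      left_inv := fun z => by
        refine (eval_ofLift D z (𝟙 T) x _).trans ?_
        have hh : ∀ (y : T ⟶ U i) (e : y ≫ u i = x ≫ u i) (z' : Desc.Lifts (D.obj i) y), y = x →
            z'.1 = z.1 → D.φ y x e z' = z := by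
          rintro y e z' rfl hz
          rw [D.φ_self]; exact Subtype.ext hz
        exact hh _ _ _ (Category.id_comp _) (Category.id_comp _)
      right_inv := fun σ => Sec.ext_eval _ fun T' k a y e => by
        refine (congrArg Subtype.val (eval_ofLift D _ a y e)).trans ?_
        have e₁ : a ≫ x ≫ u i = (a ≫ x) ≫ u i := (Category.assoc _ _ _).symm
        refine Eq.trans ?_ (congrArg Subtype.val (σ.eval_compat a (a ≫ x) y e₁ e))
        exact congrArg (fun z => (D.φ _ _ _ z).1) (Subtype.ext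
          (σ.eval_natural a (𝟙 T) x (Category.id_comp _) a (a ≫ x) (Category.comp_id a) rfl e₁).symm) }
  refine ⟨repFam R, ⟨isoOfPt
    { toFun := fun T i x z => (E i x).symm ((R (α i)).ptEquiv (x ≫ g i) (ht i x)
        (pullPt w (repFam R) i x z))
      natural := fun T T' i c x y hy z z' hz => ?_
      comm := fun T i j x₀ x₁ h z => ?_ }
    (fun T i x z => (pullPt w (repFam R) i x).symm
      (((R (α i)).ptEquiv (x ≫ g i) (ht i x)).symm (E i x z)))
    (fun T i x z => ?_) fun T i x z => ?_⟩⟩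
  · subst hy
    rw [(R (α i)).ptEquiv_natural c (x ≫ g i) ((c ≫ x) ≫ g i) (ht i x) (ht i (c ≫ x))
      (Category.assoc _ _ _).symm (pullPt w (repFam R) i x z) (pullPt w (repFam R) i (c ≫ x) z')
      (pullPt_natural w (repFam R) c x (c ≫ x) z z' hz)]
    show (Sec.eval _ (𝟙 T') (c ≫ x) _).1 = c ≫ (Sec.eval _ (𝟙 T) x _).1
    refine (congrArg Subtype.val (Sec.eval_pull _ _ _ _ _ _)).trans ?_
    exact Sec.eval_natural _ c _ _ _ _ _ (by simp) rfl _
  · apply (E j x₁).injective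
    rw [Equiv.apply_symm_apply, pullPt_φ]
    let σ := (R (α i)).ptEquiv (x₀ ≫ g i) (ht i x₀) (pullPt w (repFam R) i x₀ z)
    have hσ : (R (α j)).ptEquiv (x₁ ≫ g j) (ht j x₁) ((repFam R).φ (x₀ ≫ g i) (x₁ ≫ g j)
        (Desc.pull_compat w x₀ x₁ h) (pullPt w (repFam R) i x₀ z)) =
        σ.pull (𝟙 T) ((Category.id_comp _).trans h) := by
      have hh : ∀ (t₀ t₁ : T ⟶ S) (e : t₀ = t₁) (k₀ : (x₀ ≫ g i) ≫ v (α i) = t₀)
          (k₁ : (x₁ ≫ g j) ≫ v (α j) = t₁) (k₂ : (x₁ ≫ g j) ≫ v (α j) = (x₀ ≫ g i) ≫ v (α i))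
          (b : Desc.Lifts (Over.mk (R (α i)).π) (x₀ ≫ g i)),
          (R (α j)).ptEquiv (x₁ ≫ g j) k₁ (((R (α j)).ptEquiv (x₁ ≫ g j) k₂).symm
            ((R (α i)).ptEquiv (x₀ ≫ g i) rfl b)) =
          ((R (α i)).ptEquiv (x₀ ≫ g i) k₀ b).pull (𝟙 T) ((Category.id_comp _).trans e) := by
        rintro t₀ _ rfl rfl k₁ k₂ b
        rw [Equiv.apply_symm_apply]
        refine Sec.ext_eval _ fun T' k a y e => ?_
        refine Eq.trans ?_ (congrArg Subtype.val (Sec.eval_pull _ _ _ _ _ _)).symm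
        exact Sec.eval_congr _ (Category.comp_id a).symm rfl _ _
      exact hh _ _ h _ _ (Desc.pull_compat w x₀ x₁ h).symm _
    rw [hσ]
    refine Sec.ext_eval _ fun T' k a y e => ?_
    refine (congrArg Subtype.val (Sec.eval_pull _ _ _ _ _ _)).trans ?_
    refine Eq.trans ?_ (congrArg Subtype.val (eval_ofLift D _ a y e)).symm
    have e₀ : a ≫ x₀ ≫ u i = y ≫ u k := by rw [h, e]
    have e₁ : a ≫ x₀ ≫ u i = (a ≫ x₀) ≫ u i := (Category.assoc _ _ _).symm
    refine (Sec.eval_congr _ (Category.comp_id a) rfl _ e₀).trans ?_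
    rw [← σ.eval_compat a (a ≫ x₀) y e₁ e₀]
    have e₂ : (a ≫ x₀) ≫ u i = (a ≫ x₁) ≫ u j := by rw [Category.assoc, h, Category.assoc]
    let z₀ : Desc.Lifts (D.obj i) x₀ := (E i x₀).symm σ
    have hz₀ : σ.eval a (a ≫ x₀) e₁ = ⟨a ≫ z₀.1, by rw [Category.assoc, z₀.2]⟩ :=
      Subtype.ext (σ.eval_natural a (𝟙 T) x₀ (Category.id_comp _) _ _ (Category.comp_id a) rfl e₁)
    rw [hz₀]
    have hn : D.φ (a ≫ x₀) (a ≫ x₁) e₂ ⟨a ≫ z₀.1, by rw [Category.assoc, z₀.2]⟩ =
        ⟨a ≫ (D.φ x₀ x₁ h z₀).1, by rw [Category.assoc, (D.φ x₀ x₁ h z₀).2]⟩ :=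
      Subtype.ext (D.φ_natural a x₀ x₁ h _ _ rfl rfl e₂ z₀ _ rfl)
    rw [← hn, D.φ_comp]
  · show (pullPt w (repFam R) i x).symm _ = z
    rw [Equiv.apply_symm_apply, Equiv.symm_apply_apply, Equiv.symm_apply_apply]
  · show (E i x).symm _ = z
    rw [Equiv.apply_symm_apply, Equiv.apply_symm_apply, Equiv.symm_apply_apply]

/-- Pullback of descent data along a Zariski refinement is an equivalence. -/
theorem isEquivalence_of_zariski (hcov : ∀ j, Presieve.ofArrows (fun k : {i // α i = j} => U k.1)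
      (fibFam g j) ∈ Scheme.zariskiPrecoverage (V j)) : (Desc.pullDDFam w).IsEquivalence where
  faithful := faithful_of_cover w fun j => Scheme.zariskiPrecoverage_le_fpqcPrecoverage _ (hcov j)
  full := full_of_cover w fun j => Scheme.zariskiPrecoverage_le_fpqcPrecoverage _ (hcov j)
  essSurj := essSurj_of_zariski w hcov

end Groth.Agent.SchDesc12
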